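import Groth.Agent.FlatMorFlatten.SubChart

/-! Flattening of schemes of finite type by admissible blow-ups. -/

set_option autoImplicit false
set_option backward.isDefEq.respectTransparency false
set_option linter.style.haveILetI false

universe u

open CategoryTheory CategoryTheory.Limits AlgebraicGeometry TopologicalSpace Opposite Function
open Groth.Agent.Coherent

namespace Groth.Agent.FlatMorFlatten

open Groth.Agent

variable {X S : Scheme.{u}}

/-- A blow-up making finitely many admissible ideals principal, with the control needed on small affines. -/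
theorem exists_blowUp_centre [CompactSpace S] [QuasiSeparatedSpace S] (U : S.Opens) (Z : S.IdealSheafData)
    (hZ : BlowUp.IsFiniteTypeIdeal Z) (hZs : (Z.support : Set S) = (U : Set S)ᶜ) {ι : Type u} (t : Finset ι)
    (K : ι → S.IdealSheafData) (hK : ∀ i, BlowUp.IsAdmissibleFor U (K i)) :
    ∃ (𝓘 : S.IdealSheafData) (S' : Scheme.{u}) (b : S' ⟶ S), BlowUp.IsBlowUp b 𝓘 ∧ BlowUp.IsAdmissibleFor U 𝓘 ∧
      (𝓘.support : Set S) = (U : Set S)ᶜ ∧
      ∀ i ∈ t, ∀ (W : S.affineOpens) (zs : Finset Γ(S, W.1)), Ideal.span (zs : Set Γ(S, W.1)) = Z.ideal W →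
        ∀ y : S', b.base y ∈ W.1 → ∃ (W' : S'.affineOpens) (eb : W'.1 ≤ b ⁻¹ᵁ W.1) (a : Γ(S', W'.1)),
          y ∈ W'.1 ∧ a ∈ nonZeroDivisors Γ(S', W'.1) ∧ (𝓘.comap b).ideal W' = Ideal.span {a} ∧
          (∀ z ∈ zs, (b.appLE W.1 W'.1 eb).hom z ∈ (Ideal.span {a}).radical) ∧
          a ∈ ((Ideal.span (zs : Set Γ(S, W.1))).map (b.appLE W.1 W'.1 eb).hom).radical ∧
          ∃ K' : Ideal Γ(S', W'.1), ((K i).ideal W).map (b.appLE W.1 W'.1 eb).hom * K' = Ideal.span {a} := by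
  classical
  obtain ⟨Pr, hPr, hPrs, hPrle, hPrc⟩ := FlatMorBlowFree.exists_prod' t K fun x _ => (hK x).1
  have hs : ((Z * Pr).support : Set S) = (U : Set S)ᶜ := by
    rw [Scheme.IdealSheafData.support_mul]
    refine Set.Subset.antisymm ?_ fun x hx => Or.inl (hZs.ge hx)
    rintro x (hx | hx)
    · exact hZs.le hx
    · obtain ⟨i, -, hi⟩ := hPrs x hx
      exact fun h => Set.disjoint_left.1 (hK i).2 hi h
  have hft' : BlowUp.IsFiniteTypeIdeal (Z * Pr) := fun A => by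
    rw [Scheme.IdealSheafData.ideal_mul, Pi.mul_apply]
    exact (hZ A).mul (hPr A)
  obtain ⟨S', b, hb⟩ := BlowUpLib.exists_isBlowUp (I := Z * Pr)
  refine ⟨Z * Pr, S', b, hb, ⟨hft', by rw [hs]; exact disjoint_compl_left⟩, hs, fun x hxt W zs hzs y hbW => ?_⟩
  obtain ⟨A₁, hA₁, a₁, ha₁, hA₁a⟩ := hb.1 y
  have hKc : BlowUp.IsEffCartierIdeal ((K x).comap b) :=
    hPrc S' b (by
      have := hb.1
      rw [ModPairLib.comap_mul] at this
      exact SDiv28.isEffCartier_right_of_mul this) x hxt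
  obtain ⟨A₂, hA₂, c₂, -, hA₂c⟩ := hKc y
  obtain ⟨W', hyW', hle⟩ := BlowUpLib.exists_affine_mem_le
    (show y ∈ (A₁.1 ⊓ A₂.1) ⊓ b ⁻¹ᵁ W.1 from ⟨⟨hA₁, hA₂⟩, hbW⟩)
  have e₁ : W'.1 ≤ A₁.1 := hle.trans (inf_le_left.trans inf_le_left)
  have e₂ : W'.1 ≤ A₂.1 := hle.trans (inf_le_left.trans inf_le_right)
  have eb : W'.1 ≤ b ⁻¹ᵁ W.1 := hle.trans inf_le_right
  let a := ModPairLib.res e₁ a₁
  have ha : a ∈ nonZeroDivisors Γ(S', W'.1) := ModPairLib.res_mem_nonZeroDivisors (V := W') e₁ ha₁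
  have haI : ((Z * Pr).comap b).ideal W' = Ideal.span {a} := by
    rw [← ((Z * Pr).comap b).map_ideal (U := W') (V := A₁) e₁, hA₁a, Ideal.map_span, Set.image_singleton]
    rfl
  let τ := (b.appLE W.1 W'.1 eb).hom
  have hIτ : ((Z * Pr).ideal W).map τ = Ideal.span {a} :=
    (ProjLib.comap_ideal_eq (Z * Pr) b W W' eb).symm.trans haI
  refine ⟨W', eb, a, hyW', ha, haI, fun z hz => ?_, ?_, ?_⟩
  · rw [← hIτ]
    exact Ideal.map_radical_le _ (Ideal.mem_map_of_mem τ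
      (le_radical_ideal (Z * Pr) Z W (hs.le.trans hZs.ge) (hzs.le (Ideal.subset_span hz))))
  · refine Ideal.le_radical ?_
    rw [hzs]
    refine Ideal.map_mono ?_ (hIτ.ge (Ideal.mem_span_singleton_self a))
    rw [Scheme.IdealSheafData.ideal_mul, Pi.mul_apply]
    exact Ideal.mul_le_left
  · have hKτ : ((K x).ideal W).map τ = Ideal.span {ModPairLib.res e₂ c₂} := by
      rw [← ProjLib.comap_ideal_eq (K x) b W W' eb, ← ((K x).comap b).map_ideal (U := W') (V := A₂) e₂, hA₂c,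
        Ideal.map_span, Set.image_singleton]
      rfl
    have hle' : (Z * Pr).ideal W ≤ (K x).ideal W := by
      rw [Scheme.IdealSheafData.ideal_mul, Pi.mul_apply]
      exact Ideal.mul_le_right.trans (hPrle x hxt W)
    have h1 : a ∈ Ideal.span {ModPairLib.res e₂ c₂} :=
      hKτ ▸ Ideal.map_mono hle' (hIτ.ge (Ideal.mem_span_singleton_self a))
    obtain ⟨d, hd⟩ := Ideal.mem_span_singleton'.1 h1
    exact ⟨Ideal.span {d}, by rw [hKτ, Ideal.span_singleton_mul_span_singleton, mul_comm, hd]⟩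

attribute [local instance] Algebra.TensorProduct.rightAlgebra in
set_option maxHeartbeats 2000000 in
/-- **Flattening of a scheme of finite type by an admissible blow-up.** -/
theorem exists_flattening_scheme [CompactSpace S] [QuasiSeparatedSpace S] (f : X ⟶ S) [LocallyOfFiniteType f]
    [QuasiCompact f] [QuasiSeparated f] (U : S.Opens) (hU : IsCompact (U : Set S))
    [Flat (f ∣_ U)] [LocallyOfFinitePresentation (f ∣_ U)] :
    ∃ (𝓘 : S.IdealSheafData) (S' : Scheme.{u}) (b : S' ⟶ S), BlowUp.IsBlowUp b 𝓘 ∧ BlowUp.IsAdmissibleFor U 𝓘 ∧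
      (𝓘.support : Set S) = (U : Set S)ᶜ ∧
      ∀ (X' : Scheme.{u}) (p₁ : X' ⟶ X) (p₂ : X' ⟶ S'), IsPullback p₁ p₂ f b →
      ∀ (𝒥 : X'.IdealSheafData),
        (∀ (V : X'.affineOpens) (a : Γ(X', V.1)), a ∈ 𝒥.ideal V ↔
          BlowUp.KilledByPowerNear ((𝓘.comap f).comap p₁) (Coh.structureModule X') V a) →
        Flat (𝒥.subschemeι ≫ p₂) ∧ LocallyOfFinitePresentation (𝒥.subschemeι ≫ p₂) ∧
          QuasiCompact (𝒥.subschemeι ≫ p₂) ∧ QuasiSeparated (𝒥.subschemeι ≫ p₂) := by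
  classical
  have : CompactSpace X := QuasiCompact.compactSpace_of_compactSpace f
  obtain ⟨Z, hZ, hZs⟩ := BlowUpLib.exists_finiteType_support_eq ((U : Set S)ᶜ) U.2.isClosed_compl
    (by rwa [compl_compl])
  have hloc : ∀ x : X, ∃ (W : S.affineOpens) (P : X.affineOpens) (e : P.1 ≤ f ⁻¹ᵁ W.1) (zs : Finset Γ(S, W.1))
      (K : S.IdealSheafData) (Pol : Type u) (_ : CommRing Pol) (_ : Algebra Γ(S, W.1) Pol)
      (_ : Algebra.FinitePresentation Γ(S, W.1) Pol) (_ : Algebra Pol Γ(X, P.1))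
      (htow : letI := (f.appLE W.1 P.1 e).hom.toAlgebra; IsScalarTower Γ(S, W.1) Pol Γ(X, P.1)),
      x ∈ P.1 ∧ Ideal.span (zs : Set Γ(S, W.1)) = Z.ideal W ∧ BlowUp.IsAdmissibleFor U K ∧
      Surjective (algebraMap Pol Γ(X, P.1)) ∧
      (letI := (f.appLE W.1 P.1 e).hom.toAlgebra
       haveI := htow
       ∀ z ∈ zs, Good Γ(S, W.1) Pol Γ(X, P.1) z) ∧
      (letI := (f.appLE W.1 P.1 e).hom.toAlgebra
       Flattens (K.ideal W) Γ(X, P.1)) := by
    intro x
    obtain ⟨W, hW, -⟩ := BlowUpLib.exists_affine_mem_le (show f.base x ∈ (⊤ : S.Opens) from trivial)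
    obtain ⟨P, hxP, e⟩ := BlowUpLib.exists_affine_mem_le (show x ∈ f ⁻¹ᵁ W.1 from hW)
    obtain ⟨zs, hzs⟩ := hZ W
    let _ := (f.appLE W.1 P.1 e).hom.toAlgebra
    have : Algebra.FiniteType Γ(S, W.1) Γ(X, P.1) :=
      HasRingHomProperty.appLE @LocallyOfFiniteType f inferInstance W P e
    obtain ⟨s, φ, hφ⟩ := Algebra.FiniteType.iff_quotient_mvPolynomial''.1 this
    let Pol := MvPolynomial (Fin s) Γ(S, W.1)
    let _ : Algebra Pol Γ(X, P.1) := φ.toRingHom.toAlgebra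
    have htow : IsScalarTower Γ(S, W.1) Pol Γ(X, P.1) := .of_algebraMap_eq fun r => (φ.commutes r).symm
    have : Module.Finite Pol Γ(X, P.1) := Module.Finite.of_surjective (Algebra.linearMap Pol Γ(X, P.1)) hφ
    have hgood : ∀ z ∈ zs, Good Γ(S, W.1) Pol Γ(X, P.1) z := fun z hz =>
      good_presentation f U W P e φ (fun _ => rfl) hφ z
        (basicOpen_le_of_mem_ideal Z U hZs W (hzs.le (Submodule.subset_span hz)))
    obtain ⟨n, hn⟩ := exists_supportDim_lt (R := Γ(S, W.1)) (B := Pol) Γ(X, P.1)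
    obtain ⟨J, hJ, -, hZJ, hflat⟩ := flattenBelow n Γ(S, W.1) Pol Γ(X, P.1) zs hgood fun p _ => hn p
    obtain ⟨K, hK, hKW⟩ := exists_extend_affine U hU W J hJ Z hZs (hzs.ge.trans hZJ)
    exact ⟨W, P, e, zs, K, Pol, inferInstance, inferInstance, inferInstance, inferInstance, htow, hxP, hzs, hK, hφ,
      hgood, by rw [hKW]; exact hflat⟩
  choose W P e zs K Pol iP iAP iFP iPB htow hxP hzs hK hsurj hgood hflat using hloc
  obtain ⟨t, ht⟩ := isCompact_univ.elim_finite_subcover (fun x => ((P x).1 : Set X)) (fun x => (P x).1.isOpen)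
    fun x _ => Set.mem_iUnion.2 ⟨x, hxP x⟩
  obtain ⟨𝓘, S', b, hb, hadm, hs, hc⟩ := exists_blowUp_centre U Z hZ hZs t K hK
  refine ⟨𝓘, S', b, hb, hadm, hs, fun X' p₁ p₂ H 𝒥 h𝒥 => ?_⟩
  have hp₂ : QuasiCompact p₂ := MorphismProperty.of_isPullback H inferInstance
  have hp₂' : QuasiSeparated p₂ := MorphismProperty.of_isPullback H inferInstance
  have hmain : ∀ z : 𝒥.subscheme, ∃ (A : S'.affineOpens) (B : 𝒥.subscheme.affineOpens) (_ : z ∈ B.1)
      (eAB : B.1 ≤ (𝒥.subschemeι ≫ p₂) ⁻¹ᵁ A.1), RingHom.Flat ((𝒥.subschemeι ≫ p₂).appLE A.1 B.1 eAB).hom ∧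
        RingHom.FinitePresentation ((𝒥.subschemeι ≫ p₂).appLE A.1 B.1 eAB).hom := by
    intro z
    let y := 𝒥.subschemeι.base z
    obtain ⟨x, hxt, hyx⟩ := Set.mem_iUnion₂.1 (ht (Set.mem_univ (p₁.base y)))
    have hbW : b.base (p₂.base y) ∈ (W x).1 := by
      rw [← Scheme.Hom.comp_apply, ← H.w, Scheme.Hom.comp_apply]
      exact e x hyx
    obtain ⟨W', eb, a, hyW', ha, haI, hza, haz, hKK⟩ := hc x hxt (W x) (zs x) (hzs x) (p₂.base y) hbW
    obtain ⟨h1, h2⟩ := sub_flat_fp_chart f (W x) (P x) (e x) (zs x) (htow x) (hsurj x) (hgood x) _ (hflat x) 𝓘 b W'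
      eb ha haI hza haz hKK p₁ p₂ H 𝒥 h𝒥
    have hV := EGA43.InjFibre.isAffineOpen_inf_preimage H (W x).2 (P x).2 W'.2 (e x) eb
    exact ⟨W', ⟨_, hV.preimage 𝒥.subschemeι⟩, ⟨hyx, hyW'⟩, fun _ hx => hx.2, h1, h2⟩
  refine ⟨?_, ?_, inferInstance, inferInstance⟩
  · refine (HasRingHomProperty.iff_exists_appLE (P := @Flat)
      (RingHom.Flat.stableUnderComposition.stableUnderCompositionWithLocalizationAway
        RingHom.Flat.holdsForLocalizationAway).left).2 fun z => ?_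
    obtain ⟨A, B, hz, eAB, h, -⟩ := hmain z
    exact ⟨A, B, hz, eAB, h⟩
  · refine (HasRingHomProperty.iff_exists_appLE (P := @LocallyOfFinitePresentation)
      (RingHom.finitePresentation_stableUnderComposition.stableUnderCompositionWithLocalizationAway
        RingHom.finitePresentation_holdsForLocalizationAway).left).2 fun z => ?_
    obtain ⟨A, B, hz, eAB, -, h⟩ := hmain z
    exact ⟨A, B, hz, eAB, h⟩

end Groth.Agent.FlatMorFlatten
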