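import Groth.Agent.FlatMorFlatten.FiniteType
import Mathlib.RingTheory.RingHom.Flat
import Mathlib.RingTheory.RingHom.FinitePresentation

/-! The strict transform of a scheme of finite type on one affine piece. -/

set_option autoImplicit false
set_option backward.isDefEq.respectTransparency false
set_option linter.style.haveILetI false

universe u

open CategoryTheory CategoryTheory.Limits AlgebraicGeometry TopologicalSpace Opposite Function
open Groth.Agent.Coherent
open scoped TensorProduct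

namespace Groth.Agent.FlatMorFlatten

open Groth.Agent

variable {X S : Scheme.{u}}

/-- The base change of a presentation to the chart, with the quotient by the torsion. -/
theorem algebra_flat_fp_of_centre {R Pol B L B' Q : Type u} [CommRing R] [CommRing Pol] [CommRing B] [CommRing L]
    [CommRing B'] [CommRing Q] [Algebra R Pol] [Algebra.FinitePresentation R Pol] [Algebra R B] [Algebra Pol B]
    [IsScalarTower R Pol B] (hsurj : Surjective (algebraMap Pol B)) [Algebra R L] [Algebra L B'] [Algebra B B']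
    [Algebra R B'] [IsScalarTower R L B'] [IsScalarTower R B B'] [Algebra.IsPushout R L B B'] [Algebra B' Q]
    [Algebra L Q] [IsScalarTower L B' Q] (hQ : Surjective (algebraMap B' Q)) {a : L} (ha : a ∈ nonZeroDivisors L)
    (hk : ∀ m, algebraMap B' Q m = 0 ↔ ∃ n : ℕ, algebraMap L B' a ^ n * m = 0) (zs : Finset R)
    (hgood : ∀ z ∈ zs, Good R Pol B z) {J : Ideal R} (hJ : Flattens J B)
    (hK : ∃ K : Ideal L, J.map (algebraMap R L) * K = Ideal.span {a})
    (hza : ∀ z ∈ zs, algebraMap R L z ∈ (Ideal.span {a}).radical)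
    (haz : a ∈ ((Ideal.span (zs : Set R)).map (algebraMap R L)).radical) :
    Module.Flat L Q ∧ Algebra.FinitePresentation L Q := by
  let C := L ⊗[R] Pol
  let toB' : C →ₐ[L] B' := Algebra.TensorProduct.lift (Algebra.ofId L B')
    ((IsScalarTower.toAlgHom R B B').comp (IsScalarTower.toAlgHom R Pol B)) fun _ _ => Commute.all _ _
  let _ : Algebra C B' := toB'.toRingHom.toAlgebra
  have : IsScalarTower L C B' := .of_algebraMap_eq fun l => (toB'.commutes l).symm
  let _ : Algebra Pol C := Algebra.TensorProduct.rightAlgebra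
  let _ : Algebra Pol B' := ((algebraMap B B').comp (algebraMap Pol B)).toAlgebra
  have : IsScalarTower Pol B B' := .of_algebraMap_eq fun _ => rfl
  have : IsScalarTower Pol C B' := .of_algebraMap_eq fun p => by
    show algebraMap B B' (algebraMap Pol B p) = toB' ((1 : L) ⊗ₜ p)
    refine ((Algebra.TensorProduct.lift_tmul _ _ _ (1 : L) p).trans ?_).symm
    rw [map_one, one_mul]
    rfl
  have : IsScalarTower R Pol B' := .of_algebraMap_eq fun r => by
    show algebraMap R B' r = algebraMap B B' (algebraMap Pol B (algebraMap R Pol r))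
    rw [← IsScalarTower.algebraMap_apply R Pol B, ← IsScalarTower.algebraMap_apply R B B']
  have : IsScalarTower R C B' := .of_algebraMap_eq fun r => by
    rw [IsScalarTower.algebraMap_apply R L B', IsScalarTower.algebraMap_apply R L C,
      ← IsScalarTower.algebraMap_apply L C B']
  have : Algebra.IsPushout R B L B' := Algebra.IsPushout.symm inferInstance
  have : Algebra.IsPushout R Pol L C := Algebra.IsPushout.symm inferInstance
  have h1 : Algebra.IsPushout Pol B C B' :=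
    (Algebra.IsPushout.comp_iff (R := R) (S := Pol) (R' := L) (S' := C) (T := B) (T' := B')).1 inferInstance
  have h2 : Algebra.IsPushout Pol C B B' := h1.symm
  have : Module.Finite Pol B := Module.Finite.of_surjective (Algebra.linearMap Pol B) hsurj
  let μ : B →ₗ[Pol] B' := (IsScalarTower.toAlgHom Pol B B').toLinearMap
  have hμ : IsBaseChange C μ := h2.out
  let _ : Algebra C Q := ((algebraMap B' Q).comp (algebraMap C B')).toAlgebra
  have : IsScalarTower C B' Q := .of_algebraMap_eq fun _ => rfl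
  have : IsScalarTower L C Q := .of_algebraMap_eq fun l => by
    show algebraMap L Q l = algebraMap B' Q (algebraMap C B' (algebraMap L C l))
    rw [← IsScalarTower.algebraMap_apply L C B', ← IsScalarTower.algebraMap_apply L B' Q]
  let π : B' →ₗ[C] Q := (Algebra.linearMap B' Q).restrictScalars C
  have hπ : IsTorQuot (algebraMap L C a) π := ⟨hQ, fun m => (hk m).trans (exists_congr fun n => by
    rw [Algebra.smul_def, map_pow, ← IsScalarTower.algebraMap_apply L C B'])⟩
  obtain ⟨hfl, hfp⟩ := flat_fp_of_centre (R := R) (L := L) (B := Pol) (B' := C) μ hμ π ha hπ zs hgood hJ hK hza haz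
  have : Algebra.FinitePresentation L C := Algebra.FinitePresentation.baseChange L
  refine ⟨hfl, ?_⟩
  have hsC : Surjective (algebraMap C Q) := by
    have hCB : Surjective (algebraMap C B') := fun b => by
      obtain ⟨t, rfl⟩ := (Algebra.IsPushout.equiv R L B B').surjective b
      induction t using TensorProduct.induction_on with
      | zero => exact ⟨0, by rw [map_zero, map_zero]⟩
      | tmul l x =>
        obtain ⟨p, rfl⟩ := hsurj x
        refine ⟨l ⊗ₜ p, ?_⟩
        show toB' (l ⊗ₜ p) = _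
        refine (Algebra.TensorProduct.lift_tmul _ _ _ l p).trans ?_
        rw [Algebra.IsPushout.equiv_tmul]
        rfl
      | add u v hu hv =>
        obtain ⟨u', hu⟩ := hu
        obtain ⟨v', hv⟩ := hv
        exact ⟨u' + v', by rw [map_add, map_add, hu, hv]⟩
    exact hQ.comp hCB
  refine Algebra.FinitePresentation.of_surjective (f := IsScalarTower.toAlgHom L C Q) hsC ?_
  exact Module.FinitePresentation.fg_ker (Algebra.linearMap C Q) hsC

set_option maxHeartbeats 1000000 in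
/-- On an affine piece where the centre is principal the strict transform of the scheme is flat and finitely
presented. -/
theorem sub_flat_fp_chart (f : X ⟶ S) (W : S.affineOpens) (P : X.affineOpens) (e : P.1 ≤ f ⁻¹ᵁ W.1)
    (zs : Finset Γ(S, W.1)) {Pol : Type u} [CommRing Pol] [Algebra Γ(S, W.1) Pol]
    [Algebra.FinitePresentation Γ(S, W.1) Pol] [Algebra Pol Γ(X, P.1)]
    (htow : letI := (f.appLE W.1 P.1 e).hom.toAlgebra
      IsScalarTower Γ(S, W.1) Pol Γ(X, P.1))
    (hsurj : Surjective (algebraMap Pol Γ(X, P.1)))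
    (hgood : letI := (f.appLE W.1 P.1 e).hom.toAlgebra
      haveI := htow
      ∀ z ∈ zs, Good Γ(S, W.1) Pol Γ(X, P.1) z)
    (J : Ideal Γ(S, W.1))
    (hJ : letI := (f.appLE W.1 P.1 e).hom.toAlgebra
      Flattens J Γ(X, P.1))
    (𝓘 : S.IdealSheafData) {S' X' : Scheme.{u}} (b : S' ⟶ S) (W' : S'.affineOpens) (eb : W'.1 ≤ b ⁻¹ᵁ W.1)
    {a : Γ(S', W'.1)} (ha : a ∈ nonZeroDivisors Γ(S', W'.1)) (haI : (𝓘.comap b).ideal W' = Ideal.span {a})
    (hza : ∀ z ∈ zs, (b.appLE W.1 W'.1 eb).hom z ∈ (Ideal.span {a}).radical)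
    (haz : a ∈ ((Ideal.span (zs : Set Γ(S, W.1))).map (b.appLE W.1 W'.1 eb).hom).radical)
    (hK : ∃ K : Ideal Γ(S', W'.1), J.map (b.appLE W.1 W'.1 eb).hom * K = Ideal.span {a})
    (p₁ : X' ⟶ X) (p₂ : X' ⟶ S') (H : IsPullback p₁ p₂ f b) (𝒥 : X'.IdealSheafData)
    (h𝒥 : ∀ (V : X'.affineOpens) (c : Γ(X', V.1)), c ∈ 𝒥.ideal V ↔
      BlowUp.KilledByPowerNear ((𝓘.comap f).comap p₁) (Coh.structureModule X') V c) :
    RingHom.Flat ((𝒥.subschemeι ≫ p₂).appLE W'.1 (𝒥.subschemeι ⁻¹ᵁ (p₁ ⁻¹ᵁ P.1 ⊓ p₂ ⁻¹ᵁ W'.1))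
      (fun _ hx => hx.2)).hom ∧
    RingHom.FinitePresentation ((𝒥.subschemeι ≫ p₂).appLE W'.1 (𝒥.subschemeι ⁻¹ᵁ (p₁ ⁻¹ᵁ P.1 ⊓ p₂ ⁻¹ᵁ W'.1))
      (fun _ hx => hx.2)).hom := by
  set V := p₁ ⁻¹ᵁ P.1 ⊓ p₂ ⁻¹ᵁ W'.1 with hVdef
  have hV : IsAffineOpen V := EGA43.InjFibre.isAffineOpen_inf_preimage H W.2 P.2 W'.2 e eb
  have eP : V ≤ p₁ ⁻¹ᵁ P.1 := inf_le_left
  have eW : V ≤ p₂ ⁻¹ᵁ W'.1 := inf_le_right
  have hp := (isIso_pushoutSection_iff H eb e hVdef).1
    (isIso_pushoutSection_of_isAffineOpen H eb e hVdef W.2 W'.2 P.2)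
  let _ := (f.appLE W.1 P.1 e).hom.toAlgebra
  have := htow
  let _ := (b.appLE W.1 W'.1 eb).hom.toAlgebra
  let _ := (p₁.appLE P.1 V eP).hom.toAlgebra
  let _ := (p₂.appLE W'.1 V eW).hom.toAlgebra
  let _ : Algebra Γ(S, W.1) Γ(X', V) := ((p₁.appLE P.1 V eP).hom.comp (f.appLE W.1 P.1 e).hom).toAlgebra
  have : IsScalarTower Γ(S, W.1) Γ(X, P.1) Γ(X', V) := .of_algebraMap_eq fun _ => rfl
  have : IsScalarTower Γ(S, W.1) Γ(S', W'.1) Γ(X', V) :=
    .of_algebraMap_eq fun r => ConcreteCategory.congr_hom hp.w r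
  have : Algebra.IsPushout Γ(S, W.1) Γ(X, P.1) Γ(S', W'.1) Γ(X', V) := CommRingCat.isPushout_iff_isPushout.1 hp
  have : Algebra.IsPushout Γ(S, W.1) Γ(S', W'.1) Γ(X, P.1) Γ(X', V) := Algebra.IsPushout.symm inferInstance
  let V₀ : 𝒥.subscheme.Opens := 𝒥.subschemeι ⁻¹ᵁ V
  let _ : Algebra Γ(X', V) Γ(𝒥.subscheme, V₀) := (𝒥.subschemeι.app V).hom.toAlgebra
  let _ : Algebra Γ(S', W'.1) Γ(𝒥.subscheme, V₀) :=
    ((𝒥.subschemeι ≫ p₂).appLE W'.1 V₀ (fun _ hx => hx.2)).hom.toAlgebra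
  have : IsScalarTower Γ(S', W'.1) Γ(X', V) Γ(𝒥.subscheme, V₀) := .of_algebraMap_eq fun r => by
    show ((𝒥.subschemeι ≫ p₂).appLE W'.1 V₀ _).hom r = (𝒥.subschemeι.app V).hom ((p₂.appLE W'.1 V eW).hom r)
    rw [← Scheme.Hom.appLE_comp_appLE (f := 𝒥.subschemeι) (g := p₂) W'.1 V V₀ eW le_rfl, CommRingCat.hom_comp,
      RingHom.comp_apply, Scheme.Hom.appLE_eq_app]
  have hE : (𝓘.comap f).comap p₁ = (𝓘.comap b).comap p₂ := by
    rw [← Scheme.IdealSheafData.comap_comp, H.w, Scheme.IdealSheafData.comap_comp]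
  have hEV : ((𝓘.comap b).comap p₂).ideal ⟨V, hV⟩ = Ideal.span {algebraMap Γ(S', W'.1) Γ(X', V) a} := by
    rw [ProjLib.comap_ideal_eq (𝓘.comap b) p₂ W' ⟨V, hV⟩ eW, haI, Ideal.map_span, Set.image_singleton]
    rfl
  have hk : ∀ m, algebraMap Γ(X', V) Γ(𝒥.subscheme, V₀) m = 0 ↔
      ∃ n : ℕ, algebraMap Γ(S', W'.1) Γ(X', V) a ^ n * m = 0 := fun m => by
    rw [← RingHom.mem_ker]
    show m ∈ RingHom.ker (𝒥.subschemeι.app (⟨V, hV⟩ : X'.affineOpens).1).hom ↔ _
    rw [𝒥.ker_subschemeι_app, h𝒥, hE]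
    refine exists_congr fun n => ⟨fun h => h _ ?_, fun h c hc => ?_⟩
    · rw [Scheme.IdealSheafData.ideal_pow, Pi.pow_apply, hEV]
      exact Ideal.pow_mem_pow (Ideal.mem_span_singleton_self _) n
    · rw [Scheme.IdealSheafData.ideal_pow, Pi.pow_apply, hEV, Ideal.span_singleton_pow,
        Ideal.mem_span_singleton'] at hc
      obtain ⟨d, rfl⟩ := hc
      show (d * _) * m = 0
      rw [mul_assoc, h, mul_zero]
  obtain ⟨h1, h2⟩ := algebra_flat_fp_of_centre (R := Γ(S, W.1)) (Pol := Pol) (B := Γ(X, P.1)) (L := Γ(S', W'.1))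
    (B' := Γ(X', V)) hsurj (Q := Γ(𝒥.subscheme, V₀)) (𝒥.subschemeι_app_surjective ⟨V, hV⟩) ha hk zs hgood hJ hK
    hza haz
  exact ⟨h1, h2⟩

end Groth.Agent.FlatMorFlatten
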