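import Groth.Agent.FlatMorFlatten.StalkStrict
import Groth.Agent.FlatMorBlowFree.Killed
import Groth.Agent.FlatMorStrata.BaseChange
import Groth.Agent.Props12.FlatOver
import Groth.Agent.EGA43.DvrCrit.Main
import Groth.Agent.ModStalk.Exact
import Groth.Agent.BlowUpLib.Separate
import Mathlib.AlgebraicGeometry.Morphisms.Etale
import Mathlib.AlgebraicGeometry.PullbackCarrier

/-! A flat strict transform stays one on a dominating blow-up. -/

set_option autoImplicit false
set_option backward.isDefEq.respectTransparency.types false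
set_option linter.style.haveILetI false

universe u

open CategoryTheory CategoryTheory.Limits AlgebraicGeometry TopologicalSpace Opposite
open Groth.Agent.Coherent

namespace Groth.Agent.FlatMorFlatten

open Groth.Agent
open Groth.Agent.Misc15.DivDescent (stk stk_eq stk_span stk_comap germ_mem_nonZeroDivisors)

variable {X Y S : Scheme.{u}}

/-- The open off a finite type ideal is retrocompact. -/
theorem quasiCompact_interior (I : X.IdealSheafData) (hI : BlowUp.IsFiniteTypeIdeal I) :
    QuasiCompact (ModPair.interior I).ι := by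
  refine quasiCompact_iff_forall_isAffineOpen.2 fun U hU => ?_
  set O := ModPair.interior I
  rw [O.ι.isOpenEmbedding.isInducing.isCompact_iff]
  obtain ⟨G, hG⟩ := hI ⟨U, hU⟩
  have : O.ι '' (O.ι ⁻¹ᵁ U : Set O.toScheme) = ⋃ g ∈ G, (X.basicOpen (g : Γ(X, U)) : Set X) := by
    ext x
    simp only [Set.mem_image, Set.mem_iUnion]
    constructor
    · rintro ⟨z, hz, rfl⟩
      by_contra hno
      refine z.2 ?_
      have : z.1 ∈ (I.support : Set X) ∩ (U : Set X) := by
        rw [I.coe_support_inter ⟨U, hU⟩, ← hG, X.zeroLocus_span]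
        exact ⟨(X.mem_zeroLocus_iff _ _).2 fun g hg hgy => hno ⟨g, hg, hgy⟩, hz⟩
      exact this.1
    · rintro ⟨g, hg, hx⟩
      have hxU : x ∈ U := X.basicOpen_le _ hx
      have hxO : x ∉ (I.support : Set X) := fun h => by
        rw [BlowUpLib.mem_support_iff_le_prm I ⟨U, hU⟩ hxU] at h
        exact (BlowUpLib.mem_prm hxU).1 (h (hG.le (Submodule.subset_span hg))) hx
      exact ⟨⟨x, hxO⟩, hxU, rfl⟩
  rw [this]
  exact G.finite_toSet.isCompact_biUnion fun g _ => (hU.basicOpen g).isCompact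

/-- Strict transforms exist. -/
theorem exists_isStrictTransform {X' : Scheme.{u}} (b : X' ⟶ X) (𝓘 : X.IdealSheafData) (F : X.Modules)
    [Coh.IsQCoh F] (hfg : BlowUp.IsFiniteTypeIdeal (𝓘.comap b)) :
    ∃ (G : X'.Modules) (π : (Scheme.Modules.pullback b).obj F ⟶ G),
      BlowUp.IsStrictTransform b 𝓘 F G π ∧ Coh.IsQCoh G := by
  let N := (Scheme.Modules.pullback b).obj F
  have : Coh.IsQCoh N := EGA43.InjFibre.isQCoh_pullback b F
  let O := ModPair.interior (𝓘.comap b)
  let η := (Scheme.Modules.restrictAdjunction O.ι).unit.app N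
  have := quasiCompact_interior _ hfg
  have : Coh.IsQCoh ((Scheme.Modules.restrictFunctor O.ι).obj N) := inferInstance
  have : Coh.IsQCoh ((Scheme.Modules.restrictFunctor O.ι ⋙ Scheme.Modules.pushforward O.ι).obj N) :=
    isQCoh_push O.ι _
  have : Coh.IsQCoh ((𝟭 X'.Modules).obj N) := ‹Coh.IsQCoh N›
  refine ⟨_, Abelian.factorThruImage η, ⟨inferInstance, fun V m => ?_⟩, isQCoh_image η⟩
  show (Abelian.factorThruImage η).app V.1 m = 0 ↔ BlowUp.KilledByPowerNear (𝓘.comap b) N V m
  rw [FlatMorBlowFree.killed_iff N _ hfg]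
  have h1 : (Abelian.factorThruImage η).app V.1 m = 0 ↔ η.app V.1 m = 0 := by
    have hfac : η.app V.1 m = (Abelian.image.ι η).app V.1 ((Abelian.factorThruImage η).app V.1 m) :=
      congrArg (fun t => t.app V.1 m) (Abelian.image.fac η).symm
    rw [hfac]
    exact ((injective_iff_map_eq_zero' _).1 (ModStalk.app_injective_of_mono (Abelian.image.ι η) V.1) _).symm
  rw [h1]
  have e1 : V.1 ⊓ O ≤ O.ι ''ᵁ (O.ι ⁻¹ᵁ V.1) := fun x hx => ⟨⟨x, hx.2⟩, hx.1, rfl⟩
  have e2 : O.ι ''ᵁ (O.ι ⁻¹ᵁ V.1) ≤ V.1 ⊓ O := by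
    rintro x ⟨y, hy, rfl⟩
    exact ⟨hy, y.2⟩
  have hη : η.app V.1 m = resM N (O.ι.image_preimage_le V.1) m :=
    ConcreteCategory.congr_hom (Scheme.Modules.restrictAdjunction_unit_app_app O.ι N V.1) m
  constructor
  · intro h
    have h' : resM N (O.ι.image_preimage_le V.1) m = 0 := hη.symm.trans h
    rw [← resM_resM N (O.ι.image_preimage_le V.1) e1, h', map_zero]
  · intro h
    refine hη.trans ?_
    rw [← resM_resM N (inf_le_left : V.1 ⊓ O ≤ V.1) e2, h, map_zero]
    rfl

/-- Flatness at a point depends only on the stalk as a module over the local ring. -/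
theorem isFlatOverAt_of_linearEquiv (f : X ⟶ Y) {F G : X.Modules} (x : X)
    (e : F.presheaf.stalk x ≃ₗ[X.presheaf.stalk x] G.presheaf.stalk x)
    (h : FlatMod.IsFlatOverAt f F x) : FlatMod.IsFlatOverAt f G x := by
  letI := (f.stalkMap x).hom.toAlgebra
  letI := FlatMod.moduleStalkOver f F x
  letI := FlatMod.moduleStalkOver f G x
  haveI : IsScalarTower (Y.presheaf.stalk (f x)) (X.presheaf.stalk x) (F.presheaf.stalk x) :=
    IsScalarTower.of_compHom _ _ _
  haveI : IsScalarTower (Y.presheaf.stalk (f x)) (X.presheaf.stalk x) (G.presheaf.stalk x) :=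
    IsScalarTower.of_compHom _ _ _
  haveI : Module.Flat (Y.presheaf.stalk (f x)) (F.presheaf.stalk x) := h
  exact Module.Flat.of_linearEquiv (e.restrictScalars (Y.presheaf.stalk (f x))).symm

/-- Flatness over the target of a flat morphism. -/
theorem isFlatOverAt_comp_of_flat (f : X ⟶ Y) (q : Y ⟶ S) [Flat q] (M : X.Modules) (x : X)
    (h : FlatMod.IsFlatOverAt f M x) : FlatMod.IsFlatOverAt (f ≫ q) M x := by
  letI : Algebra (S.presheaf.stalk ((f ≫ q).base x)) (Y.presheaf.stalk (f.base x)) :=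
    (q.stalkMap (f.base x)).hom.toAlgebra
  letI := FlatMod.moduleStalkOver (f ≫ q) M x
  letI := FlatMod.moduleStalkOver f M x
  haveI : IsScalarTower (S.presheaf.stalk ((f ≫ q).base x)) (Y.presheaf.stalk (f.base x)) (M.presheaf.stalk x) :=
    IsScalarTower.of_algebraMap_smul fun r m => by
      show (f.stalkMap x).hom ((q.stalkMap (f.base x)).hom r) • m = ((f ≫ q).stalkMap x).hom r • m
      rw [Scheme.Hom.stalkMap_comp]
      rfl
  haveI : Module.Flat (S.presheaf.stalk ((f ≫ q).base x)) (Y.presheaf.stalk (f.base x)) :=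
    Flat.stalkMap q (f.base x)
  haveI : Module.Flat (Y.presheaf.stalk (f.base x)) (M.presheaf.stalk x) := h
  exact Module.Flat.trans _ (Y.presheaf.stalk (f.base x)) _

/-- A non-zero-divisor of the base is regular on a module flat over it. -/
theorem isSMulRegular_of_flat (f : X ⟶ Y) (M : X.Modules) (x : X) (h : FlatMod.IsFlatOverAt f M x)
    {a : Y.presheaf.stalk (f.base x)} (ha : a ∈ nonZeroDivisors (Y.presheaf.stalk (f.base x))) :
    IsSMulRegular (M.presheaf.stalk x) ((f.stalkMap x).hom a) := by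
  letI := FlatMod.moduleStalkOver f M x
  haveI : Module.Flat (Y.presheaf.stalk (f.base x)) (M.presheaf.stalk x) := h
  exact fun z w hzw => Module.Flat.isSMulRegular_of_nonZeroDivisors ha hzw

/-- An effective Cartier ideal has locally principal pullbacks. -/
theorem exists_comap_principal (I : X.IdealSheafData) (hI : BlowUp.IsEffCartierIdeal I) (g : Y ⟶ X) (y : Y) :
    ∃ W : Y.affineOpens, y ∈ W.1 ∧ ∃ a₀, (I.comap g).ideal W = Ideal.span {a₀} := by
  obtain ⟨V, hV, a, -, haI⟩ := hI (g.base y)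
  obtain ⟨_, ⟨W, hW, rfl⟩, hyW, hle⟩ :=
    Y.isBasis_affineOpens.exists_subset_of_mem_open (show y ∈ g ⁻¹ᵁ V.1 from hV) (g ⁻¹ᵁ V.1).isOpen
  exact ⟨⟨W, hW⟩, hyW, g.appLE V.1 W hle a, by
    rw [ProjLib.comap_ideal_eq I g V ⟨W, hW⟩ hle, haI, Ideal.map_span, Set.image_singleton]⟩

set_option maxHeartbeats 800000 in
/-- If the strict transform of `j^* F` along the blow-up `b` of `Si` is flat, then so is that of `F` along
any `b'` whose base change to `Si` dominates `b`, at the points over the image of `j`. -/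
theorem flat_of_dominating {Si Xi Sst S' : Scheme.{u}} (f : X ⟶ S) (F : X.Modules) [Coh.IsQCoh F]
    (e : Si ⟶ S) [Flat e] (j : Xi ⟶ X) [Flat j] (fi : Xi ⟶ Si) (hcomm : j ≫ f = fi ≫ e)
    (Ii : Si.IdealSheafData) (hIi : BlowUp.IsFiniteTypeIdeal Ii) (b : Sst ⟶ Si) (hb : BlowUp.IsBlowUp b Ii)
    (hflat : ∀ (X' : Scheme.{u}) (p₁ : X' ⟶ Xi) (p₂ : X' ⟶ Sst), IsPullback p₁ p₂ fi b →
      ∀ (G : X'.Modules) (π : (Scheme.Modules.pullback p₁).obj ((Scheme.Modules.pullback j).obj F) ⟶ G),
        BlowUp.IsStrictTransform p₁ (Ii.comap fi) ((Scheme.Modules.pullback j).obj F) G π →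
          FlatMod.IsFlatOver p₂ G)
    (J : S.IdealSheafData) (hsupp : ∀ t : Si, t ∈ (Ii.support : Set Si) → e.base t ∈ (J.support : Set S))
    (b' : S' ⟶ S) (hJ : BlowUp.IsEffCartierIdeal (J.comap b'))
    (hI : BlowUp.IsEffCartierIdeal (Ii.comap (pullback.fst e b')))
    {X' : Scheme.{u}} (p₁ : X' ⟶ X) (p₂ : X' ⟶ S') (H : IsPullback p₁ p₂ f b')
    (G : X'.Modules) (π : (Scheme.Modules.pullback p₁).obj F ⟶ G)
    (hG : BlowUp.IsStrictTransform p₁ (J.comap f) F G π) (x' : X') (hx' : ∃ w : Xi, j.base w = p₁.base x') :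
    FlatMod.IsFlatOverAt p₂ G x' := by
  obtain ⟨w, hw⟩ := hx'
  obtain ⟨y, -, rfl⟩ := Scheme.Pullback.exists_preimage_pullback (f := j) (g := p₁) w x' hw
  -- the maps
  let T := pullback e b'
  let g : T ⟶ Si := pullback.fst e b'
  let e' : T ⟶ S' := pullback.snd e b'
  obtain ⟨h, hh, -⟩ := hb.2 T g hI
  let X'' := pullback j p₁
  let jX : X'' ⟶ X' := pullback.snd j p₁
  let r : X'' ⟶ Xi := pullback.fst j p₁
  let s : X'' ⟶ T := pullback.lift (r ≫ fi) (jX ≫ p₂) (by
    rw [Category.assoc, ← hcomm, ← Category.assoc, pullback.condition, Category.assoc, H.w, Category.assoc])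
  have hs1 : s ≫ g = r ≫ fi := pullback.lift_fst _ _ _
  have hs2 : s ≫ e' = jX ≫ p₂ := pullback.lift_snd _ _ _
  let Yi := pullback fi b
  let q₁ : Yi ⟶ Xi := pullback.fst fi b
  let q₂ : Yi ⟶ Sst := pullback.snd fi b
  let k : X'' ⟶ Yi := pullback.lift r (s ≫ h) (by rw [Category.assoc, hh, hs1])
  have hk1 : k ≫ q₁ = r := pullback.lift_fst _ _ _
  have hk2 : k ≫ q₂ = s ≫ h := pullback.lift_snd _ _ _
  -- the square
  have H1 : IsPullback r s fi g := by
    have Houter : IsPullback r (s ≫ e') (fi ≫ e) b' := by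
      rw [hs2, ← hcomm]
      exact (IsPullback.of_hasPullback j p₁).paste_vert H
    exact Houter.of_bot hs1.symm (IsPullback.of_hasPullback e b')
  have H2 : IsPullback k s q₂ h := by
    refine IsPullback.of_right ?_ hk2 (IsPullback.of_hasPullback fi b)
    rw [hk1, hh]
    exact H1
  -- the strict transform on `Yi`
  have : Coh.IsQCoh ((Scheme.Modules.pullback j).obj F) := EGA43.InjFibre.isQCoh_pullback j F
  have hfgY : BlowUp.IsFiniteTypeIdeal ((Ii.comap fi).comap q₁) :=
    FlatMorAdm.isFiniteType_comap q₁ _ (FlatMorAdm.isFiniteType_comap fi Ii hIi)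
  obtain ⟨Gi, πi, hGi, hGiq⟩ := exists_isStrictTransform q₁ (Ii.comap fi) ((Scheme.Modules.pullback j).obj F) hfgY
  have hflk : FlatMod.IsFlatOverAt q₂ Gi (k.base y) := hflat _ q₁ q₂ (IsPullback.of_hasPullback fi b) Gi πi hGi _
  -- the exceptional ideals
  let ET := (J.comap b').comap e'
  have eqE : ((J.comap f).comap p₁).comap jX = ET.comap s := by
    simp only [ET, ← Scheme.IdealSheafData.comap_comp]
    congr 1
    rw [H.w, ← Category.assoc, ← hs2, Category.assoc]
  have eqEY : ((Ii.comap fi).comap q₁).comap k = (Ii.comap g).comap s := by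
    simp only [← Scheme.IdealSheafData.comap_comp]
    congr 1
    rw [← Category.assoc, hk1, hs1]
  have eqEY' : (Ii.comap fi).comap q₁ = (Ii.comap b).comap q₂ := by
    simp only [← Scheme.IdealSheafData.comap_comp]
    congr 1
    exact pullback.condition
  -- generators
  obtain ⟨a_s, has, has'⟩ := Misc15.DivDescent.exists_gen hJ (e'.base (s.base y))
  set a_t : T.presheaf.stalk (s.base y) := (e'.stalkMap (s.base y)).hom a_s with hat
  have hat0 : a_t ∈ nonZeroDivisors (T.presheaf.stalk (s.base y)) := by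
    letI := (e'.stalkMap (s.base y)).hom.toAlgebra
    haveI : Module.Flat (S'.presheaf.stalk (e'.base (s.base y))) (T.presheaf.stalk (s.base y)) :=
      Flat.stalkMap e' (s.base y)
    rw [mem_nonZeroDivisors_iff_right]
    intro z hz
    refine (Module.Flat.isSMulRegular_of_nonZeroDivisors (M := T.presheaf.stalk (s.base y)) has).right_eq_zero_of_smul ?_
    rw [Algebra.smul_def, mul_comm]
    exact hz
  have hET : stk ET (s.base y) = Ideal.span {a_t} := by
    rw [stk_comap, has', Ideal.map_span, Set.image_singleton]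
  set a_y : X''.presheaf.stalk y := (s.stalkMap y).hom a_t with hay
  obtain ⟨c_t, -, hct⟩ := Misc15.DivDescent.exists_gen hI (s.base y)
  have hrad : a_t ∈ (Ideal.span {c_t}).radical := by
    obtain ⟨W, hyW, a₀, hW⟩ := exists_comap_principal _ hJ e' (s.base y)
    have hsub : ∀ z ∈ W.1, z ∈ ((Ii.comap g).support : Set T) → z ∈ (ET.support : Set T) := fun z _ hz => by
      rw [Scheme.IdealSheafData.support_comap] at hz
      simp only [ET, Scheme.IdealSheafData.support_comap]
      have h1 := hsupp _ hz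
      show b'.base (e'.base z) ∈ (J.support : Set S)
      rw [← Scheme.Hom.comp_apply, ← pullback.condition]
      exact h1
    have h2 := mem_radical_stk (Ii.comap g) ET W a₀ hW hsub (s.base y) hyW
    rw [hct] at h2
    have h3 : a_t ∈ Ideal.span {T.presheaf.germ W.1 (s.base y) hyW a₀} := by
      rw [← stk_span ET W hW hyW, hET]
      exact Ideal.mem_span_singleton_self _
    exact ((Ideal.span_singleton_le_iff_mem _).2 h2) h3
  -- the pullback of `π`
  have hπ : IsTorQuot a_y ((DerSch.stalkFunctor X'' y).map ((Scheme.Modules.pullback jX).map π)).hom := by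
    obtain ⟨W, hxW, a₀, hW⟩ : ∃ W : X'.affineOpens, jX.base y ∈ W.1 ∧
        ∃ a₀, ((J.comap f).comap p₁).ideal W = Ideal.span {a₀} := by
      rw [← Scheme.IdealSheafData.comap_comp, H.w, Scheme.IdealSheafData.comap_comp]
      exact exists_comap_principal _ hJ p₂ _
    have hx := isTorQuot_of_isStrictTransform hG (jX.base y) ⟨W, hxW, a₀, hW⟩ (stk_span _ W hW hxW)
    obtain ⟨hs', hk'⟩ := killed_pullback jX y π _ hx.1 fun m hm => (hx.2 m).1 hm
    refine (isTorQuot_of_regular hs' hk' (regular_pullback jX y hx.regular)).congr ?_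
    rw [← Set.image_singleton, ← Ideal.map_span, ← stk_span _ W hW hxW, ← stk_comap, eqE, stk_comap, hET,
      Ideal.map_span, Set.image_singleton]
  -- the pullback of `πi`
  have hflβ : FlatMod.IsFlatOverAt s ((Scheme.Modules.pullback k).obj Gi) y := by
    exact FlatMorStrata.isFlatOverAt_baseChange H2 Gi y hflk
  have hπi : IsTorQuot a_y ((DerSch.stalkFunctor X'' y).map ((Scheme.Modules.pullback k).map πi)).hom := by
    obtain ⟨W, hzW, c₀, hW⟩ : ∃ W : Yi.affineOpens, k.base y ∈ W.1 ∧
        ∃ c₀, ((Ii.comap fi).comap q₁).ideal W = Ideal.span {c₀} := by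
      rw [eqEY']
      exact exists_comap_principal _ hb.1 q₂ _
    have hz := isTorQuot_of_isStrictTransform hGi (k.base y) ⟨W, hzW, c₀, hW⟩ (stk_span _ W hW hzW)
    obtain ⟨hs', hk'⟩ := killed_pullback k y πi _ hz.1 fun m hm => (hz.2 m).1 hm
    refine isTorQuot_of_regular hs' (fun m hm => killed_of_mem_radical ?_ (hk' m hm))
      (isSMulRegular_of_flat s _ y hflβ hat0)
    rw [← Set.image_singleton, ← Ideal.map_span, ← stk_span _ W hW hzW, ← stk_comap, eqEY, stk_comap, hct]
    exact Ideal.map_radical_le _ (Ideal.mem_map_of_mem _ hrad)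
  -- compare
  let θ : (Scheme.Modules.pullback jX).obj ((Scheme.Modules.pullback p₁).obj F) ≅
      (Scheme.Modules.pullback k).obj ((Scheme.Modules.pullback q₁).obj ((Scheme.Modules.pullback j).obj F)) :=
    (Scheme.Modules.pullbackComp jX p₁).app F ≪≫ (Scheme.Modules.pullbackCongr (by
      rw [← Category.assoc, hk1]; exact pullback.condition.symm)).app F ≪≫
      ((Scheme.Modules.pullbackComp k (q₁ ≫ j)).app F).symm ≪≫
      (Scheme.Modules.pullback k).mapIso ((Scheme.Modules.pullbackComp q₁ j).app F).symm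
  let θy := ((DerSch.stalkFunctor X'' y).mapIso θ).toLinearEquiv
  have hπ' : IsTorQuot a_y
      (((DerSch.stalkFunctor X'' y).map ((Scheme.Modules.pullback k).map πi)).hom.comp θy.toLinearMap) := by
    refine ⟨hπi.1.comp θy.surjective, fun m => (hπi.2 (θy m)).trans (exists_congr fun n => ?_)⟩
    exact ⟨fun hm => θy.injective (by rw [map_smul, map_zero]; exact hm), fun hm => by
      rw [← map_smul]; exact (congrArg θy hm).trans (map_zero θy)⟩
  obtain ⟨ε⟩ := hπ'.exists_equiv hπ
  have h1 := isFlatOverAt_comp_of_flat s e' _ y (isFlatOverAt_of_linearEquiv s y ε hflβ)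
  rw [hs2] at h1
  exact (Props12.isFlatOverAt_pullback_iff jX p₂ G y (Flat.stalkMap jX y)).2 h1

end Groth.Agent.FlatMorFlatten
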