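import Groth.Agent.FlatMorBlowFree.Final
import Groth.Agent.FlatMorFlatten.Dominate
import Groth.Agent.CohDer1.FittFactorEtale
import Groth.Agent.SDiv28.BlowUp
import Groth.Agent.FlatMorAdm.ExtendOpen
import Groth.Agent.FlatMorStrata.Extend
import Mathlib.AlgebraicGeometry.Morphisms.Etale

/-! An admissible centre making the pull-back of a given centre on an etale cover invertible. -/

set_option autoImplicit false
set_option backward.isDefEq.respectTransparency.types false
set_option linter.style.haveILetI false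

universe u

open CategoryTheory CategoryTheory.Limits AlgebraicGeometry TopologicalSpace Opposite
open Groth.Agent.Coherent

namespace Groth.Agent.FlatMorFlatten

open Groth.Agent
open Groth.Agent.ModPairLib (res)

/-- An ideal up to an invertible factor descends along an etale map, with control of the radical. -/
theorem exists_centre_ring {A B : Type u} [CommRing A] [CommRing B] [Algebra A B] [Algebra.Etale A B]
    (s : Finset A) (J : Ideal B) (hJ : J.FG) (hs : ∀ a ∈ s, algebraMap A B a ∈ J.radical)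
    (q : Ideal B) [q.IsPrime] :
    ∃ (I : Ideal A) (g : B), I.FG ∧ (∀ a ∈ s, a ∈ I.radical) ∧ g ∉ q ∧
      ∀ (L : Type u) [CommRing L] [Algebra B L], IsUnit (algebraMap B L g) →
        ∃ J' : Ideal L, I.map ((algebraMap B L).comp (algebraMap A B)) = J.map (algebraMap B L) * J' := by
  classical
  induction s using Finset.induction with
  | empty =>
    refine ⟨⊥, 1, Submodule.fg_bot, fun a ha => absurd ha (Finset.notMem_empty a),
      (Ideal.ne_top_iff_one q).1 (Ideal.IsPrime.ne_top inferInstance), fun L _ _ _ => ⟨⊥, ?_⟩⟩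
    rw [Ideal.map_bot, Ideal.mul_bot]
  | @insert a s _ ih =>
    obtain ⟨I, g, hI, hIs, hg, hIg⟩ := ih fun x hx => hs x (Finset.mem_insert_of_mem hx)
    obtain ⟨I₁, g₁, J₁, hI₁, ha, hg₁, -, h₁⟩ :=
      CohDer1.FittFactor.exists_ideal_mul_eq a J hJ (hs a (Finset.mem_insert_self _ _)) q
    refine ⟨I ⊔ I₁, g * g₁, Submodule.FG.sup hI hI₁, fun x hx => ?_, fun h => ?_, fun L _ _ hu => ?_⟩
    · rcases Finset.mem_insert.1 hx with rfl | hx
      · exact Ideal.radical_mono le_sup_right ha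
      · exact Ideal.radical_mono le_sup_left (hIs x hx)
    · rcases Ideal.IsPrime.mem_or_mem inferInstance h with h | h
      exacts [hg h, hg₁ h]
    · rw [map_mul, IsUnit.mul_iff] at hu
      obtain ⟨J₀, hJ₀⟩ := hIg L hu.1
      let φ : Localization.Away g₁ →+* L := IsLocalization.Away.lift g₁ hu.2
      have hφ : φ.comp (algebraMap B (Localization.Away g₁)) = algebraMap B L := IsLocalization.Away.lift_comp g₁ hu.2
      refine ⟨J₀ ⊔ J₁.map φ, ?_⟩
      rw [Ideal.map_sup, hJ₀, Ideal.mul_sup]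
      congr 1
      have h2 := congrArg (Ideal.map φ) h₁
      rw [Ideal.map_map, Ideal.map_mul, Ideal.map_map, hφ,
        IsScalarTower.algebraMap_eq A B (Localization.Away g₁), ← RingHom.comp_assoc, hφ] at h2
      exact h2

variable {X S : Scheme.{u}}

/-- A factor of a principal ideal generated by a non-zero-divisor is locally principal. -/
theorem exists_gen_of_mul (I : X.IdealSheafData) (U : X.affineOpens) (B : Ideal Γ(X, U.1)) (f : Γ(X, U.1))
    (hf : f ∈ nonZeroDivisors Γ(X, U.1)) (hfP : I.ideal U * B = Ideal.span {f}) (x : X) (hxU : x ∈ U.1) :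
    ∃ V : X.affineOpens, x ∈ V.1 ∧ ∃ a ∈ nonZeroDivisors Γ(X, V.1), I.ideal V = Ideal.span {a} := by
  let p : Ideal Γ(X, U.1) :=
    (IsLocalRing.maximalIdeal (X.presheaf.stalk x)).comap (X.presheaf.germ U.1 x hxU).hom
  obtain ⟨a, ha, b, hb, c, hc, hcab⟩ : ∃ a ∈ I.ideal U, ∃ b ∈ B, ∃ c, c ∉ p ∧ c * f = a * b := by
    by_contra hcon
    push Not at hcon
    have : I.ideal U * B ≤ p * Ideal.span {f} := by
      rw [Ideal.mul_le]
      intro a ha b hb
      obtain ⟨c, hc⟩ := Ideal.mem_span_singleton'.1 (hfP.le (Ideal.mul_mem_mul ha hb))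
      exact Ideal.mem_mul_span_singleton.2 ⟨c, by_contra fun hcp => hcon a ha b hb c hcp hc, hc⟩
    obtain ⟨d, hd, hdf⟩ := Ideal.mem_mul_span_singleton.1 (this (hfP.ge (Ideal.mem_span_singleton_self f)))
    have : d = 1 := (mul_cancel_right_mem_nonZeroDivisors hf).1 (hdf.trans (one_mul f).symm)
    subst this
    exact (Ideal.ne_top_iff_one p).1 (Ideal.comap_ne_top _ (IsLocalRing.maximalIdeal.isMaximal _).ne_top) hd
  have hmem : x ∈ X.basicOpen c := by
    rw [Scheme.mem_basicOpen X c x hxU]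
    exact IsLocalRing.notMem_maximalIdeal.1 hc
  let V := X.affineBasicOpen c
  have hVU : V.1 ≤ U.1 := X.basicOpen_le c
  have hcu : IsUnit (res hVU c) := RingedSpace.isUnit_res_basicOpen X.toRingedSpace c
  have hfV := ModPairLib.res_mem_nonZeroDivisors (V := V) hVU hf
  have hab : res hVU a * res hVU b ∈ nonZeroDivisors Γ(X, V.1) := by
    rw [← map_mul, ← hcab, map_mul]
    exact mul_mem hcu.mem_nonZeroDivisors hfV
  refine ⟨V, hmem, res hVU a, (mul_mem_nonZeroDivisors.1 hab).1, le_antisymm (fun z hz => ?_) ?_⟩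
  · have hbV : res hVU b ∈ B.map (X.presheaf.map (homOfLE hVU).op).hom := Ideal.mem_map_of_mem _ hb
    have hPV : I.ideal V * B.map (X.presheaf.map (homOfLE hVU).op).hom = Ideal.span {res hVU f} := by
      rw [← I.map_ideal (U := V) (V := U) hVU]
      refine (Ideal.map_mul _ _ _).symm.trans ?_
      rw [hfP, Ideal.map_span, Set.image_singleton]
      rfl
    obtain ⟨d, hd⟩ := Ideal.mem_span_singleton'.1 (hPV.le (Ideal.mul_mem_mul hz hbV))
    obtain ⟨v, hv⟩ := hcu.exists_left_inv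
    refine Ideal.mem_span_singleton'.2 ⟨d * v, ?_⟩
    refine (mul_cancel_right_mem_nonZeroDivisors (mul_mem_nonZeroDivisors.1 hab).2).1 ?_
    rw [← hd, mul_assoc (d * v), ← map_mul, ← hcab, map_mul]
    linear_combination (d * res hVU f) * hv
  · rw [Ideal.span_singleton_le_iff_mem, ← I.map_ideal (U := V) (V := U) hVU]
    exact Ideal.mem_map_of_mem _ ha

/-- A finitely generated ideal of an affine open which is trivial on `U` extends to an admissible one. -/
theorem exists_extend_affine [CompactSpace S] [QuasiSeparatedSpace S] (U : S.Opens) (hU : IsCompact (U : Set S))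
    (W : S.affineOpens) (I : Ideal Γ(S, W.1)) (hI : I.FG) (Z : S.IdealSheafData)
    (hZs : (Z.support : Set S) = (U : Set S)ᶜ) (hIZ : Z.ideal W ≤ I.radical) :
    ∃ K : S.IdealSheafData, BlowUp.IsAdmissibleFor U K ∧ K.ideal W = I := by
  have : IsAffine W.1.toScheme := W.2
  have : CompactSpace W.1.toScheme := isCompact_iff_compactSpace.1 W.2.isCompact
  let ψ := W.1.ι.appLE W.1 ⊤ (fun z _ => z.2)
  have hψ : Function.Bijective ψ.hom := by
    have : IsIso ψ := by
      have : ψ = W.1.topIso.inv := by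
        simp [ψ, Scheme.Opens.topIso, Scheme.Hom.appLE, ← Functor.map_comp]
        rfl
      rw [this]
      infer_instance
    exact ConcreteCategory.bijective_of_isIso ψ
  let J : W.1.toScheme.IdealSheafData := Scheme.IdealSheafData.ofIdealTop (I.map ψ.hom)
  have htop : J.ideal ⟨⊤, isAffineOpen_top _⟩ = I.map ψ.hom := by
    simp [J]
    exact Ideal.map_id _
  have hJ : BlowUp.IsAdmissibleFor (W.1.ι ⁻¹ᵁ U) J := by
    refine ⟨FlatMorStrata.fg_of_cover J (fun _ : Unit => ⟨⊤, isAffineOpen_top _⟩) (by simp) (fun _ => ?_), ?_⟩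
    · rw [htop]; exact hI.map _
    · rw [Set.disjoint_left]
      intro z hz hzU
      rw [BlowUpLib.mem_support_iff_le_prm J ⟨⊤, isAffineOpen_top _⟩ (show z ∈ (⊤ : W.1.toScheme.Opens) from trivial),
        htop] at hz
      have h1 : I ≤ BlowUpLib.prm (W.1.ι z) z.2 := fun a ha =>
        (BlowUpLib.appLE_mem_prm W.1.ι (fun z _ => z.2) (show z ∈ (⊤ : W.1.toScheme.Opens) from trivial)).1
          (hz (Ideal.mem_map_of_mem _ ha))
      have h2 : W.1.ι z ∈ (Z.support : Set S) := (BlowUpLib.mem_support_iff_le_prm Z W z.2).2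
        (hIZ.trans (((inferInstance : (BlowUpLib.prm (W.1.ι z) z.2).IsPrime).radical_le_iff).2 h1))
      rw [hZs] at h2
      exact h2 hzU
  obtain ⟨K, hK, hKJ⟩ := FlatMorAdm.exists_extend_admissible W.1.ι U hU J hJ
  refine ⟨K, hK, ?_⟩
  have h3 := ProjLib.comap_ideal_eq K W.1.ι W ⟨⊤, isAffineOpen_top _⟩ (fun z _ => z.2)
  rw [hKJ, htop] at h3
  have h4 := congrArg (Ideal.comap ψ.hom) h3
  rw [Ideal.comap_map_of_bijective ψ.hom hψ, Ideal.comap_map_of_bijective ψ.hom hψ] at h4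
  exact h4.symm

set_option maxHeartbeats 800000 in
/-- **Centres descend along quasi-compact etale maps up to invertible factors.** -/
theorem exists_centre [CompactSpace S] [QuasiSeparatedSpace S] (U : S.Opens) (hU : IsCompact (U : Set S))
    {k : ℕ} (Si : Fin k → Scheme.{u}) (e : ∀ i, Si i ⟶ S) [∀ i, Etale (e i)] [∀ i, QuasiCompact (e i)]
    (𝓘 : ∀ i, (Si i).IdealSheafData) (h𝓘 : ∀ i, BlowUp.IsAdmissibleFor ((e i) ⁻¹ᵁ U) (𝓘 i)) :
    ∃ J : S.IdealSheafData, BlowUp.IsAdmissibleFor U J ∧ (J.support : Set S) = (U : Set S)ᶜ ∧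
      ∀ (S' : Scheme.{u}) (b' : S' ⟶ S), BlowUp.IsEffCartierIdeal (J.comap b') →
        ∀ i, BlowUp.IsEffCartierIdeal ((𝓘 i).comap (pullback.fst (e i) b')) := by
  classical
  obtain ⟨Z, hZ, hZs⟩ := BlowUpLib.exists_finiteType_support_eq ((U : Set S)ᶜ) U.2.isClosed_compl
    (by rwa [compl_compl])
  have hloc : ∀ (i : Fin k) (x : Si i), ∃ (W : S.affineOpens) (P : (Si i).affineOpens) (eP : P.1 ≤ e i ⁻¹ᵁ W.1)
      (K : S.IdealSheafData) (g : Γ(Si i, P.1)), x ∈ (Si i).basicOpen g ∧ BlowUp.IsAdmissibleFor U K ∧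
      ∀ (L : Type u) [CommRing L] (τ : Γ(Si i, P.1) →+* L), IsUnit (τ g) →
        ∃ J' : Ideal L, (K.ideal W).map (τ.comp ((e i).appLE W.1 P.1 eP).hom) = ((𝓘 i).ideal P).map τ * J' := by
    intro i x
    obtain ⟨W, hW, -⟩ := BlowUpLib.exists_affine_mem_le (show (e i).base x ∈ (⊤ : S.Opens) from trivial)
    obtain ⟨P, hxP, eP⟩ := BlowUpLib.exists_affine_mem_le (show x ∈ e i ⁻¹ᵁ W.1 from hW)
    let _ := ((e i).appLE W.1 P.1 eP).hom.toAlgebra
    have : Algebra.Etale Γ(S, W.1) Γ(Si i, P.1) :=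
      (HasRingHomProperty.appLE @Etale (e i) inferInstance W P eP :)
    obtain ⟨t, ht⟩ := hZ W
    have hrad : ∀ a ∈ t, algebraMap Γ(S, W.1) Γ(Si i, P.1) a ∈ ((𝓘 i).ideal P).radical := by
      intro a ha
      rw [Ideal.radical_eq_sInf, Submodule.mem_sInf]
      rintro Q ⟨hIQ, hQ⟩
      have hzP : P.2.fromSpec ⟨Q, hQ⟩ ∈ P.1 := P.2.range_fromSpec.le ⟨_, rfl⟩
      have hprm : BlowUpLib.prm (P.2.fromSpec ⟨Q, hQ⟩) hzP = Q := by
        ext s
        rw [BlowUpLib.mem_prm hzP, EGA43.InjFibre.mem_basicOpen_iff_notMem P.2 hzP,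
          P.2.fromSpec.isOpenEmbedding.injective (P.2.fromSpec_primeIdealOf ⟨_, hzP⟩), not_not]
      have hI : P.2.fromSpec ⟨Q, hQ⟩ ∈ ((𝓘 i).support : Set (Si i)) :=
        (BlowUpLib.mem_support_iff_le_prm (𝓘 i) P hzP).2 (hIQ.trans hprm.ge)
      have hnU : (e i).base (P.2.fromSpec ⟨Q, hQ⟩) ∈ (Z.support : Set S) := by
        rw [hZs]
        exact fun h => Set.disjoint_left.1 (h𝓘 i).2 hI h
      refine hprm.le ((BlowUpLib.appLE_mem_prm (e i) eP hzP).2 ?_)
      exact (BlowUpLib.mem_support_iff_le_prm Z W (eP hzP)).1 hnU (ht.le (Submodule.subset_span ha))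
    obtain ⟨I, g, hI, hIt, hg, hIg⟩ := exists_centre_ring t ((𝓘 i).ideal P) ((h𝓘 i).1 P) hrad
      (P.2.primeIdealOf ⟨x, hxP⟩).asIdeal
    obtain ⟨K, hK, hKW⟩ := exists_extend_affine U hU W I hI Z hZs (by rw [← ht, Submodule.span_le]; exact hIt)
    refine ⟨W, P, eP, K, g, (EGA43.InjFibre.mem_basicOpen_iff_notMem P.2 hxP g).2 hg, hK, fun L _ τ hu => ?_⟩
    letI := τ.toAlgebra
    obtain ⟨J', hJ'⟩ := hIg L hu
    exact ⟨J', by rw [hKW]; exact hJ'⟩
  choose W P eP K g hxg hK hKg using hloc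
  have hc : ∀ i, ∃ t : Finset (Si i), (Set.univ : Set (Si i)) ⊆ ⋃ x ∈ t, ((Si i).basicOpen (g i x) : Set (Si i)) := by
    intro i
    have : CompactSpace (Si i) := QuasiCompact.compactSpace_of_compactSpace (e i)
    exact isCompact_univ.elim_finite_subcover (fun x => ((Si i).basicOpen (g i x) : Set (Si i)))
      (fun x => ((Si i).basicOpen (g i x)).isOpen) fun x _ => Set.mem_iUnion.2 ⟨x, hxg i x⟩
  choose t ht using hc
  obtain ⟨Pr, hPr, hPrs, -, hPrc⟩ := FlatMorBlowFree.exists_prod' ((Finset.univ : Finset (Fin k)).sigma t)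
    (fun p => K p.1 p.2) fun p _ => (hK p.1 p.2).1
  have hs : ((Z * Pr).support : Set S) = (U : Set S)ᶜ := by
    rw [Scheme.IdealSheafData.support_mul]
    refine Set.Subset.antisymm ?_ fun x hx => Or.inl (hZs.ge hx)
    rintro x (hx | hx)
    · exact hZs.le hx
    · obtain ⟨p, -, hp⟩ := hPrs x hx
      exact fun h => Set.disjoint_left.1 (hK p.1 p.2).2 hp h
  refine ⟨Z * Pr, ⟨fun A => ?_, by rw [hs]; exact disjoint_compl_left⟩, hs, fun S' b' hb' i y => ?_⟩
  · rw [Scheme.IdealSheafData.ideal_mul, Pi.mul_apply]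
    exact (hZ A).mul (hPr A)
  · rw [ModPairLib.comap_mul] at hb'
    have hKc := hPrc S' b' (SDiv28.isEffCartier_right_of_mul hb')
    set c := pullback.fst (e i) b'
    obtain ⟨x, hxt, hxy⟩ := Set.mem_iUnion₂.1 (ht i (Set.mem_univ (c.base y)))
    have hKT : BlowUp.IsEffCartierIdeal (((K i x).comap (e i)).comap c) := by
      rw [← Scheme.IdealSheafData.comap_comp, pullback.condition, Scheme.IdealSheafData.comap_comp]
      exact SDiv28.isEffCartier_comap_of_flat (hKc ⟨i, x⟩ (Finset.mem_sigma.2 ⟨Finset.mem_univ i, hxt⟩)) _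
    obtain ⟨A₀, hyA₀, f, hf, hfA⟩ := hKT y
    obtain ⟨O, hyO, hle⟩ := BlowUpLib.exists_affine_mem_le
      (show y ∈ A₀.1 ⊓ c ⁻¹ᵁ (Si i).basicOpen (g i x) from ⟨hyA₀, hxy⟩)
    have eA : O.1 ≤ A₀.1 := hle.trans inf_le_left
    have eB : O.1 ≤ c ⁻¹ᵁ (Si i).basicOpen (g i x) := hle.trans inf_le_right
    have eO : O.1 ≤ c ⁻¹ᵁ (P i x).1 := eB.trans fun z hz => (Si i).basicOpen_le _ hz
    let τ := (c.appLE (P i x).1 O.1 eO).hom
    have hu : IsUnit (τ (g i x)) := by
      have := RingedSpace.isUnit_res_basicOpen (Si i).toRingedSpace (g i x)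
      have h2 := this.map (c.appLE ((Si i).basicOpen (g i x)) O.1 eB).hom
      exact (congrArg IsUnit (congrArg (fun φ => φ.hom (g i x))
        (c.map_appLE eB (homOfLE ((Si i).basicOpen_le (g i x))).op))).mp h2
    obtain ⟨J', hJ'⟩ := hKg i x Γ(pullback (e i) b', O.1) τ hu
    refine exists_gen_of_mul _ O J' (res eA f) (ModPairLib.res_mem_nonZeroDivisors (V := O) eA hf) ?_ y hyO
    rw [ProjLib.comap_ideal_eq (𝓘 i) c (P i x) O eO]
    refine hJ'.symm.trans ?_
    rw [← Ideal.map_map, ← ProjLib.comap_ideal_eq (K i x) (e i) (W i x) (P i x) (eP i x),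
      ← ProjLib.comap_ideal_eq _ c (P i x) O eO, ← (((K i x).comap (e i)).comap c).map_ideal (U := O) (V := A₀) eA,
      hfA, Ideal.map_span, Set.image_singleton]
    rfl

end Groth.Agent.FlatMorFlatten
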