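import Groth.Agent.FlatMorFlatten.TorQuot
import Groth.Agent.FlatMorFlatten.Centre
import Groth.Agent.EGA43.FlatBC.Algebra
import Groth.Agent.CAlgH.BlowupChartFP
import Groth.Agent.Props12.FlatOver
import Groth.Agent.HenselLib.AlgResidue

/-! Flattening centres descend along blow-up charts and along etale covers. -/

set_option autoImplicit false
set_option backward.isDefEq.respectTransparency false
set_option linter.style.haveILetI false

universe u

open TensorProduct Function

namespace Groth.Agent.FlatMorFlatten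

open Groth.Agent

/-- Near each prime one of the generators generates an ideal which is a factor of an invertible one. -/
theorem exists_chart {L : Type u} [CommRing L] (s : Finset L) (K : Ideal L) {a : L} (ha : a ∈ nonZeroDivisors L)
    (hK : Ideal.span (s : Set L) * K = Ideal.span {a}) (P : Ideal L) (hP : P.IsPrime) :
    ∃ x ∈ s, ∃ h ∉ P, algebraMap L (Localization.Away h) x ∈ nonZeroDivisors (Localization.Away h) ∧
      (Ideal.span (s : Set L)).map (algebraMap L (Localization.Away h)) =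
        Ideal.span {algebraMap L (Localization.Away h) x} := by
  obtain ⟨x, hx, b, hb, c, hc, hcab⟩ : ∃ x ∈ s, ∃ b ∈ K, ∃ c, c ∉ P ∧ c * a = x * b := by
    by_contra hcon
    push Not at hcon
    have hle : Ideal.span (s : Set L) * K ≤ P * Ideal.span {a} := by
      refine Ideal.mul_le.2 fun y hy b hb => ?_
      induction hy using Submodule.span_induction with
      | mem x hx =>
        obtain ⟨c, hc⟩ := Ideal.mem_span_singleton'.1 (hK.le (Ideal.mul_mem_mul (Ideal.subset_span hx) hb))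
        exact Ideal.mem_mul_span_singleton.2 ⟨c, by_contra fun hcP => hcon x hx b hb c hcP hc, hc⟩
      | zero => rw [zero_mul]; exact zero_mem _
      | add u v _ _ hu hv => rw [add_mul]; exact add_mem hu hv
      | smul r u _ hu => rw [smul_eq_mul, mul_assoc]; exact Ideal.mul_mem_left _ r hu
    obtain ⟨d, hd, hda⟩ := Ideal.mem_mul_span_singleton.1 (hle (hK.ge (Ideal.mem_span_singleton_self a)))
    have : d = 1 := (mul_cancel_right_mem_nonZeroDivisors ha).1 (hda.trans (one_mul a).symm)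
    exact hP.ne_top ((Ideal.eq_top_iff_one P).2 (this ▸ hd))
  refine ⟨x, hx, c, hc, ?_⟩
  let Lc := Localization.Away c
  let τ := algebraMap L Lc
  have hu : IsUnit (τ c) := IsLocalization.Away.algebraMap_isUnit c
  have haL : τ a ∈ nonZeroDivisors Lc :=
    IsLocalization.map_nonZeroDivisors_le (Submonoid.powers c) Lc (Submonoid.mem_map_of_mem _ ha)
  have hab : τ x * τ b ∈ nonZeroDivisors Lc := by
    rw [← map_mul, ← hcab, map_mul]
    exact mul_mem hu.mem_nonZeroDivisors haL
  refine ⟨(mul_mem_nonZeroDivisors.1 hab).1, le_antisymm (Ideal.map_le_iff_le_comap.2 fun z hz => ?_)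
    ((Ideal.span_singleton_le_iff_mem _).2 (Ideal.mem_map_of_mem τ (Ideal.subset_span hx)))⟩
  obtain ⟨d, hd⟩ := Ideal.mem_span_singleton'.1 (hK.le (Ideal.mul_mem_mul hz hb))
  obtain ⟨v, hv⟩ := hu.exists_left_inv
  refine Ideal.mem_span_singleton'.2 ⟨τ d * v, ?_⟩
  refine (mul_cancel_right_mem_nonZeroDivisors (mul_mem_nonZeroDivisors.1 hab).2).1 ?_
  show τ d * v * τ x * τ b = τ z * τ b
  rw [mul_assoc (τ d * v), ← map_mul, ← hcab, map_mul, ← map_mul τ z b, ← hd, map_mul]
  linear_combination (τ d * τ a) * hv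

section Chart

variable {R : Type u} [CommRing R] {I : Ideal R} {x : R}

/-- The chart maps to any algebra in which `x` is regular and generates `I`. -/
theorem exists_chart_hom {L : Type u} [CommRing L] [Algebra R L]
    (hx : algebraMap R L x ∈ nonZeroDivisors L) (hI : I.map (algebraMap R L) ≤ Ideal.span {algebraMap R L x}) :
    Nonempty (BlowUp.affineAlgebra R I x →ₐ[R] L) := by
  let Lx := Localization.Away (algebraMap R L x)
  have hinj : Injective (algebraMap L Lx) :=
    IsLocalization.injective Lx (M := Submonoid.powers (algebraMap R L x)) ((Submonoid.powers_le).2 hx)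
  have hu : IsUnit (Algebra.ofId R Lx x) := by
    show IsUnit (algebraMap R Lx x)
    rw [IsScalarTower.algebraMap_apply R L Lx]
    exact IsLocalization.Away.algebraMap_isUnit (algebraMap R L x)
  let φ : Localization.Away x →ₐ[R] Lx := IsLocalization.liftAlgHom (M := Submonoid.powers x) (f := Algebra.ofId R Lx)
    (fun y => by
      obtain ⟨y, n, rfl⟩ := y
      rw [map_pow]
      exact hu.pow n)
  let ψ : L →ₐ[R] Lx := IsScalarTower.toAlgHom R L Lx
  have hle : BlowUp.affineAlgebra R I x ≤ ψ.range.comap φ := by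
    refine Algebra.adjoin_le ?_
    rintro _ ⟨y, hy, rfl⟩
    obtain ⟨d, hd⟩ := Ideal.mem_span_singleton'.1 (hI (Ideal.mem_map_of_mem _ hy))
    refine ⟨d, hu.mul_left_injective ?_⟩
    show algebraMap L Lx d * algebraMap R Lx x =
      φ (IsLocalization.mk' (Localization.Away x) y (⟨x, Submonoid.mem_powers x⟩ : Submonoid.powers x)) * algebraMap R Lx x
    rw [← φ.commutes x, ← map_mul, IsLocalization.mk'_spec (M := Submonoid.powers x) _ y ⟨x, Submonoid.mem_powers x⟩,
      φ.commutes, φ.commutes, IsScalarTower.algebraMap_apply R L Lx x, ← map_mul, hd,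
      ← IsScalarTower.algebraMap_apply]
  let e := (AlgEquiv.ofInjective ψ hinj).symm
  exact ⟨e.toAlgHom.comp ((φ.comp (BlowUp.affineAlgebra R I x).val).codRestrict ψ.range fun z => hle z.2)⟩

/-- A finitely generated ideal on a chart comes from the base up to an invertible factor. -/
theorem exists_chart_descend {Z : Ideal R} (hZ : Z.FG) (hxI : x ∈ I) (hZI : Z ≤ I.radical)
    (J : Ideal (BlowUp.affineAlgebra R I x)) (hJ : J.FG)
    (hZJ : Z.map (algebraMap R _) ≤ J.radical) :
    ∃ (J' : Ideal R) (k : ℕ), J'.FG ∧ Z ≤ J'.radical ∧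
      J'.map (algebraMap R (BlowUp.affineAlgebra R I x)) = Ideal.span {algebraMap R _ x ^ k} * J := by
  classical
  obtain ⟨s, hs⟩ := hJ
  have hrep : ∀ j : s, ∃ k, ∃ y ∈ I ^ k, (j.1 : Localization.Away x) = CAlgH.BlowupChartFP.fr x k y := fun j =>
    CAlgH.BlowupChartFP.exists_fr I x hxI j.1.2
  choose k y hy hjy using hrep
  let N := Finset.univ.sup k
  let ι : R →+* BlowUp.affineAlgebra R I x := algebraMap R _
  have hmap : ∀ j : s, ι (x ^ (N - k j) * y j) = ι x ^ N * j.1 := fun j => by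
    refine Subtype.ext ?_
    show algebraMap R (Localization.Away x) (x ^ (N - k j) * y j) =
      algebraMap R (Localization.Away x) x ^ N * (j.1 : Localization.Away x)
    rw [hjy j, map_mul, map_pow, ← CAlgH.BlowupChartFP.fr_mul_pow x (k j) (y j)]
    have hle : k j ≤ N := Finset.le_sup (f := k) (Finset.mem_univ j)
    conv_rhs => rw [← Nat.sub_add_cancel hle, pow_add]
    ring
  have hrad : Z.map ι ≤ (Ideal.span {ι x ^ N} * J).radical := by
    intro z hz
    have h1 : z ∈ (Ideal.span {ι x}).radical := by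
      refine (Ideal.map_le_iff_le_comap.2 ?_ : Z.map ι ≤ _) hz
      refine hZI.trans ?_
      rw [Ideal.comap_radical]
      refine Ideal.radical_mono fun w hw => ?_
      exact FittLib.map_le_span_blowup (AlgEquiv.refl : BlowUp.affineAlgebra R I x ≃ₐ[R] _) (Ideal.mem_map_of_mem _ hw)
    have h2 := hZJ hz
    obtain ⟨m, hm⟩ := h1
    obtain ⟨m', hm'⟩ := h2
    refine ⟨m * N + m', ?_⟩
    rw [pow_add, pow_mul, ← Ideal.span_singleton_pow]
    exact Ideal.mul_mem_mul (Ideal.pow_mem_pow hm N) hm'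
  obtain ⟨M, hM⟩ := Ideal.exists_pow_le_of_le_radical_of_fg hrad (hZ.map ι)
  refine ⟨Ideal.span (Finset.univ.image fun j : s => x ^ (N - k j) * y j : Finset R) ⊔ Z ^ M, N,
    Submodule.FG.sup ⟨_, rfl⟩ (Submodule.FG.pow hZ M), ?_, ?_⟩
  · intro z hz
    exact ⟨M, Ideal.mem_sup_right (Ideal.pow_mem_pow hz M)⟩
  · rw [Ideal.map_sup, Ideal.map_pow, Ideal.map_span, Finset.coe_image, ← Set.image_comp]
    refine le_antisymm (sup_le ?_ hM) (le_trans ?_ le_sup_left)
    · rw [Ideal.span_le]
      rintro _ ⟨j, -, rfl⟩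
      show ι (x ^ (N - k j) * y j) ∈ _
      rw [hmap j]
      exact Ideal.mul_mem_mul (Ideal.mem_span_singleton_self _) (hs ▸ Ideal.subset_span j.2)
    · rw [← hs, Ideal.span_mul_span, Ideal.span_le]
      rintro _ ⟨_, rfl, t, ht, rfl⟩
      refine Ideal.subset_span ⟨⟨t, ht⟩, Finset.mem_coe.2 (Finset.mem_univ _), ?_⟩
      exact hmap ⟨t, ht⟩

end Chart

/-- Flatness over `L` is detected on a flat cover of the algebra acting. -/
theorem flat_of_cover {L A : Type u} [CommRing L] [CommRing A] [Algebra L A] {Q : Type u} [AddCommGroup Q]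
    [Module L Q] [Module A Q] [IsScalarTower L A Q] {ι : Type} [Fintype ι] (A' : ι → Type u)
    [∀ i, CommRing (A' i)] [∀ i, Algebra A (A' i)] [∀ i, Module.Flat A (A' i)]
    (hcov : ∀ P : Ideal A, P.IsPrime → ∃ i, ∃ Q' : Ideal (A' i), Q'.IsPrime ∧ Q'.comap (algebraMap A (A' i)) = P)
    [∀ i, Algebra L (A' i)] [∀ i, IsScalarTower L A (A' i)]
    (hfl : ∀ i, Module.Flat L (A' i ⊗[A] Q)) : Module.Flat L Q := by
  classical
  let B := ∀ i, A' i
  have : Module.Flat A B := EGA43.FlatBC.flat_pi_of_finite A'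
  have : Module.FaithfullyFlat A B := by
    refine Module.FaithfullyFlat.of_comap_surjective fun P => ?_
    obtain ⟨i, Q', hQ', hQP⟩ := hcov P.asIdeal P.2
    refine ⟨PrimeSpectrum.comap (Pi.evalRingHom A' i) ⟨Q', hQ'⟩, PrimeSpectrum.ext ?_⟩
    exact hQP
  refine (Props12.flat_tensor_iff_of_faithfullyFlat (A := A) (B := B) Q).1 ?_
  let e : B ⊗[A] Q ≃ₗ[A] ∀ i, A' i ⊗[A] Q := TensorProduct.piLeft ..
  have : Module.Flat L (∀ i, A' i ⊗[A] Q) := EGA43.FlatBC.flat_pi_of_finite _
  exact Module.Flat.of_linearEquiv (e.restrictScalars L)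

/-- A finite product of finitely generated ideals is finitely generated. -/
theorem fg_prod {R : Type u} [CommRing R] {ι : Type*} (s : Finset ι) {I : ι → Ideal R} (h : ∀ i, (I i).FG) :
    (∏ i ∈ s, I i).FG := by
  classical
  induction s using Finset.induction with
  | empty => rw [Finset.prod_empty, Ideal.one_eq_top]; exact ⟨{1}, by simp⟩
  | @insert a s ha ih => rw [Finset.prod_insert ha]; exact Submodule.FG.mul (h a) ih

theorem isTorQuot_restrictScalars (L : Type u) {A : Type u} [CommRing L] [CommRing A] [Algebra L A] {a : L}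
    {M Q : Type u} [AddCommGroup M] [Module L M] [Module A M] [IsScalarTower L A M]
    [AddCommGroup Q] [Module L Q] [Module A Q] [IsScalarTower L A Q] {f : M →ₗ[A] Q}
    (h : IsTorQuot (algebraMap L A a) f) : IsTorQuot a (f.restrictScalars L) := by
  refine ⟨h.1, fun m => (h.2 m).trans (exists_congr fun n => ?_)⟩
  rw [← algebraMap_smul A (a ^ n) m, map_pow]

/-- Flatness over `L` of a torsion quotient taken over an algebra. -/
theorem flat_tq_of_algebra {L A : Type u} [CommRing L] [CommRing A] [Algebra L A] {a : L} {M : Type u}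
    [AddCommGroup M] [Module L M] [Module A M] [IsScalarTower L A M] [Module.Flat L A]
    (h : Module.Flat A (TQ A (algebraMap L A a) M)) : Module.Flat L (TQ L a M) :=
  (isTorQuot_restrictScalars L (isTorQuot_mkQ (a := algebraMap L A a) (M := M))).flat_iff.1
    (Module.Flat.trans L A _)

/-- Flatness of torsion quotients over `L` is detected on a flat cover of the algebra acting. -/
theorem flat_tq_of_cover {L A : Type u} [CommRing L] [CommRing A] [Algebra L A] {a : L} {M : Type u}
    [AddCommGroup M] [Module L M] [Module A M] [IsScalarTower L A M] {ι : Type} [Fintype ι] (A' : ι → Type u)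
    [∀ i, CommRing (A' i)] [∀ i, Algebra A (A' i)] [∀ i, Module.Flat A (A' i)]
    (hcov : ∀ P : Ideal A, P.IsPrime → ∃ i, ∃ Q' : Ideal (A' i), Q'.IsPrime ∧ Q'.comap (algebraMap A (A' i)) = P)
    [∀ i, Algebra L (A' i)] [∀ i, IsScalarTower L A (A' i)]
    (hfl : ∀ i, Module.Flat L (TQ L a (A' i ⊗[A] M))) : Module.Flat L (TQ L a M) := by
  have h : IsTorQuot (algebraMap L A a) (FlatCA.powTorsion A (algebraMap L A a) M).mkQ := isTorQuot_mkQ
  refine (isTorQuot_restrictScalars L h).flat_iff.1 ?_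
  refine flat_of_cover (A := A) A' hcov fun i => ?_
  have h2 := isTorQuot_baseChange (L' := A' i) h
  rw [← IsScalarTower.algebraMap_apply L A (A' i)] at h2
  exact (isTorQuot_restrictScalars L h2).flat_iff.2 (hfl i)

attribute [local instance] Algebra.TensorProduct.rightAlgebra in
set_option maxHeartbeats 800000 in
/-- **Flattening centres descend along etale covers.** -/
theorem flattenable_of_etale_cover {R B : Type u} [CommRing R] [CommRing B] [Algebra R B] {N : Type u}
    [AddCommGroup N] [Module B N] [Module R N] [IsScalarTower R B N] (Z : Ideal R) (hZ : Z.FG) {k : ℕ}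
    (Ri Bi : Fin k → Type u) [∀ i, CommRing (Ri i)] [∀ i, CommRing (Bi i)] [∀ i, Algebra R (Ri i)]
    [∀ i, Algebra.Etale R (Ri i)] [∀ i, Algebra B (Bi i)] [∀ i, Algebra.Etale B (Bi i)] [∀ i, Algebra (Ri i) (Bi i)]
    [∀ i, Algebra R (Bi i)] [∀ i, IsScalarTower R B (Bi i)] [∀ i, IsScalarTower R (Ri i) (Bi i)]
    (hcov : ∀ q : Ideal B, q.IsPrime → ∃ i, ∃ Q : Ideal (Bi i), Q.IsPrime ∧ Q.comap (algebraMap B (Bi i)) = q)
    (Ni : Fin k → Type u) [∀ i, AddCommGroup (Ni i)] [∀ i, Module (Ri i) (Ni i)] [∀ i, Module R (Ni i)]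
    [∀ i, IsScalarTower R (Ri i) (Ni i)] (eN : ∀ i, Ni i ≃ₗ[R] Bi i ⊗[B] N)
    (h : ∀ i, Flattenable (Z.map (algebraMap R (Ri i))) (Ni i)) : Flattenable Z N := by
  classical
  choose Ji hJ hJZ hZJ hflat using h
  obtain ⟨zs, hzs⟩ := hZ
  have hrad : ∀ i, ∀ z ∈ zs, algebraMap R (Ri i) z ∈ (Ji i).radical := fun i z hz =>
    hZJ i (Ideal.mem_map_of_mem _ (hzs ▸ Ideal.subset_span hz))
  have hloc : ∀ (i) (q : PrimeSpectrum (Ri i)), ∃ (I : Ideal R) (g : Ri i), I.FG ∧ Z ≤ I.radical ∧ g ∉ q.asIdeal ∧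
      ∀ (T : Type u) [CommRing T] [Algebra (Ri i) T], IsUnit (algebraMap (Ri i) T g) →
        ∃ J' : Ideal T, I.map ((algebraMap (Ri i) T).comp (algebraMap R (Ri i))) =
          (Ji i).map (algebraMap (Ri i) T) * J' := fun i q => by
    obtain ⟨I, g, hI, hIs, hg, hIg⟩ := exists_centre_ring zs (Ji i) (hJ i) (hrad i) q.asIdeal
    exact ⟨I, g, hI, by rw [← hzs, Ideal.span_le]; exact hIs, hg, hIg⟩
  choose I g hI hIZ hg hIg using hloc
  have hfin : ∀ i, ∃ t : Finset (PrimeSpectrum (Ri i)), ∀ p, ∃ q ∈ t, g i q ∉ (p : PrimeSpectrum (Ri i)).asIdeal := by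
    intro i
    obtain ⟨t, ht⟩ := isCompact_univ.elim_finite_subcover
      (fun q : PrimeSpectrum (Ri i) => (PrimeSpectrum.basicOpen (g i q) : Set (PrimeSpectrum (Ri i))))
      (fun q => (PrimeSpectrum.basicOpen (g i q)).isOpen) fun q _ => Set.mem_iUnion.2 ⟨q, hg i q⟩
    exact ⟨t, fun p => by
      obtain ⟨q, hq, hpq⟩ := Set.mem_iUnion₂.1 (ht (Set.mem_univ p))
      exact ⟨q, hq, hpq⟩⟩
  choose t ht using hfin
  let s := (Finset.univ : Finset (Fin k)).sigma t
  refine ⟨Z * ∏ p ∈ s, I p.1 p.2, ?_, Ideal.mul_le_left.trans Ideal.le_radical, ?_, ?_⟩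
  · exact Submodule.FG.mul ⟨zs, hzs⟩ (fg_prod s fun p => hI p.1 p.2)
  · intro z hz
    rw [Ideal.radical_mul]
    refine ⟨Ideal.le_radical hz, ?_⟩
    have : ∀ s' : Finset (Σ i, PrimeSpectrum (Ri i)), z ∈ (∏ p ∈ s', I p.1 p.2).radical := fun s' => by
      induction s' using Finset.induction with
      | empty => simp [Ideal.one_eq_top, Ideal.radical_top]
      | @insert p s' hp ih =>
        rw [Finset.prod_insert hp, Ideal.radical_mul]
        exact ⟨hIZ p.1 p.2 hz, ih⟩
    exact this s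
  intro L _ _ a ha hK
  obtain ⟨K, hK⟩ := hK
  let B' := L ⊗[R] B
  let M := B' ⊗[B] N
  have eM : M ≃ₗ[L] L ⊗[R] N := Algebra.IsPushout.cancelBaseChange R L B B' N
  refine flat_tq_congr eM.symm ?_
  refine flat_tq_of_cover (A := B') (fun i => B' ⊗[B] Bi i) (fun P hP => ?_) fun i => ?_
  · obtain ⟨i, Q, hQ, hQP⟩ := hcov (P.comap (algebraMap B B')) inferInstance
    obtain ⟨W, hW₁, hW₂⟩ := HenselLib.AlgRes.exists_prime_tensor (A := B) (B := Bi i) (C := B') ⟨P, hP⟩ ⟨Q, hQ⟩ (PrimeSpectrum.ext hQP.symm)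
    exact ⟨i, W.asIdeal, W.2, congrArg PrimeSpectrum.asIdeal hW₁⟩
  -- the piece
  let A := B' ⊗[B] Bi i
  let e : A ⊗[B'] M ≃ₗ[L] L ⊗[R] Ni i :=
    ((AlgebraTensorModule.cancelBaseChange B B' A A N).restrictScalars L) ≪≫ₗ
      ((AlgebraTensorModule.assoc B B B' B' (Bi i) N).restrictScalars L) ≪≫ₗ
      Algebra.IsPushout.cancelBaseChange R L B B' (Bi i ⊗[B] N) ≪≫ₗ
      ((eN i).symm.baseChange R L)
  refine flat_tq_congr e ?_
  let Li := L ⊗[R] Ri i
  let ai : Li := algebraMap L Li a
  let e' : L ⊗[R] Ni i ≃ₗ[L] Li ⊗[Ri i] Ni i := (Algebra.IsPushout.cancelBaseChange R L (Ri i) Li (Ni i)).symm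
  refine flat_tq_congr e' ?_
  have hai : ai ∈ nonZeroDivisors Li := by
    rw [mem_nonZeroDivisors_iff_right]
    intro z hz
    refine (Module.Flat.isSMulRegular_of_nonZeroDivisors (M := Li) ha).right_eq_zero_of_smul ?_
    rw [Algebra.smul_def, mul_comm]
    exact hz
  refine flat_tq_of_algebra (A := Li) ?_
  have hfl : Module.Flat Li (TQ Li ai (Li ⊗[Ri i] Ni i)) := by
    refine flat_tq_of_local fun P hP => ?_
    obtain ⟨q, hqt, hq⟩ := ht i ⟨P.comap (algebraMap (Ri i) Li), inferInstance⟩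
    refine ⟨algebraMap (Ri i) Li (g i q), hq, ?_⟩
    let T := Localization.Away (algebraMap (Ri i) Li (g i q))
    refine flat_tq_congr (AlgebraTensorModule.cancelBaseChange (Ri i) Li T T (Ni i)) ?_
    refine hflat i T _ (IsLocalization.map_nonZeroDivisors_le (Submonoid.powers (algebraMap (Ri i) Li (g i q))) T (Submonoid.mem_map_of_mem _ hai)) ?_
    obtain ⟨J', hJ'⟩ := hIg i q T (by
      rw [IsScalarTower.algebraMap_apply (Ri i) Li T]
      exact IsLocalization.Away.algebraMap_isUnit _)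
    refine ⟨J' * ((Z * ∏ p ∈ s.erase ⟨i, q⟩, I p.1 p.2).map (algebraMap R T) * K.map (algebraMap L T)), ?_⟩
    rw [← mul_assoc, ← hJ', ← IsScalarTower.algebraMap_eq R (Ri i) T, ← mul_assoc, ← Ideal.map_mul,
      mul_left_comm (I i q) Z, Finset.mul_prod_erase s (fun p => I p.1 p.2) (a := ⟨i, q⟩)
        (Finset.mem_sigma.2 ⟨Finset.mem_univ i, hqt⟩), IsScalarTower.algebraMap_eq R L T, ← Ideal.map_map,
      ← Ideal.map_mul, hK, Ideal.map_span, Set.image_singleton]
    show Ideal.span {algebraMap L T a} = Ideal.span {algebraMap Li T ai}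
    rw [← IsScalarTower.algebraMap_apply]
  exact hfl

end Groth.Agent.FlatMorFlatten
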