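import Groth.Agent.FlatMorFlatten.Good
import Groth.Agent.FlatMorDevissage.FPTransfer
import Groth.Agent.EGA43.QcohFlat
import Groth.Agent.EGA43.InjFibre.PullSections
import Groth.Agent.BlowUpLib.Separate

/-! Sections over affine opens where a module is flat and finitely presented. -/

set_option autoImplicit false
set_option backward.isDefEq.respectTransparency false
set_option linter.style.haveILetI false

universe u

open CategoryTheory CategoryTheory.Limits AlgebraicGeometry TopologicalSpace Opposite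
open Groth.Agent.Coherent

namespace Groth.Agent.FlatMorFlatten

open Groth.Agent

/-- Finite presentation descends along a bijective map of rings. -/
theorem fp_of_bijective {A A' M M' : Type u} [CommRing A] [CommRing A'] [Algebra A A'] [AddCommGroup M]
    [Module A M] [AddCommGroup M'] [Module A M'] [Module A' M'] [IsScalarTower A A' M']
    (hA : Function.Bijective (algebraMap A A')) (e : M ≃ₗ[A] M') [Module.FinitePresentation A' M'] :
    Module.FinitePresentation A M := by
  have : Module.FinitePresentation A A' :=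
    Module.finitePresentation_of_surjective (Algebra.linearMap A A') hA.2
      (by rw [LinearMap.ker_eq_bot.2 hA.1]; exact Submodule.fg_bot)
  have : Module.FinitePresentation A M' := Module.FinitePresentation.trans (R := A) (M := M') A'
  exact Module.finitePresentation_of_surjective e.symm.toLinearMap e.symm.surjective
    (by rw [LinearEquiv.ker]; exact Submodule.fg_bot)

variable {X S : Scheme.{u}}

/-- Sections over an affine open inside an open where the module is finitely presented. -/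
theorem finitePresentation_sections_of_le (F : X.Modules) [Coh.IsQCoh F] (O : X.Opens)
    (hfp : CohB1.IsFP ((Scheme.Modules.pullback O.ι).obj F)) {P : X.Opens} (hP : IsAffineOpen P) (hPO : P ≤ O) :
    Module.FinitePresentation Γ(X, P) Γ(F, P) := by
  have himg : O.ι ''ᵁ (O.ι ⁻¹ᵁ P) = P := by
    rw [Scheme.Hom.image_preimage_eq_opensRange_inf, Scheme.Opens.opensRange_ι]
    exact inf_eq_right.2 hPO
  have hP' : IsAffineOpen (O.ι ⁻¹ᵁ P) := (O.ι.isAffineOpen_iff_of_isOpenImmersion).1 (by rwa [himg])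
  have : Coh.IsQCoh ((Scheme.Modules.pullback O.ι).obj F) := EGA43.InjFibre.isQCoh_pullback _ F
  have hN := EGA43.QcohFP.finitePresentation_sections _ hfp hP'
  let e : O.ι ⁻¹ᵁ P ≤ O.ι ⁻¹ᵁ P := le_rfl
  let _ := (O.ι.appLE P (O.ι ⁻¹ᵁ P) e).hom.toAlgebra
  have hbij : Function.Bijective (O.ι.appLE P (O.ι ⁻¹ᵁ P) e).hom := by
    rw [Scheme.Hom.appLE_eq_app]
    have := Scheme.Hom.isIso_app O.ι P (by rwa [Scheme.Opens.opensRange_ι])
    exact ConcreteCategory.bijective_of_isIso (O.ι.app P)
  let N := (Scheme.Modules.pullback O.ι).obj F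
  let _ : Module Γ(X, P) Γ(N, O.ι ⁻¹ᵁ P) := Module.compHom _ (O.ι.appLE P (O.ι ⁻¹ᵁ P) e).hom
  have : IsScalarTower Γ(X, P) Γ(O.toScheme, O.ι ⁻¹ᵁ P) Γ(N, O.ι ⁻¹ᵁ P) :=
    IsScalarTower.of_algebraMap_smul fun _ _ => rfl
  obtain ⟨μ, hμ, -⟩ := EGA43.InjFibre.pullMap_isBaseChange O.ι hP hP' e F
  let A' := Γ(O.toScheme, O.ι ⁻¹ᵁ P)
  have hμb : Function.Bijective μ := by
    have h1 : Function.Bijective (TensorProduct.mk Γ(X, P) A' Γ(F, P) 1) := by
      let eA : Γ(X, P) ≃ₗ[Γ(X, P)] A' := LinearEquiv.ofBijective (Algebra.linearMap Γ(X, P) A') hbij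
      have h2 : TensorProduct.mk Γ(X, P) A' Γ(F, P) 1 =
          (TensorProduct.lid Γ(X, P) Γ(F, P)).symm.trans (eA.rTensor Γ(F, P)) := by
        ext m
        show (1 : A') ⊗ₜ[Γ(X, P)] m = eA 1 ⊗ₜ[Γ(X, P)] m
        rw [show eA 1 = 1 from map_one (algebraMap Γ(X, P) A')]
      rw [h2]
      exact LinearEquiv.bijective _
    have h3 : ⇑μ = hμ.equiv ∘ TensorProduct.mk Γ(X, P) A' Γ(F, P) 1 := funext fun m => by
      simp [IsBaseChange.equiv_tmul]
    rw [h3]
    exact hμ.equiv.bijective.comp h1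
  exact fp_of_bijective hbij (LinearEquiv.ofBijective μ hμb)

set_option maxHeartbeats 1000000 in
/-- Functions whose non-vanishing locus lies where the module is flat and finitely presented are good. -/
theorem good_sections (f : X ⟶ S) (F : X.Modules) [Coh.IsQCoh F] (U : S.Opens)
    (hfp : CohB1.IsFP ((Scheme.Modules.pullback (f ⁻¹ᵁ U).ι).obj F))
    (hfl : ∀ x : X, f.base x ∈ U → FlatMod.IsFlatOverAt f F x) (W : S.affineOpens) (P : X.affineOpens)
    (e : P.1 ≤ f ⁻¹ᵁ W.1) (z : Γ(S, W.1)) (hz : S.basicOpen z ≤ U) :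
    letI := (f.appLE W.1 P.1 e).hom.toAlgebra
    letI := EGA43.QcohFlat.overModule f F W.1 P.1 e
    haveI : IsScalarTower Γ(S, W.1) Γ(X, P.1) Γ(F, P.1) := IsScalarTower.of_algebraMap_smul fun _ _ => rfl
    Good Γ(S, W.1) Γ(X, P.1) Γ(F, P.1) z := by
  let _ := (f.appLE W.1 P.1 e).hom.toAlgebra
  let _ := EGA43.QcohFlat.overModule f F W.1 P.1 e
  have : IsScalarTower Γ(S, W.1) Γ(X, P.1) Γ(F, P.1) := IsScalarTower.of_algebraMap_smul fun _ _ => rfl
  let g : Γ(X, P.1) := algebraMap Γ(S, W.1) Γ(X, P.1) z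
  have hgU : X.basicOpen g ≤ f ⁻¹ᵁ U := (Scheme.basicOpen_appLE f P.1 W.1 e z).le.trans
    (inf_le_right.trans fun x hx => hz hx)
  refine ⟨?_, (FlatMorDevissage.flat_away_iff g).2 fun Q hQ hgQ => ?_⟩
  · have hP' : IsAffineOpen (X.basicOpen g) := P.2.basicOpen g
    have hfp' := finitePresentation_sections_of_le F (f ⁻¹ᵁ U) hfp hP' hgU
    let _ := (X.presheaf.map (homOfLE (X.basicOpen_le g)).op).hom.toAlgebra
    let _ := Module.compHom Γ(F, X.basicOpen g) (X.presheaf.map (homOfLE (X.basicOpen_le g)).op).hom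
    have : IsScalarTower Γ(X, P.1) Γ(X, X.basicOpen g) Γ(F, X.basicOpen g) :=
      IsScalarTower.of_algebraMap_smul fun _ _ => rfl
    let φ : Γ(F, P.1) →ₗ[Γ(X, P.1)] Γ(F, X.basicOpen g) :=
      { toFun := fun m => resM F (X.basicOpen_le g) m
        map_add' := fun a b => map_add _ a b
        map_smul' := fun r m => resM_smul F _ r m }
    have := EGA43.QcohFP.isLocalizedModule_res F P.2 g φ fun _ => rfl
    have : IsLocalization.Away g Γ(X, X.basicOpen g) := P.2.isLocalization_basicOpen g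
    let Bz := Localization (Submonoid.powers g)
    let εA := IsLocalization.algEquiv (Submonoid.powers g) Bz Γ(X, X.basicOpen g)
    let _ : Algebra Bz Γ(X, X.basicOpen g) := εA.toRingEquiv.toRingHom.toAlgebra
    have : IsScalarTower Γ(X, P.1) Bz Γ(X, X.basicOpen g) :=
      .of_algebraMap_eq fun b => (εA.commutes b).symm
    let _ : Module Bz Γ(F, X.basicOpen g) := Module.compHom _ εA.toRingEquiv.toRingHom
    have : IsScalarTower Γ(X, P.1) Bz Γ(F, X.basicOpen g) := IsScalarTower.of_algebraMap_smul fun b m => by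
      show εA (algebraMap _ Bz b) • m = _
      rw [εA.commutes, algebraMap_smul]
    have : IsScalarTower Bz Γ(X, X.basicOpen g) Γ(F, X.basicOpen g) :=
      IsScalarTower.of_algebraMap_smul fun _ _ => rfl
    let eM := (IsLocalizedModule.iso (Submonoid.powers g) φ).extendScalarsOfIsLocalization (Submonoid.powers g) Bz
    exact fp_of_bijective (A := Bz) (A' := Γ(X, X.basicOpen g)) εA.bijective eM
  · have hx : P.2.fromSpec ⟨Q, hQ⟩ ∈ P.1 := P.2.range_fromSpec.le ⟨_, rfl⟩
    have hprime : P.2.primeIdealOf ⟨_, hx⟩ = ⟨Q, hQ⟩ :=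
      P.2.fromSpec.isOpenEmbedding.injective (P.2.fromSpec_primeIdealOf _)
    have hxg : P.2.fromSpec ⟨Q, hQ⟩ ∈ X.basicOpen g := by
      rw [EGA43.InjFibre.mem_basicOpen_iff_notMem P.2 hx, hprime]
      exact hgQ
    have h := (EGA43.QcohFlat.isFlatOverAt_iff f F W.2 P.2 e hx).1 (hfl _ (hgU hxg))
    rw [hprime] at h
    exact h

end Groth.Agent.FlatMorFlatten
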