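import Groth.Agent.FlatMorFlatten.Local
import Groth.Agent.FlatMorFlatten.Sections
import Groth.Agent.FlatMorFlatten.Dominate
import Groth.Agent.EGA43.InjFibre.InjFlatScheme
import Groth.Agent.H8Lim.ModEq
import Groth.Agent.FlatMor12.FittSheaf

/-! The strict transform on one affine piece of the base change. -/

set_option autoImplicit false
set_option backward.isDefEq.respectTransparency false
set_option linter.style.haveILetI false

universe u

open CategoryTheory CategoryTheory.Limits AlgebraicGeometry TopologicalSpace Opposite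
open Groth.Agent.Coherent

namespace Groth.Agent.FlatMorFlatten

open Groth.Agent

variable {X S : Scheme.{u}}

theorem le_radical_ideal (I Z : S.IdealSheafData) (W : S.affineOpens)
    (h : (I.support : Set S) ⊆ (Z.support : Set S)) : Z.ideal W ≤ (I.ideal W).radical := by
  rw [Ideal.radical_eq_sInf]
  refine le_sInf ?_
  rintro Q ⟨hIQ, hQ⟩
  have hx : W.2.fromSpec ⟨Q, hQ⟩ ∈ W.1 := W.2.range_fromSpec.le ⟨_, rfl⟩
  have hprm : BlowUpLib.prm (W.2.fromSpec ⟨Q, hQ⟩) hx = Q := by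
    ext s
    rw [BlowUpLib.mem_prm hx, EGA43.InjFibre.mem_basicOpen_iff_notMem W.2 hx,
      W.2.fromSpec.isOpenEmbedding.injective (W.2.fromSpec_primeIdealOf ⟨_, hx⟩), not_not]
  exact ((BlowUpLib.mem_support_iff_le_prm Z W hx).1
    (h ((BlowUpLib.mem_support_iff_le_prm I W hx).2 (hIQ.trans hprm.ge)))).trans hprm.le

theorem basicOpen_le_of_mem_ideal (Z : S.IdealSheafData) (U : S.Opens)
    (hZ : (Z.support : Set S) = (U : Set S)ᶜ) (W : S.affineOpens) {z : Γ(S, W.1)} (hz : z ∈ Z.ideal W) :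
    S.basicOpen z ≤ U := fun x hx => by
  by_contra hxU
  have hxW : x ∈ W.1 := S.basicOpen_le z hx
  have hs : x ∈ (Z.support : Set S) := by rw [hZ]; exact hxU
  exact (BlowUpLib.mem_prm hxW).1 ((BlowUpLib.mem_support_iff_le_prm Z W hxW).1 hs hz) hx

set_option maxHeartbeats 1000000 in
/-- On an affine piece where the centre is principal the strict transform is flat and finitely presented. -/
theorem flat_fp_chart (f : X ⟶ S) [LocallyOfFinitePresentation f] (F : X.Modules) [Coh.IsQCoh F]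
    (hft : CohB1.IsFT F) (W : S.affineOpens) (P : X.affineOpens) (e : P.1 ≤ f ⁻¹ᵁ W.1) (zs : Finset Γ(S, W.1))
    (hgood : letI := (f.appLE W.1 P.1 e).hom.toAlgebra
      letI := EGA43.QcohFlat.overModule f F W.1 P.1 e
      haveI : IsScalarTower Γ(S, W.1) Γ(X, P.1) Γ(F, P.1) := IsScalarTower.of_algebraMap_smul fun _ _ => rfl
      ∀ z ∈ zs, Good Γ(S, W.1) Γ(X, P.1) Γ(F, P.1) z)
    (J : Ideal Γ(S, W.1))
    (hJ : letI := EGA43.QcohFlat.overModule f F W.1 P.1 e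
      Flattens J Γ(F, P.1))
    (𝓘 : S.IdealSheafData) {S' X' : Scheme.{u}} (b : S' ⟶ S) (W' : S'.affineOpens) (eb : W'.1 ≤ b ⁻¹ᵁ W.1)
    {a : Γ(S', W'.1)} (ha : a ∈ nonZeroDivisors Γ(S', W'.1)) (haI : (𝓘.comap b).ideal W' = Ideal.span {a})
    (hza : ∀ z ∈ zs, (b.appLE W.1 W'.1 eb).hom z ∈ (Ideal.span {a}).radical)
    (haz : a ∈ ((Ideal.span (zs : Set Γ(S, W.1))).map (b.appLE W.1 W'.1 eb).hom).radical)
    (hK : ∃ K : Ideal Γ(S', W'.1), J.map (b.appLE W.1 W'.1 eb).hom * K = Ideal.span {a})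
    (p₁ : X' ⟶ X) (p₂ : X' ⟶ S') (H : IsPullback p₁ p₂ f b) (G : X'.Modules) [Coh.IsQCoh G]
    (π : (Scheme.Modules.pullback p₁).obj F ⟶ G) (hG : BlowUp.IsStrictTransform p₁ (𝓘.comap f) F G π) :
    Module.FinitePresentation Γ(X', p₁ ⁻¹ᵁ P.1 ⊓ p₂ ⁻¹ᵁ W'.1) Γ(G, p₁ ⁻¹ᵁ P.1 ⊓ p₂ ⁻¹ᵁ W'.1) ∧
      letI := EGA43.QcohFlat.overModule p₂ G W'.1 (p₁ ⁻¹ᵁ P.1 ⊓ p₂ ⁻¹ᵁ W'.1) inf_le_right
      Module.Flat Γ(S', W'.1) Γ(G, p₁ ⁻¹ᵁ P.1 ⊓ p₂ ⁻¹ᵁ W'.1) := by
  set V := p₁ ⁻¹ᵁ P.1 ⊓ p₂ ⁻¹ᵁ W'.1 with hVdef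
  have hV : IsAffineOpen V := EGA43.InjFibre.isAffineOpen_inf_preimage H W.2 P.2 W'.2 e eb
  have eP : V ≤ p₁ ⁻¹ᵁ P.1 := inf_le_left
  have eW : V ≤ p₂ ⁻¹ᵁ W'.1 := inf_le_right
  have hp := (isIso_pushoutSection_iff H eb e hVdef).1
    (isIso_pushoutSection_of_isAffineOpen H eb e hVdef W.2 W'.2 P.2)
  let _ := (f.appLE W.1 P.1 e).hom.toAlgebra
  let _ := (b.appLE W.1 W'.1 eb).hom.toAlgebra
  let _ := (p₁.appLE P.1 V eP).hom.toAlgebra
  let _ := (p₂.appLE W'.1 V eW).hom.toAlgebra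
  let _ : Algebra Γ(S, W.1) Γ(X', V) := ((p₁.appLE P.1 V eP).hom.comp (f.appLE W.1 P.1 e).hom).toAlgebra
  have : IsScalarTower Γ(S, W.1) Γ(X, P.1) Γ(X', V) := .of_algebraMap_eq fun _ => rfl
  have : IsScalarTower Γ(S, W.1) Γ(S', W'.1) Γ(X', V) :=
    .of_algebraMap_eq fun r => ConcreteCategory.congr_hom hp.w r
  have : Algebra.IsPushout Γ(S, W.1) Γ(X, P.1) Γ(S', W'.1) Γ(X', V) := CommRingCat.isPushout_iff_isPushout.1 hp
  have : Algebra.IsPushout Γ(S, W.1) Γ(S', W'.1) Γ(X, P.1) Γ(X', V) := Algebra.IsPushout.symm inferInstance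
  have : Algebra.FinitePresentation Γ(S, W.1) Γ(X, P.1) :=
    HasRingHomProperty.appLE @LocallyOfFinitePresentation f inferInstance W P e
  let _ := EGA43.QcohFlat.overModule f F W.1 P.1 e
  have : IsScalarTower Γ(S, W.1) Γ(X, P.1) Γ(F, P.1) := IsScalarTower.of_algebraMap_smul fun _ _ => rfl
  have : Module.Finite Γ(X, P.1) Γ(F, P.1) := FlatMor12.FittSheaf.finite_affine F hft P
  let N := (Scheme.Modules.pullback p₁).obj F
  have : Coh.IsQCoh N := EGA43.InjFibre.isQCoh_pullback p₁ F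
  let _ : Module Γ(X, P.1) Γ(N, V) := Module.compHom Γ(N, V) (p₁.appLE P.1 V eP).hom
  let _ : Module Γ(S', W'.1) Γ(N, V) := EGA43.QcohFlat.overModule p₂ N W'.1 V eW
  have : IsScalarTower Γ(X, P.1) Γ(X', V) Γ(N, V) := IsScalarTower.of_algebraMap_smul fun _ _ => rfl
  have : IsScalarTower Γ(S', W'.1) Γ(X', V) Γ(N, V) := IsScalarTower.of_algebraMap_smul fun _ _ => rfl
  let _ : Module Γ(S', W'.1) Γ(G, V) := EGA43.QcohFlat.overModule p₂ G W'.1 V eW
  have : IsScalarTower Γ(S', W'.1) Γ(X', V) Γ(G, V) := IsScalarTower.of_algebraMap_smul fun _ _ => rfl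
  obtain ⟨μ, hμ, -⟩ := EGA43.InjFibre.pullMap_isBaseChange p₁ P.2 hV eP F
  let φ : Γ(N, V) →ₗ[Γ(X', V)] Γ(G, V) :=
    { toFun := fun m => π.app V m
      map_add' := fun m m' => map_add _ m m'
      map_smul' := fun r m => Scheme.Modules.Hom.app_smul π r m }
  have := hG.1
  have hE : BlowUp.exceptional p₁ (𝓘.comap f) = (𝓘.comap b).comap p₂ := by
    rw [BlowUp.exceptional, ← Scheme.IdealSheafData.comap_comp, H.w, Scheme.IdealSheafData.comap_comp]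
  have hEV : ((𝓘.comap b).comap p₂).ideal ⟨V, hV⟩ = Ideal.span {algebraMap Γ(S', W'.1) Γ(X', V) a} := by
    rw [ProjLib.comap_ideal_eq (𝓘.comap b) p₂ W' ⟨V, hV⟩ eW, haI, Ideal.map_span, Set.image_singleton]
    rfl
  have hπ : IsTorQuot (algebraMap Γ(S', W'.1) Γ(X', V) a) φ := by
    refine ⟨H8Lim.app_surjective_of_epi π hV, fun m => (hG.2 ⟨V, hV⟩ m).trans ?_⟩
    rw [hE]
    refine exists_congr fun n => ⟨fun h => h _ ?_, fun h c hc => ?_⟩
    · rw [Scheme.IdealSheafData.ideal_pow, Pi.pow_apply, hEV]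
      exact Ideal.pow_mem_pow (Ideal.mem_span_singleton_self _) n
    · rw [Scheme.IdealSheafData.ideal_pow, Pi.pow_apply, hEV, Ideal.span_singleton_pow,
        Ideal.mem_span_singleton'] at hc
      obtain ⟨d, rfl⟩ := hc
      rw [mul_smul]
      exact (congrArg (d • ·) h).trans (smul_zero d)
  obtain ⟨hfl, hfp⟩ := flat_fp_of_centre (R := Γ(S, W.1)) (L := Γ(S', W'.1)) (B := Γ(X, P.1)) (B' := Γ(X', V))
    μ hμ φ ha hπ zs hgood hJ hK hza haz
  exact ⟨hfp, hfl⟩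

end Groth.Agent.FlatMorFlatten
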