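import Groth.Agent.FlatMorFlatten.SubScheme
import Groth.Agent.FlatMorDim.Semicont
import Groth.Agent.AlgSpLib.RelDimLocus
import Groth.Agent.S1240
import Mathlib.AlgebraicGeometry.ZariskisMainTheorem

/-! Finite locally free over an open becomes finite locally free after an admissible blow-up. -/

set_option autoImplicit false
set_option backward.isDefEq.respectTransparency false
set_option linter.style.haveILetI false

universe u

open CategoryTheory CategoryTheory.Limits AlgebraicGeometry TopologicalSpace Opposite Function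

namespace Groth.Agent.FlatMorFlatten

open Groth.Agent

theorem localDim_nonneg {T : Type*} [TopologicalSpace T] (x : T) : 0 ≤ FlatMor.localDim T x :=
  le_iInf fun U => by
    have : Nonempty (IrreducibleCloseds (U.1 : Set T)) :=
      ⟨⟨closure {⟨x, U.2⟩}, isIrreducible_singleton.closure, isClosed_closure⟩⟩
    exact Order.krullDim_nonneg

variable {X S : Scheme.{u}}

theorem exists_flattening_finite [CompactSpace S] [QuasiSeparatedSpace S] (φ : X ⟶ S) [IsProper φ] (U : S.Opens)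
    (hU : IsCompact (U : Set S)) (hfl : Mor2.IsFinLocFree (φ ∣_ U)) :
    ∃ (𝓘 : S.IdealSheafData) (S' : Scheme.{u}) (b : S' ⟶ S), BlowUp.IsBlowUp b 𝓘 ∧ BlowUp.IsAdmissibleFor U 𝓘 ∧
      ∀ (X' : Scheme.{u}) (p₁ : X' ⟶ X) (p₂ : X' ⟶ S'), IsPullback p₁ p₂ φ b →
      ∀ (𝒥 : X'.IdealSheafData),
        (∀ (W : X'.affineOpens) (a : Γ(X', W.1)), a ∈ 𝒥.ideal W ↔
          BlowUp.KilledByPowerNear ((𝓘.comap φ).comap p₁) (Coh.structureModule X') W a) →
        Mor2.IsFinLocFree (𝒥.subschemeι ≫ p₂) := by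
  obtain ⟨hfin, hflat, hlfp⟩ := hfl
  obtain ⟨𝓘, S', b, hb, hadm, hs, h⟩ := exists_flattening_scheme φ U hU
  refine ⟨𝓘, S', b, hb, hadm, fun X' p₁ p₂ H 𝒥 h𝒥 => ?_⟩
  obtain ⟨hgflat, hglfp, -, -⟩ := h X' p₁ p₂ H 𝒥 h𝒥
  have : IsProper p₂ := MorphismProperty.of_isPullback H inferInstance
  set g := 𝒥.subschemeι ≫ p₂
  have : IsProper g := inferInstance
  have hint : ModPair.interior 𝓘 = U := by
    refine Opens.ext ?_
    show (𝓘.support : Set S)ᶜ = U
    rw [hs, compl_compl]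
  have hdense : Dense ((b ⁻¹ᵁ U : S'.Opens) : Set S') := by
    have h1 := FlatMorAdm.dense_of_isDenseOpen (ModPairLib.isDenseOpen_interior hb.1)
    rwa [ModPairLib.interior_comap, hint] at h1
  let W₀ := p₁ ⁻¹ᵁ (φ ⁻¹ᵁ U) ⊓ p₂ ⁻¹ᵁ (b ⁻¹ᵁ U)
  have HW := Scheme.Hom.isPullback_resLE H (le_refl (b ⁻¹ᵁ U)) (le_refl (φ ⁻¹ᵁ U)) (rfl : W₀ = _)
  have hres : IsFinite (p₂.resLE (b ⁻¹ᵁ U) W₀ inf_le_right) := by
    refine MorphismProperty.of_isPullback HW ?_
    rw [Scheme.Hom.resLE_eq_morphismRestrict]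
    exact hfin
  have hqf : ∀ z : 𝒥.subscheme, g.base z ∈ b ⁻¹ᵁ U → g.QuasiFiniteAt z := by
    intro z hz
    have hzW : 𝒥.subschemeι.base z ∈ W₀ := by
      refine ⟨?_, hz⟩
      show φ.base (p₁.base _) ∈ U
      rw [← Scheme.Hom.comp_apply, H.w, Scheme.Hom.comp_apply]
      exact hz
    have h2 : LocallyQuasiFinite ((𝒥.subschemeι ⁻¹ᵁ W₀).ι ≫ g) := by
      have he : (𝒥.subschemeι ⁻¹ᵁ W₀).ι ≫ g = (𝒥.subschemeι ∣_ W₀) ≫ p₂.resLE (b ⁻¹ᵁ U) W₀ inf_le_right ≫ (b ⁻¹ᵁ U).ι := by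
        rw [Scheme.Hom.resLE_comp_ι, ← Category.assoc, ← morphismRestrict_ι, Category.assoc]
      rw [he]
      infer_instance
    exact (AlgSpLib.exists_lqf_nhd_iff g z).1 ⟨_, hzW, h2, inferInstance⟩
  have hdim : ∀ z : 𝒥.subscheme, g.QuasiFiniteAt z := fun z => by
    refine (AlgSpLib.fibreDimAt_eq_zero_iff g z).1 (le_antisymm ?_ (localDim_nonneg _))
    exact S1240.result g (b ⁻¹ᵁ U) hdense 0
      (fun w hw => ((AlgSpLib.fibreDimAt_eq_zero_iff g w).2 (hqf w hw)).le.trans (le_of_eq Nat.cast_zero.symm))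
      (Or.inl hglfp) z
  have : LocallyQuasiFinite g := (Scheme.Hom.quasiFiniteLocus_eq_top_iff g).1 (top_le_iff.1 fun z _ => hdim z)
  exact ⟨IsFinite.of_isProper_of_locallyQuasiFinite g, hgflat, hglfp⟩

end Groth.Agent.FlatMorFlatten
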