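import Groth.Agent.FlatMorFlatten.Scheme
import Groth.Agent.FlatMorDevissage.FPScheme

/-! Flattening of schemes of finite type by admissible blow-ups. -/

set_option autoImplicit false
set_option backward.isDefEq.respectTransparency false
set_option linter.style.haveILetI false

universe u

open CategoryTheory CategoryTheory.Limits AlgebraicGeometry TopologicalSpace Opposite Function
open Groth.Agent.Coherent

namespace Groth.Agent.FlatMorFlatten

open Groth.Agent

/-- A quotient algebra which is finitely presented away from `z` is good there as a module. -/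
theorem fp_localized_of_algebra {A P B : Type u} [CommRing A] [CommRing P] [CommRing B] [Algebra A P]
    [Algebra A B] [Algebra P B] [IsScalarTower A P B] [Algebra.FinitePresentation A P]
    (φ : P →ₐ[A] B) (hφa : ∀ x, φ x = algebraMap P B x) (hφ : Surjective φ) (z₀ : A)
    (hfp : Algebra.FinitePresentation A (Localization.Away (algebraMap A B z₀))) :
    Module.FinitePresentation (Localization (Submonoid.powers (algebraMap A P z₀)))
      (LocalizedModule (Submonoid.powers (algebraMap A P z₀)) B) := by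
  refine (FlatMorDevissage.fp_localized_iff (Algebra.linearMap P B) (fun b => (hφ b).imp fun x hx => (hφa x).symm.trans hx) _).2 ?_
  let g := algebraMap A P z₀
  have : Algebra.FinitePresentation A (Localization.Away g) := by
    have : RingHom.FinitePresentation
        ((algebraMap P (Localization.Away g)).comp (algebraMap A P)) :=
      (RingHom.finitePresentation_holdsForLocalizationAway _ g).comp
        (RingHom.finitePresentation_algebraMap.2 inferInstance)
    rw [← IsScalarTower.algebraMap_eq A P (Localization.Away g)] at this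
    exact RingHom.finitePresentation_algebraMap.1 this
  let Bf := Localization.Away (algebraMap A B z₀)
  have hunit : IsUnit (((IsScalarTower.toAlgHom A B Bf).comp φ) g) := by
    rw [AlgHom.comp_apply, AlgHom.commutes, IsScalarTower.toAlgHom_apply]
    exact IsLocalization.Away.algebraMap_isUnit _
  let ψ : Localization.Away g →ₐ[A] Bf :=
    IsLocalization.liftAlgHom (M := Submonoid.powers g)
      (f := (IsScalarTower.toAlgHom A B Bf).comp φ) fun y => by
        obtain ⟨k, hk⟩ := y.2
        rw [← hk, map_pow]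
        exact hunit.pow k
  have hψ : ∀ x : P, ψ (algebraMap P _ x) = algebraMap B Bf (φ x) := fun x =>
    IsLocalization.lift_eq (M := Submonoid.powers g) _ x
  have hsurj : Surjective ψ := by
    intro z
    obtain ⟨⟨b, ⟨_, k, rfl⟩⟩, hz⟩ := IsLocalization.surj (Submonoid.powers (algebraMap A B z₀)) z
    obtain ⟨x, rfl⟩ := hφ b
    let w : Submonoid.powers g := ⟨g ^ k, k, rfl⟩
    refine ⟨IsLocalization.mk' _ x w, ?_⟩
    have hw : ψ (algebraMap P _ w.1) = algebraMap B Bf (algebraMap A B z₀ ^ k) := by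
      rw [hψ]
      show algebraMap B Bf (φ (g ^ k)) = _
      rw [map_pow, AlgHom.commutes]
    refine ((IsLocalization.map_units Bf (⟨algebraMap A B z₀ ^ k, k, rfl⟩ :
      Submonoid.powers (algebraMap A B z₀))).mul_left_inj).1 ?_
    refine Eq.trans ?_ hz.symm
    show _ = algebraMap B Bf (φ x)
    rw [← hw, ← map_mul, IsLocalization.mk'_spec, hψ]
  obtain ⟨G, hG⟩ := Algebra.FinitePresentation.ker_fG_of_surjective ψ hsurj
  have hrep : ∀ z : G, ∃ x : P, φ x = 0 ∧
      z.1 ∈ Ideal.span {algebraMap P (Localization.Away g) x} := fun z => by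
    obtain ⟨⟨x, t⟩, hzt⟩ := IsLocalization.surj (Submonoid.powers g) z.1
    have h0 : algebraMap B Bf (φ x) = 0 := by
      have hz0 : ψ z.1 = 0 := by
        have : z.1 ∈ RingHom.ker ψ.toRingHom := hG ▸ Submodule.subset_span z.2
        simpa using this
      rw [← hψ, ← hzt, map_mul, hz0, zero_mul]
    obtain ⟨⟨_, k, rfl⟩, hk⟩ := (IsLocalization.map_eq_zero_iff
      (Submonoid.powers (algebraMap A B z₀)) Bf _).1 h0
    refine ⟨g ^ k * x, ?_, ?_⟩
    · rw [map_mul, map_pow, AlgHom.commutes]
      exact hk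
    · rw [map_mul, ← hzt, Ideal.mem_span_singleton]
      have hu1 : IsUnit (algebraMap P (Localization.Away g) (g ^ k)) :=
        IsLocalization.map_units _ (⟨g ^ k, k, rfl⟩ : Submonoid.powers g)
      have hu2 : IsUnit (algebraMap P (Localization.Away g) t.1) := IsLocalization.map_units _ t
      exact (hu1.mul_left_dvd.2 (hu2.mul_right_dvd.2 dvd_rfl))
  choose x hx0 hxG using hrep
  refine ⟨Ideal.span (Set.range x), Submodule.fg_span (Set.finite_range x), ?_, fun y hy => ?_⟩
  · exact Ideal.span_le.2 (by rintro _ ⟨z, rfl⟩; exact (hφa _).symm.trans (hx0 z))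
  have hy' : algebraMap P (Localization.Away g) y ∈
      (Ideal.span (Set.range x)).map (algebraMap P (Localization.Away g)) := by
    have h1 : algebraMap P (Localization.Away g) y ∈ Ideal.span (G : Set (Localization.Away g)) := by
      rw [show Ideal.span (G : Set (Localization.Away g)) = RingHom.ker ψ.toRingHom from hG]
      show ψ _ = 0
      rw [hψ, show φ y = 0 from (hφa y).trans hy, map_zero]
    refine Ideal.span_le.2 (fun z hz => ?_) h1
    refine Ideal.span_le.2 ?_ (hxG ⟨z, hz⟩)
    rintro _ rfl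
    exact Ideal.mem_map_of_mem _ (Ideal.subset_span ⟨_, rfl⟩)
  obtain ⟨t, ht, hty⟩ := (IsLocalization.algebraMap_mem_map_algebraMap_iff
    (Submonoid.powers g) _ _ y).1 hy'
  exact ⟨t, ht, hty⟩

variable {X S : Scheme.{u}}

/-- Presentations of the coordinate rings are good where the morphism is flat and locally finitely presented. -/
theorem good_presentation (f : X ⟶ S) (U : S.Opens) [Flat (f ∣_ U)] [LocallyOfFinitePresentation (f ∣_ U)]
    (W : S.affineOpens) (P : X.affineOpens) (e : P.1 ≤ f ⁻¹ᵁ W.1) {Pol : Type u} [CommRing Pol]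
    [Algebra Γ(S, W.1) Pol] [Algebra.FinitePresentation Γ(S, W.1) Pol] [Algebra Pol Γ(X, P.1)]
    (φ : letI := (f.appLE W.1 P.1 e).hom.toAlgebra
      Pol →ₐ[Γ(S, W.1)] Γ(X, P.1))
    (hφa : ∀ x, φ x = algebraMap Pol Γ(X, P.1) x) (hφ : Surjective φ) (z : Γ(S, W.1)) (hz : S.basicOpen z ≤ U) :
    letI := (f.appLE W.1 P.1 e).hom.toAlgebra
    haveI : IsScalarTower Γ(S, W.1) Pol Γ(X, P.1) :=
      .of_algebraMap_eq fun r => ((hφa _).symm.trans (φ.commutes r)).symm
    Good Γ(S, W.1) Pol Γ(X, P.1) z := by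
  let _ := (f.appLE W.1 P.1 e).hom.toAlgebra
  have : IsScalarTower Γ(S, W.1) Pol Γ(X, P.1) :=
    .of_algebraMap_eq fun r => ((hφa _).symm.trans (φ.commutes r)).symm
  let g : Γ(X, P.1) := algebraMap Γ(S, W.1) Γ(X, P.1) z
  have hgU : X.basicOpen g ≤ f ⁻¹ᵁ U := (Scheme.basicOpen_appLE f P.1 W.1 e z).le.trans
    (inf_le_right.trans fun x hx => hz hx)
  -- the ring map to the basic open
  have e₀ : X.basicOpen g ≤ f ⁻¹ᵁ W.1 := (X.basicOpen_le g).trans e
  have hflp : RingHom.Flat (f.appLE W.1 (X.basicOpen g) e₀).hom ∧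
      RingHom.FinitePresentation (f.appLE W.1 (X.basicOpen g) e₀).hom := by
    let D := U.ι ⁻¹ᵁ S.basicOpen z
    let P' := (f ⁻¹ᵁ U).ι ⁻¹ᵁ X.basicOpen g
    have hgz : X.basicOpen g ≤ f ⁻¹ᵁ S.basicOpen z :=
      (Scheme.basicOpen_appLE f P.1 W.1 e z).le.trans inf_le_right
    have hDi : U.ι ''ᵁ D = S.basicOpen z := by
      rw [Scheme.Hom.image_preimage_eq_opensRange_inf, Scheme.Opens.opensRange_ι]
      exact inf_eq_right.2 hz
    have hPi : (f ⁻¹ᵁ U).ι ''ᵁ P' = X.basicOpen g := by
      rw [Scheme.Hom.image_preimage_eq_opensRange_inf, Scheme.Opens.opensRange_ι]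
      exact inf_eq_right.2 hgU
    have hD : IsAffineOpen D := (U.ι.isAffineOpen_iff_of_isOpenImmersion).1 (by rw [hDi]; exact W.2.basicOpen z)
    have hP' : IsAffineOpen P' :=
      ((f ⁻¹ᵁ U).ι.isAffineOpen_iff_of_isOpenImmersion).1 (by rw [hPi]; exact P.2.basicOpen g)
    have eDP : P' ≤ (f ∣_ U) ⁻¹ᵁ D := fun y hy => by
      show ((f ∣_ U) y).1 ∈ S.basicOpen z
      rw [morphismRestrict_base]
      exact hgz hy
    have hA : RingHom.Flat (f.appLE (S.basicOpen z) (X.basicOpen g) hgz).hom := by
      have h := HasRingHomProperty.appLE @Flat (f ∣_ U) inferInstance ⟨D, hD⟩ ⟨P', hP'⟩ eDP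
      rw [morphismRestrict_appLE] at h
      exact (RingHom.Flat.respectsIso.arrow_mk_iso_iff (Arrow.isoMk (S.presheaf.mapIso (eqToIso hDi.symm).op)
        (X.presheaf.mapIso (eqToIso hPi.symm).op) (by simp [Scheme.Hom.map_appLE, Scheme.Hom.appLE_map]))).1 h
    have hB : RingHom.FinitePresentation (f.appLE (S.basicOpen z) (X.basicOpen g) hgz).hom := by
      have h := HasRingHomProperty.appLE @LocallyOfFinitePresentation (f ∣_ U) inferInstance ⟨D, hD⟩ ⟨P', hP'⟩ eDP
      rw [morphismRestrict_appLE] at h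
      exact (RingHom.finitePresentation_respectsIso.arrow_mk_iso_iff (Arrow.isoMk (S.presheaf.mapIso (eqToIso hDi.symm).op)
        (X.presheaf.mapIso (eqToIso hPi.symm).op) (by simp [Scheme.Hom.map_appLE, Scheme.Hom.appLE_map]))).1 h
    let _ : Algebra Γ(S, W.1) Γ(S, S.basicOpen z) := (S.presheaf.map (homOfLE (S.basicOpen_le z)).op).hom.toAlgebra
    have : IsLocalization.Away z Γ(S, S.basicOpen z) := W.2.isLocalization_basicOpen z
    have heq : (f.appLE (S.basicOpen z) (X.basicOpen g) hgz).hom.comp (algebraMap Γ(S, W.1) Γ(S, S.basicOpen z)) =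
        (f.appLE W.1 (X.basicOpen g) e₀).hom :=
      congrArg CommRingCat.Hom.hom (f.map_appLE hgz (homOfLE (S.basicOpen_le z)).op)
    rw [← heq]
    exact ⟨RingHom.Flat.stableUnderComposition _ _ (RingHom.Flat.holdsForLocalizationAway _ z) hA,
      RingHom.finitePresentation_stableUnderComposition _ _
        (RingHom.finitePresentation_holdsForLocalizationAway _ z) hB⟩
  let _ : Algebra Γ(X, P.1) Γ(X, X.basicOpen g) := (X.presheaf.map (homOfLE (X.basicOpen_le g)).op).hom.toAlgebra
  let _ : Algebra Γ(S, W.1) Γ(X, X.basicOpen g) := (f.appLE W.1 (X.basicOpen g) e₀).hom.toAlgebra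
  have : IsScalarTower Γ(S, W.1) Γ(X, P.1) Γ(X, X.basicOpen g) := .of_algebraMap_eq fun r =>
    (ConcreteCategory.congr_hom (f.appLE_map e (homOfLE (X.basicOpen_le g)).op) r).symm
  have : IsLocalization.Away g Γ(X, X.basicOpen g) := P.2.isLocalization_basicOpen g
  let ε := (IsLocalization.algEquiv (Submonoid.powers g) (Localization.Away g) Γ(X, X.basicOpen g)).restrictScalars Γ(S, W.1)
  have : Algebra.FinitePresentation Γ(S, W.1) Γ(X, X.basicOpen g) := hflp.2
  have : Module.Flat Γ(S, W.1) Γ(X, X.basicOpen g) := hflp.1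
  refine ⟨fp_localized_of_algebra φ hφa hφ z (Algebra.FinitePresentation.equiv ε.symm), ?_⟩
  refine (FlatMorDevissage.flat_localized_algebraMap_iff (S' := Pol) (S := Γ(X, P.1)) (R := Γ(S, W.1))
    (M := Γ(X, P.1)) _).2 ?_
  have hmap : (Submonoid.powers (algebraMap Γ(S, W.1) Pol z)).map (algebraMap Pol Γ(X, P.1)) = Submonoid.powers g := by
    show _ = Submonoid.powers (algebraMap Γ(S, W.1) Γ(X, P.1) z)
    rw [IsScalarTower.algebraMap_apply Γ(S, W.1) Pol Γ(X, P.1)]
    exact Submonoid.map_powers (algebraMap Pol Γ(X, P.1) : Pol →* Γ(X, P.1)) _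
  rw [hmap]
  let eM : LocalizedModule (Submonoid.powers g) Γ(X, P.1) ≃ₗ[Γ(X, P.1)] Γ(X, X.basicOpen g) :=
    IsLocalizedModule.iso (Submonoid.powers g) (Algebra.linearMap Γ(X, P.1) Γ(X, X.basicOpen g))
  exact Module.Flat.of_linearEquiv (eM.restrictScalars Γ(S, W.1))

end Groth.Agent.FlatMorFlatten
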