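import Groth.Agent.FlatMorFlatten.StepData
import Groth.Agent.FlatMorFlatten.AlgCentre
import Groth.Agent.FlatMorDevissage.StepLemmas
import Groth.Agent.FlatMorDevissage.Localize

/-! Flattening a module with a basis at the generic points of the fibres, up to smaller dimensions. -/

set_option autoImplicit false
set_option backward.isDefEq.respectTransparency false
set_option linter.style.haveILetI false

universe u

open TensorProduct Function

namespace Groth.Agent.FlatMorFlatten

open Groth.Agent

/-- Modules with fibres of dimension less than `n` can be flattened. -/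
def FlattenBelow (n : ℕ) : Prop :=
  ∀ (R : Type u) [CommRing R] (B : Type u) [CommRing B] [Algebra R B] [Algebra.FinitePresentation R B]
    (N : Type u) [AddCommGroup N] [Module B N] [Module R N] [IsScalarTower R B N] [Module.Finite B N]
    (zs : Finset R), (∀ z ∈ zs, Good R B N z) →
    (∀ (p : Ideal R) [p.IsPrime], Module.supportDim (p.Fiber B) (FlatCA.fiberMod p B N) < (n : WithBot ℕ∞)) →
    Flattenable (Ideal.span (zs : Set R)) N

/-- One step of dévissage: a basis at every generic point of the fibres reduces the dimension. -/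
theorem flattenable_of_generic_basis {W D : Type u} [CommRing W] [CommRing D] [Algebra W D]
    [Algebra.FinitePresentation W D] [Module.Flat W D] {n : ℕ} (hA : FlattenBelow.{u} n)
    (hdom : FlatMorDevissage.FibresDomain W D) (hD : FlatCA.SmoothRelDim n W D) (Q : Type u) [AddCommGroup Q]
    [Module D Q] [Module W Q] [IsScalarTower W D Q] [Module.Finite D Q] (zs : Finset W)
    (hgood : ∀ z ∈ zs, Good W D Q z) {r : ℕ} (g : D)
    (hg : ∀ p : Ideal W, p.IsPrime → g ∉ p.map (algebraMap W D)) (v : Fin r → Q)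
    (hv : ∀ q, g • q ∈ Submodule.span D (Set.range v)) (hbot : ∀ j, j < r → Fitt.ideal D Q j = ⊥) :
    Flattenable (Ideal.span (zs : Set W)) Q := by
  classical
  have hu := univInj_smul hdom g fun p hp =>
    FlatMorBlowFree.tmul_ne_zero p p.ResidueField (Ideal.ker_algebraMap_residueField p) (hg p hp)
  have hreg : ∀ d : D, g * d = 0 → d = 0 := fun d hd => by
    have h1 : (1 : W) ⊗ₜ[W] d = 0 := hu W (by rw [LinearMap.lTensor_tmul, LinearMap.mulLeft_apply, hd, tmul_zero, map_zero])
    simpa using congrArg (TensorProduct.lid W D) h1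
  let α : (Fin r → D) →ₗ[D] Q := Fintype.linearCombination D v
  have hα : Injective α := (injective_iff_map_eq_zero _).2 fun d hd => funext fun i => by
    rw [Fintype.linearCombination_apply] at hd
    obtain ⟨q, hq⟩ := CAlgH3.FittStrictFree.pow_mul_eq_zero_of_rel v hv hbot d hd i
    induction q with
    | zero => simpa using hq
    | succ q ih => exact ih (hreg _ (by rw [← mul_assoc, ← pow_succ', hq]))
  have hrange : ∀ q, (LinearMap.lsmul D Q g) q ∈ LinearMap.range α := fun q => by
    rw [Fintype.range_linearCombination]; exact hv q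
  let e := LinearEquiv.ofInjective α hα
  let β : Q →ₗ[D] (Fin r → D) := e.symm.toLinearMap ∘ₗ LinearMap.codRestrict _ (LinearMap.lsmul D Q g) hrange
  let G : (Fin r → D) →ₗ[W] (Fin r → D) := (LinearMap.lsmul D (Fin r → D) g).restrictScalars W
  have hβα : β.restrictScalars W ∘ₗ α.restrictScalars W = G := LinearMap.ext fun F => hα (by
    have h1 : α (β (α F)) = g • α F :=
      congrArg Subtype.val (e.apply_symm_apply (LinearMap.codRestrict _ (LinearMap.lsmul D Q g) hrange (α F)))
    exact h1.trans (map_smul α g F).symm)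
  have hG : FlatCA.UnivInj W G := univInj_pi r hu G fun x i => rfl
  let C := Q ⧸ LinearMap.range α
  have hgC : g ∈ Module.annihilator D C := Module.mem_annihilator.2 fun c => by
    obtain ⟨q, rfl⟩ := Submodule.mkQ_surjective _ c
    rw [← map_smul, Submodule.mkQ_apply, Submodule.Quotient.mk_eq_zero]
    exact hrange q
  obtain ⟨J, hJ, h1, h2, hflat⟩ := hA W D C zs
    (fun z hz => (hgood z hz).coker α (β.restrictScalars W) G hβα hG) fun p _ => by
      rw [FlatMorDevissage.supportDim_fiberMod]
      have := FlatMorDevissage.isPrime_map_of_fibresDomain hdom p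
      exact FlatMorDevissage.krullDim_primesOverGE_lt (FlatMorDevissage.krullDim_primesOverGE_le hD)
        fun hle => hg p ‹_› (hle hgC)
  have : Module.Flat W (Fin r → D) := EGA43.FlatBC.flat_pi_of_finite _
  refine ⟨J, hJ, h1, h2, fun L _ _ a ha hK => ?_⟩
  refine flat_tq_of_extension_baseChange ha (α.restrictScalars W) (β.restrictScalars W) G hβα hG ?_
  exact flat_tq_congr ((Submodule.quotEquivOfEq _ _ (LinearMap.range_restrictScalars α) ≪≫ₗ
    Submodule.Quotient.restrictScalarsEquiv W (LinearMap.range α)).baseChange W L) (hflat L a ha hK)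

set_option maxHeartbeats 800000 in
/-- The torsion free quotient after localising the base has a basis at all generic points. -/
theorem flattenable_torQuot {W D : Type u} [CommRing W] [CommRing D] [Algebra W D] {n : ℕ}
    (hA : FlattenBelow.{u} n) (M : Type u) [AddCommGroup M] [Module D M] [Module W M] [IsScalarTower W D M]
    [Module.Finite D M] (zs : Finset W) (hgood : ∀ z ∈ zs, Good W D M z) (W' D' : Type u) [CommRing W']
    [CommRing D'] [Algebra W W'] [Algebra W' D'] [Algebra D D'] [Algebra W D'] [IsScalarTower W D D']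
    [IsScalarTower W W' D'] [Algebra.IsPushout W W' D D'] [Algebra.FinitePresentation W' D']
    [Module.Flat W' D'] (hdom' : FlatMorDevissage.FibresDomain W' D') (hD' : FlatCA.SmoothRelDim n W' D')
    {x : W} (hx' : algebraMap W W' x ∈ nonZeroDivisors W') (hz : ∀ z ∈ zs, z ∈ (Ideal.span {x}).radical)
    {r : ℕ} (hlo : ∀ j, j < r → Fitt.ideal D M j = ⊥) (g : D)
    (hg' : ∀ p : Ideal W', p.IsPrime → algebraMap D D' g ∉ p.map (algebraMap W' D')) (w : Fin r → M)
    (hgw : ∀ m, ∃ cf : Fin r → D, g • m - ∑ i, cf i • w i ∈ FlatCA.powTorsion D (algebraMap W D x) M) :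
    Flattenable ((Ideal.span (zs : Set W)).map (algebraMap W W'))
      (TQ D' (algebraMap W' D' (algebraMap W W' x)) (D' ⊗[D] M)) := by
  classical
  let M' := D' ⊗[D] M
  let x' := algebraMap W W' x
  have hxD : algebraMap W' D' x' = algebraMap D D' (algebraMap W D x) := by
    rw [← IsScalarTower.algebraMap_apply W W' D', ← IsScalarTower.algebraMap_apply W D D']
  let g' := algebraMap D D' g
  let T' := FlatCA.powTorsion D' (algebraMap W' D' x') M'
  let Q' := M' ⧸ T'
  let f : M →ₗ[D] Q' := T'.mkQ.restrictScalars D ∘ₗ TensorProduct.mk D D' M 1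
  have hfT : ∀ m ∈ FlatCA.powTorsion D (algebraMap W D x) M, f m = 0 := fun m hm => by
    obtain ⟨e, he⟩ := mem_powTorsion_iff.1 hm
    show T'.mkQ ((1 : D') ⊗ₜ[D] m) = 0
    rw [Submodule.mkQ_apply, Submodule.Quotient.mk_eq_zero, mem_powTorsion_iff]
    exact ⟨e, by rw [hxD, ← map_pow, algebraMap_smul, ← tmul_smul, he, tmul_zero]⟩
  let v' : Fin r → Q' := fun i => f (w i)
  have hgm : ∀ m, f (g • m) ∈ Submodule.span D' (Set.range v') := fun m => by
    obtain ⟨cf, hcf⟩ := hgw m
    have h2 := hfT _ hcf
    rw [map_sub, sub_eq_zero, map_sum] at h2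
    rw [h2]
    refine Submodule.sum_mem _ fun i _ => ?_
    rw [map_smul]
    exact Submodule.smul_of_tower_mem _ (cf i) (Submodule.subset_span ⟨i, rfl⟩)
  have hv' : ∀ q, g' • q ∈ Submodule.span D' (Set.range v') := fun q => by
    obtain ⟨m, rfl⟩ := T'.mkQ_surjective q
    induction m using TensorProduct.induction_on with
    | zero => rw [map_zero, smul_zero]; exact zero_mem _
    | add a b ha hb => rw [map_add, smul_add]; exact add_mem ha hb
    | tmul d m =>
      have h1 : g' • T'.mkQ (d ⊗ₜ[D] m) = d • f (g • m) := by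
        show g' • T'.mkQ (d ⊗ₜ[D] m) = d • T'.mkQ ((1 : D') ⊗ₜ[D] (g • m))
        rw [← map_smul, ← map_smul]
        refine congrArg T'.mkQ ?_
        rw [tmul_smul, smul_tmul', smul_tmul', smul_tmul']
        congr 1
        rw [smul_eq_mul, smul_eq_mul, Algebra.smul_def, mul_one, mul_comm]
      rw [h1]
      exact Submodule.smul_mem _ _ (hgm m)
  have hbot' : ∀ j, j < r → Fitt.ideal D' Q' j = ⊥ := fun j hj => by
    refine FlatMorBlowFree.ideal_quotient_eq_bot j (FlatMorBlowFree.algebraMap_mem_nonZeroDivisors hx') ?_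
    rw [FittLib.ideal_baseChange, hlo j hj, Ideal.map_bot]
  have hmap : (Ideal.span (zs : Set W)).map (algebraMap W W') = Ideal.span (zs.image (algebraMap W W') : Set W') := by
    rw [Ideal.map_span, Finset.coe_image]
  rw [hmap]
  refine flattenable_of_generic_basis hA hdom' hD' Q' _ (fun _ hz' => ?_) g' hg' v' hv' hbot'
  obtain ⟨z, hzz, rfl⟩ := Finset.mem_image.1 hz'
  refine (good_iff_of_killed T'.mkQ T'.mkQ_surjective fun m hm => ?_).1 ((hgood z hzz).baseChange W')
  obtain ⟨e, he⟩ := mem_powTorsion_iff.1 ((Submodule.Quotient.mk_eq_zero _).1 hm)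
  rw [← map_pow, algebraMap_smul] at he
  refine killed_of_mem_radical ?_ ⟨e, he⟩
  obtain ⟨k, hk⟩ := hz z hzz
  refine ⟨k, ?_⟩
  rw [← map_pow, ← Set.image_singleton, ← Ideal.map_span]
  exact Ideal.mem_map_of_mem _ hk

/-- Flattening the torsion free quotient flattens the module. -/
theorem flat_of_flattens_torQuot {W D : Type u} [CommRing W] [CommRing D] [Algebra W D] (M : Type u)
    [AddCommGroup M] [Module D M] [Module W M] [IsScalarTower W D M] (W' D' : Type u) [CommRing W'] [CommRing D']
    [Algebra W W'] [Algebra W' D'] [Algebra D D'] [Algebra W D'] [IsScalarTower W D D'] [IsScalarTower W W' D']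
    [Algebra.IsPushout W W' D D'] {x : W} {J : Ideal W'}
    (h : Flattens J (TQ D' (algebraMap W' D' (algebraMap W W' x)) (D' ⊗[D] M))) (L : Type u) [CommRing L]
    [Algebra W' L] [Algebra W L] [IsScalarTower W W' L] {a : L} (ha : a ∈ nonZeroDivisors L)
    (hxa : algebraMap W L x ∣ a) (hK : ∃ K : Ideal L, J.map (algebraMap W' L) * K = Ideal.span {a}) :
    Module.Flat L (TQ L a (L ⊗[W] M)) := by
  let T' := FlatCA.powTorsion D' (algebraMap W' D' (algebraMap W W' x)) (D' ⊗[D] M)
  obtain ⟨hs, hk⟩ := exists_killed_baseChange (R' := L) (T'.mkQ.restrictScalars W') T'.mkQ_surjective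
    (algebraMap W W' x) fun m hm => by
      obtain ⟨e, he⟩ := mem_powTorsion_iff.1 ((Submodule.Quotient.mk_eq_zero _).1 hm)
      exact ⟨e, by rw [← algebraMap_smul D' (algebraMap W W' x ^ e), map_pow]; exact he⟩
  have hfl' : Module.Flat L (TQ L a (L ⊗[W'] (D' ⊗[D] M))) := flat_tq_of_surjective _ hs (fun m hm => by
    obtain ⟨e, he⟩ := hk m hm
    rw [← IsScalarTower.algebraMap_apply W W' L] at he
    obtain ⟨d, rfl⟩ := hxa
    exact ⟨e, by rw [mul_pow, mul_comm, mul_smul, he, smul_zero]⟩) (h L a ha hK)
  exact flat_tq_congr ((AlgebraTensorModule.cancelBaseChange W W' L L M).symm ≪≫ₗ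
    (Algebra.IsPushout.cancelBaseChange W W' D D' M).symm.baseChange W' L) hfl'

attribute [local instance] Algebra.TensorProduct.rightAlgebra in
set_option maxHeartbeats 800000 in
/-- Near a point where the content of the first nonzero Fitting ideal is invertible the strict transform
can be flattened. -/
theorem exists_flattens_away {W D : Type u} [CommRing W] [CommRing D] [Algebra W D]
    [Algebra.FinitePresentation W D] [Module.Flat W D] {n : ℕ} (hA : FlattenBelow.{u} n)
    (hdom : FlatMorDevissage.FibresDomain W D) (hD : FlatCA.SmoothRelDim n W D) (M : Type u) [AddCommGroup M]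
    [Module D M] [Module W M] [IsScalarTower W D M] [Module.Finite D M] (zs : Finset W)
    (hgood : ∀ z ∈ zs, Good W D M z) {r : ℕ} {c x : W} (hc : c ∈ nonZeroDivisors W)
    (hx : x ∈ nonZeroDivisors W) (hcx : c ∣ x) (hz : ∀ z ∈ zs, z ∈ (Ideal.span {x}).radical)
    (hlo : ∀ j, j < r → FlatMorBlowFree.cont W (Fitt.ideal D M j) = ⊥)
    (hr : FlatMorBlowFree.cont W (Fitt.ideal D M r) = Ideal.span {c}) (p' : Ideal W) [p'.IsPrime] :
    ∃ (h' : W) (J : Ideal W), h' ∉ p' ∧ J.FG ∧ Ideal.span (zs : Set W) ≤ J.radical ∧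
      ∀ (L : Type u) [CommRing L] [Algebra W L] (a : L), IsUnit (algebraMap W L h') → a ∈ nonZeroDivisors L →
        algebraMap W L x ∣ a → (∃ K : Ideal L, J.map (algebraMap W L) * K = Ideal.span {a}) →
        Module.Flat L (TQ L a (L ⊗[W] M)) := by
  classical
  have := FlatMorDevissage.projective_of_fibresDomain hdom
  have fs := FlatMorBlowFree.fitting_strictTransform hdom r hc hx hcx hlo hr p'
  let T := FlatCA.powTorsion D (algebraMap W D x) M
  have := FlatMorDevissage.isPrime_map_of_fibresDomain hdom p'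
  obtain ⟨g, v, hg, hv⟩ := FittLib.exists_not_mem_smul_mem_span fs.2
  choose w hw using fun i => T.mkQ_surjective (v i)
  obtain ⟨h', hh', hh'p⟩ : ∃ h', h' ∈ FlatMorBlowFree.cont W (Ideal.span {g}) ∧ h' ∉ p' :=
    Set.not_subset.1 fun hle => hg (FlatMorBlowFree.not_le_of_cont hle (Ideal.mem_span_singleton_self g))
  let W' := Localization.Away h'
  let D' := W' ⊗[W] D
  let M' := D' ⊗[D] M
  let x' := algebraMap W W' x
  have hx' : x' ∈ nonZeroDivisors W' :=
    IsLocalization.map_nonZeroDivisors_le (Submonoid.powers h') W' (Submonoid.mem_map_of_mem _ hx)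
  have hdom' : FlatMorDevissage.FibresDomain W' D' := hdom.baseChange W'
  have hxD : algebraMap W' D' x' = algebraMap D D' (algebraMap W D x) := by
    rw [← IsScalarTower.algebraMap_apply W W' D', ← IsScalarTower.algebraMap_apply W D D']
  let g' := algebraMap D D' g
  have hg' : ∀ p : Ideal W', p.IsPrime → g' ∉ p.map (algebraMap W' D') := fun p hp hgp => by
    have h1 := FlatMorBlowFree.cont_map (R := W) (R' := W') (S' := D') (Ideal.span {g})
    rw [Ideal.map_span, Set.image_singleton] at h1
    have h2 : (FlatMorBlowFree.cont W (Ideal.span {g})).map (algebraMap W W') ≤ p :=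
      h1 ▸ FlatMorBlowFree.cont_le ((Ideal.span_singleton_le_iff_mem _).2 hgp)
    exact hp.ne_top (Ideal.eq_top_of_isUnit_mem p (h2 (Ideal.mem_map_of_mem _ hh'))
      (IsLocalization.Away.algebraMap_isUnit h'))
  have hlo' : ∀ j, j < r → Fitt.ideal D M j = ⊥ := fun j hj => le_bot_iff.1
    ((FlatMorBlowFree.le_map_cont (R := W) _).trans (by rw [hlo j hj, Ideal.map_bot]))
  obtain ⟨J', hJ', -, hJ'2, hflat⟩ := flattenable_torQuot hA M zs hgood W' D' hdom'
    (FlatMorDevissage.smoothRelDim_baseChange hD W') hx' hz hlo' g hg' w fun m => by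
      obtain ⟨cf, hcf⟩ := (Submodule.mem_span_range_iff_exists_fun D).1 (hv (T.mkQ m))
      refine ⟨cf, ?_⟩
      rw [← Submodule.Quotient.mk_eq_zero, ← Submodule.mkQ_apply, map_sub, map_sum, map_smul, ← hcf, sub_eq_zero]
      exact Finset.sum_congr rfl fun i _ => by rw [map_smul, hw]
  obtain ⟨J, hJ, hZJ, hJW⟩ := exists_lift_away h' (Ideal.span (zs : Set W)) ⟨zs, rfl⟩ J' hJ' hJ'2
  refine ⟨h', J, hh'p, hJ, hZJ, fun L _ _ a hu ha hxa hK => ?_⟩
  let _ : Algebra W' L := (IsLocalization.Away.lift h' hu).toAlgebra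
  have : IsScalarTower W W' L := .of_algebraMap_eq fun w => (IsLocalization.Away.lift_eq h' hu w).symm
  refine flat_of_flattens_torQuot M W' D' hflat L ha hxa ?_
  rwa [← hJW, Ideal.map_map, ← IsScalarTower.algebraMap_eq]

end Groth.Agent.FlatMorFlatten
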