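import Groth.Agent.FlatMorFlatten.TorQuot
import Groth.Agent.FlatMorDevissage.FPTransfer
import Groth.Agent.FlatMorDevissage.FlatTransfer

/-! Modules flat and finitely presented where a function of the base does not vanish. -/

set_option autoImplicit false
set_option backward.isDefEq.respectTransparency false
set_option linter.style.haveILetI false

universe u

open TensorProduct Function

namespace Groth.Agent.FlatMorFlatten

open Groth.Agent

/-- `N` is finitely presented over `B` and flat over `R` where `z` is invertible. -/
def Good (R : Type u) [CommRing R] (B : Type u) [CommRing B] [Algebra R B] (N : Type u) [AddCommGroup N]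
    [Module B N] [Module R N] [IsScalarTower R B N] (z : R) : Prop :=
  Module.FinitePresentation (Localization (Submonoid.powers (algebraMap R B z)))
      (LocalizedModule (Submonoid.powers (algebraMap R B z)) N) ∧
    Module.Flat R (LocalizedModule (Submonoid.powers (algebraMap R B z)) N)

variable {R B N N' : Type u} [CommRing R] [CommRing B] [Algebra R B] [AddCommGroup N] [Module B N] [Module R N]
  [IsScalarTower R B N] [AddCommGroup N'] [Module B N'] [Module R N'] [IsScalarTower R B N'] {z : R}

/-- Maps with kernel and cokernel killed by powers of `z` do not change goodness. -/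
theorem good_iff_of_killed (f : N →ₗ[B] N') (hs : Surjective f)
    (hk : ∀ n, f n = 0 → ∃ e : ℕ, z ^ e • n = 0) : Good R B N z ↔ Good R B N' z := by
  let S := Submonoid.powers (algebraMap R B z)
  let fN := LocalizedModule.mkLinearMap S N
  let fN' := LocalizedModule.mkLinearMap S N'
  let fL : LocalizedModule S N →ₗ[Localization S] LocalizedModule S N' :=
    (IsLocalizedModule.map S fN fN' f).extendScalarsOfIsLocalization S (Localization S)
  have hinj : Injective fL := by
    refine (injective_iff_map_eq_zero _).2 fun w hw => ?_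
    obtain ⟨⟨m, s⟩, hms⟩ := IsLocalizedModule.mk'_surjective S fN w
    rw [Function.uncurry_apply_pair] at hms
    subst hms
    change IsLocalizedModule.map S fN fN' f (IsLocalizedModule.mk' fN m s) = 0 at hw
    rw [IsLocalizedModule.map_mk', IsLocalizedModule.mk'_eq_zero'] at hw
    obtain ⟨⟨_, e, rfl⟩, he⟩ := hw
    rw [Submonoid.smul_def, ← map_smul] at he
    obtain ⟨e', he'⟩ := hk _ he
    rw [IsLocalizedModule.mk'_eq_zero']
    refine ⟨⟨_, e' + e, rfl⟩, ?_⟩
    rw [Submonoid.smul_def]
    show algebraMap R B z ^ (e' + e) • m = 0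
    rw [pow_add, mul_smul, ← map_pow, algebraMap_smul]
    exact he'
  let eL : LocalizedModule S N ≃ₗ[Localization S] LocalizedModule S N' :=
    LinearEquiv.ofBijective fL ⟨hinj, IsLocalizedModule.map_surjective S fN fN' f hs⟩
  refine and_congr ⟨fun h => ?_, fun h => ?_⟩ ?_
  · exact Module.finitePresentation_of_surjective eL.toLinearMap eL.surjective
      (by rw [LinearEquiv.ker]; exact Submodule.fg_bot)
  · exact Module.finitePresentation_of_surjective eL.symm.toLinearMap eL.symm.surjective
      (by rw [LinearEquiv.ker]; exact Submodule.fg_bot)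
  · exact Module.Flat.equiv_iff (eL.restrictScalars R)

theorem good_congr (e : N ≃ₗ[B] N') : Good R B N z ↔ Good R B N' z :=
  good_iff_of_killed e.toLinearMap e.surjective fun n hn => ⟨0, by rw [e.map_eq_zero_iff.1 hn, smul_zero]⟩

theorem good_of_subsingleton [Subsingleton N] : Good R B N z := by
  let S := Submonoid.powers (algebraMap R B z)
  have : Subsingleton (LocalizedModule S N) := ⟨fun a b => by
    induction a using LocalizedModule.induction_on with
    | h m s =>
      induction b using LocalizedModule.induction_on with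
      | h m' s' => exact LocalizedModule.mk_eq.2 ⟨1, Subsingleton.elim _ _⟩⟩
  refine ⟨?_, ?_⟩
  · exact Module.finitePresentation_of_surjective
      (0 : (Fin 0 → Localization S) →ₗ[Localization S] LocalizedModule S N) (fun w => ⟨0, Subsingleton.elim _ _⟩)
      (by rw [show LinearMap.ker (0 : (Fin 0 → Localization S) →ₗ[Localization S] LocalizedModule S N) = ⊥ from
        Subsingleton.elim _ _]; exact Submodule.fg_bot)
  · exact Module.Flat.of_free

theorem Good.flatAt (h : Good R B N z) (P : Ideal B) [P.IsPrime] (hP : algebraMap R B z ∉ P) :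
    FlatCA.FlatAt R P N :=
  (FlatMorDevissage.flat_away_iff _).1 h.2 P hP

theorem kerKilled_of_good (h : Good R B N z) :
    FlatMorDevissage.KerKilled R N (Submonoid.powers (algebraMap R B z) : Set B) :=
  (FlatMorDevissage.flat_localized_iff_kerKilled _).1 h.2

/-- Goodness goes up along base changes. -/
theorem Good.baseChange (R' : Type u) [CommRing R'] [Algebra R R'] [Module.Finite B N] (h : Good R B N z)
    {B' : Type u} [CommRing B'] [Algebra R' B'] [Algebra B B'] [Algebra R B'] [IsScalarTower R B B']
    [IsScalarTower R R' B'] [Algebra.IsPushout R R' B B'] :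
    Good R' B' (B' ⊗[B] N) (algebraMap R R' z) := by
  let T := Submonoid.powers (algebraMap R B z)
  have hz : algebraMap R' B' (algebraMap R R' z) = algebraMap B B' (algebraMap R B z) := by
    rw [← IsScalarTower.algebraMap_apply, ← IsScalarTower.algebraMap_apply]
  refine ⟨FlatMorDevissage.fp_localized_baseChange (TensorProduct.isBaseChange B N B') ?_ h.1, ?_⟩
  · rintro _ ⟨e, rfl⟩
    exact ⟨e, by rw [map_pow, hz]⟩
  let φ := LocalizedModule.mkLinearMap T N
  let φ' : B' ⊗[B] N →ₗ[B'] B' ⊗[B] LocalizedModule T N := φ.baseChange B'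
  have : IsLocalizedModule T (φ'.restrictScalars B) := by
    have h1 : IsLocalizedModule T
        ((TensorProduct.comm B (LocalizedModule T N) B').toLinearMap ∘ₗ AlgebraTensorModule.rTensor B B' φ) :=
      IsLocalizedModule.of_linearEquiv T _ _
    have h2 : IsLocalizedModule T (((TensorProduct.comm B (LocalizedModule T N) B').toLinearMap ∘ₗ
        AlgebraTensorModule.rTensor B B' φ) ∘ₗ (TensorProduct.comm B B' N).toLinearMap) :=
      IsLocalizedModule.of_linearEquiv_right T _ _
    convert h2 using 1
    ext a b
    rfl
  have := IsLocalizedModule.of_restrictScalars T φ'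
  have hT : Algebra.algebraMapSubmonoid B' T = Submonoid.powers (algebraMap R' B' (algebraMap R R' z)) := by
    rw [hz]; exact Submonoid.map_powers (algebraMap B B' : B →* B') _
  have hfl : Module.Flat R' (B' ⊗[B] LocalizedModule T N) := by
    have := h.2
    exact Module.Flat.of_linearEquiv (Algebra.IsPushout.cancelBaseChange R R' B B' (LocalizedModule T N))
  rw [← hT]
  exact Module.Flat.of_linearEquiv ((IsLocalizedModule.iso (Algebra.algebraMapSubmonoid B' T) φ').restrictScalars R')

/-- Goodness goes up along flat algebras. -/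
theorem Good.flatAlgebra [Module.Finite B N] (h : Good R B N z) (B' : Type u) [CommRing B'] [Algebra B B']
    [Algebra R B'] [IsScalarTower R B B'] [Module.Flat B B'] : Good R B' (B' ⊗[B] N) z := by
  have hz : algebraMap R B' z = algebraMap B B' (algebraMap R B z) := IsScalarTower.algebraMap_apply R B B' z
  refine ⟨FlatMorDevissage.fp_localized_baseChange (TensorProduct.isBaseChange B N B') ?_ h.1, ?_⟩
  · rintro _ ⟨e, rfl⟩
    exact ⟨e, by rw [map_pow, hz]⟩
  refine (FlatMorDevissage.flat_away_iff _).2 fun Q _ hQ => ?_
  refine (FlatMorDevissage.flatAt_tensor_iff Q).2 (h.flatAt _ ?_)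
  rw [Ideal.mem_comap, ← hz]
  exact hQ

/-- The tensor chase behind flatness of a cokernel. -/
theorem exists_lift_ker {F Q C A A' : Type u} [AddCommGroup F] [Module R F] [AddCommGroup Q] [Module R Q]
    [AddCommGroup C] [Module R C] [AddCommGroup A] [Module R A] [AddCommGroup A'] [Module R A']
    (a : F →ₗ[R] Q) (π : Q →ₗ[R] C) (hex : Exact a π) (hsπ : Surjective π) (β : Q →ₗ[R] F) (G : F →ₗ[R] F)
    (hβα : β ∘ₗ a = G) (hG : FlatCA.UnivInj R G) (i : A →ₗ[R] A') (x : C ⊗[R] A) (hx : i.lTensor C x = 0) :
    ∃ y : Q ⊗[R] A, π.rTensor A y = x ∧ i.lTensor Q y = 0 := by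
  obtain ⟨y, rfl⟩ := LinearMap.rTensor_surjective A hsπ x
  have h1 : π.rTensor A' (i.lTensor Q y) = 0 := by
    rw [← LinearMap.comp_apply, LinearMap.rTensor_comp_lTensor, ← LinearMap.lTensor_comp_rTensor]
    exact hx
  obtain ⟨w, hw⟩ := (rTensor_exact A' hex hsπ _).1 h1
  let q := (LinearMap.range i).mkQ
  have hqi : q ∘ₗ i = 0 := LinearMap.range_mkQ_comp i
  have hGw : G.rTensor A' w = i.lTensor F (β.rTensor A y) := by
    rw [← hβα, LinearMap.rTensor_comp, LinearMap.comp_apply, hw, ← LinearMap.comp_apply,
      LinearMap.rTensor_comp_lTensor, ← LinearMap.lTensor_comp_rTensor, LinearMap.comp_apply]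
  have hq : q.lTensor F w = 0 := by
    refine ((LinearMap.lTensor_inj_iff_rTensor_inj _ G).1 (hG _)) ?_
    rw [map_zero, ← LinearMap.comp_apply, LinearMap.rTensor_comp_lTensor, ← LinearMap.lTensor_comp_rTensor,
      LinearMap.comp_apply, hGw, ← LinearMap.comp_apply, ← LinearMap.lTensor_comp, hqi, LinearMap.lTensor_zero,
      LinearMap.zero_apply]
  obtain ⟨v, hv⟩ := (lTensor_exact F (LinearMap.exact_map_mkQ_range i) (Submodule.mkQ_surjective _) w).1 hq
  refine ⟨y - a.rTensor A v, ?_, ?_⟩
  · rw [map_sub, show π.rTensor A (a.rTensor A v) = 0 from (rTensor_exact A hex hsπ _).2 ⟨v, rfl⟩, sub_zero]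
  · rw [map_sub, ← hw, ← hv, ← LinearMap.comp_apply, LinearMap.rTensor_comp_lTensor,
      ← LinearMap.lTensor_comp_rTensor, LinearMap.comp_apply, sub_self]

theorem rTensor_smul_comm {Q C A : Type u} [AddCommGroup Q] [Module B Q] [Module R Q] [IsScalarTower R B Q]
    [AddCommGroup C] [Module B C] [Module R C] [IsScalarTower R B C] [AddCommGroup A] [Module R A]
    (π : Q →ₗ[B] C) (t : B) (u : Q ⊗[R] A) :
    (π.restrictScalars R).rTensor A (t • u) = t • (π.restrictScalars R).rTensor A u := by
  induction u using TensorProduct.induction_on with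
  | zero => simp
  | tmul n c => simp [TensorProduct.smul_tmul']
  | add u v hu hv => simp only [smul_add, map_add, hu, hv]

/-- The cokernel of a map which is split up to a universally injective endomorphism. -/
theorem Good.coker {F : Type u} [AddCommGroup F] [Module B F] [Module R F] [IsScalarTower R B F]
    [Module.Finite B F] (h : Good R B N z) (α : F →ₗ[B] N) (β : N →ₗ[R] F) (G : F →ₗ[R] F)
    (hβα : β ∘ₗ α.restrictScalars R = G) (hG : FlatCA.UnivInj R G) :
    Good R B (N ⧸ LinearMap.range α) z := by
  let S := Submonoid.powers (algebraMap R B z)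
  constructor
  · let fN := LocalizedModule.mkLinearMap S N
    let fF := LocalizedModule.mkLinearMap S F
    let fC := LocalizedModule.mkLinearMap S (N ⧸ LinearMap.range α)
    let πS := (IsLocalizedModule.map S fN fC (LinearMap.range α).mkQ).extendScalarsOfIsLocalization S (Localization S)
    let αS := (IsLocalizedModule.map S fF fN α).extendScalarsOfIsLocalization S (Localization S)
    have := h.1
    refine Module.finitePresentation_of_surjective πS
      (IsLocalizedModule.map_surjective S fN fC _ (Submodule.mkQ_surjective _)) ?_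
    have hk : LinearMap.ker πS = LinearMap.range αS := by
      ext w
      exact IsLocalizedModule.map_exact S fF fN fC α _ (LinearMap.exact_map_mkQ_range α) w
    rw [hk, LinearMap.range_eq_map]
    exact (Module.Finite.fg_top (R := Localization S) (M := LocalizedModule S F)).map αS
  · refine (FlatMorDevissage.flat_localized_iff_kerKilled _).2 fun A A' _ _ _ _ i hi x hx => ?_
    let a := α.restrictScalars R
    let π := ((LinearMap.range α).mkQ).restrictScalars R
    have hex : Exact a π := fun n => by
      show (LinearMap.range α).mkQ n = 0 ↔ n ∈ Set.range α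
      rw [Submodule.mkQ_apply, Submodule.Quotient.mk_eq_zero]
      rfl
    have hsπ : Surjective π := fun c => (LinearMap.range α).mkQ_surjective c
    obtain ⟨y, rfl, hy⟩ := exists_lift_ker (A := A) (A' := A') a π hex hsπ β G hβα hG i x hx
    obtain ⟨t, ht, hty⟩ := kerKilled_of_good h i hi _ hy
    refine ⟨t, ht, ?_⟩
    rw [← rTensor_smul_comm, hty, map_zero]

end Groth.Agent.FlatMorFlatten
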