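import Groth.Agent.FlatMorFlatten.Main
import Groth.Agent.FlatMorDevissage.FPFlat
import Mathlib.RingTheory.MvPolynomial.Basic

/-! Consequences of a flattening centre on one affine piece; bounds on fibre dimensions. -/

set_option autoImplicit false
set_option backward.isDefEq.respectTransparency false
set_option linter.style.haveILetI false

universe u

open TensorProduct Function

namespace Groth.Agent.FlatMorFlatten

open Groth.Agent

/-- On a piece where the centre becomes principal the torsion free quotient is flat and finitely presented. -/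
theorem flat_fp_of_centre {R B L B' M N Q : Type u} [CommRing R] [CommRing B] [CommRing L] [CommRing B']
    [Algebra R B] [Algebra.FinitePresentation R B] [Algebra R L] [Algebra L B'] [Algebra B B'] [Algebra R B']
    [IsScalarTower R L B'] [IsScalarTower R B B'] [Algebra.IsPushout R L B B']
    [AddCommGroup M] [Module B M] [Module R M] [IsScalarTower R B M] [Module.Finite B M]
    [AddCommGroup N] [Module B' N] [Module B N] [IsScalarTower B B' N] [Module L N] [IsScalarTower L B' N]
    [AddCommGroup Q] [Module B' Q] [Module L Q] [IsScalarTower L B' Q]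
    (μ : M →ₗ[B] N) (hμ : IsBaseChange B' μ) (π : N →ₗ[B'] Q) {a : L} (ha : a ∈ nonZeroDivisors L)
    (hπ : IsTorQuot (algebraMap L B' a) π) (zs : Finset R) (hgood : ∀ z ∈ zs, Good R B M z) {J : Ideal R}
    (hJ : Flattens J M) (hK : ∃ K : Ideal L, J.map (algebraMap R L) * K = Ideal.span {a})
    (hza : ∀ z ∈ zs, algebraMap R L z ∈ (Ideal.span {a}).radical)
    (haz : a ∈ ((Ideal.span (zs : Set R)).map (algebraMap R L)).radical) :
    Module.Flat L Q ∧ Module.FinitePresentation B' Q := by
  classical
  have hfl : Module.Flat L Q := by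
    let e : L ⊗[R] M ≃ₗ[L] N :=
      (Algebra.IsPushout.cancelBaseChange R L B B' M).symm ≪≫ₗ hμ.equiv.restrictScalars L
    have h1 : IsTorQuot a (π.restrictScalars L) := isTorQuot_restrictScalars L hπ
    have h2 := IsTorQuot.comp_of_killed (g := e.toLinearMap) e.surjective
      (fun m hm => ⟨0, by rw [e.map_eq_zero_iff.1 hm, smul_zero]⟩) h1
    exact h2.flat_iff.2 (hJ L a ha hK)
  refine ⟨hfl, ?_⟩
  have : Algebra.FinitePresentation L B' :=
    Algebra.FinitePresentation.equiv (Algebra.IsPushout.equiv R L B B')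
  have : Module.Finite B' N := Module.Finite.equiv hμ.equiv
  have : Module.Finite B' Q := Module.Finite.of_surjective π hπ.1
  let l := (zs.image (algebraMap R L))
  let e := (Fintype.equivFin l).symm
  refine FlatMorDevissage.finitePresentation_of_flat_of_dense (R := L) (S := B') Q (fun i => (e i).1) ?_ fun i => ?_
  · refine (injective_iff_map_eq_zero _).2 fun x hx => ?_
    have hk : ∀ z ∈ l, ∃ n : ℕ, z ^ n • x = 0 := fun z hz => by
      obtain ⟨i, rfl⟩ : ∃ i, (e i).1 = z := ⟨e.symm ⟨z, hz⟩, by rw [Equiv.apply_symm_apply]⟩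
      obtain ⟨⟨_, n, rfl⟩, hn⟩ := (IsLocalization.map_eq_zero_iff (Submonoid.powers (e i).1)
        (Localization.Away (e i).1) x).1 (congrFun hx i)
      exact ⟨n, hn⟩
    rw [Ideal.map_span, ← Finset.coe_image] at haz
    obtain ⟨n, hn⟩ := exists_pow_smul_of_mem_radical haz hk
    exact (mul_right_mem_nonZeroDivisors_eq_zero_iff (pow_mem ha n)).1 (by rw [mul_comm]; exact hn)
  · obtain ⟨z, hz, hzi⟩ := Finset.mem_image.1 (e i).2
    have h1 : Good L B' N (algebraMap R L z) := (good_congr hμ.equiv).1 ((hgood z hz).baseChange L)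
    have h2 : Good L B' Q (algebraMap R L z) := (good_iff_of_killed π hπ.1 fun m hm => by
      obtain ⟨n, hn⟩ := (hπ.2 m).1 hm
      refine killed_of_mem_radical (hza z hz) ⟨n, ?_⟩
      rw [← map_pow, algebraMap_smul] at hn
      exact hn).1 h1
    rw [← hzi]
    exact h2.1

theorem ringKrullDim_tensor_le {R B : Type u} [CommRing R] [CommRing B] [Algebra R B] (K : Type u) [Field K]
    [Algebra R K] {s : ℕ} (φ : MvPolynomial (Fin s) R →ₐ[R] B) (hφ : Surjective φ) :
    ringKrullDim (K ⊗[R] B) ≤ (s : WithBot ℕ∞) := by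
  let ψ : K ⊗[R] MvPolynomial (Fin s) R →ₐ[K] K ⊗[R] B :=
    Algebra.TensorProduct.map (AlgHom.id K K) φ
  have hψ : Surjective ψ := fun z => by
    induction z using TensorProduct.induction_on with
    | zero => exact ⟨0, map_zero ψ⟩
    | tmul c b =>
      obtain ⟨x, rfl⟩ := hφ b
      exact ⟨c ⊗ₜ x, by simp [ψ]⟩
    | add u v hu hv =>
      obtain ⟨u', rfl⟩ := hu
      obtain ⟨v', rfl⟩ := hv
      exact ⟨u' + v', map_add ψ u' v'⟩
  refine (ringKrullDim_le_of_surjective ψ.toRingHom hψ).trans (le_of_eq ?_)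
  rw [ringKrullDim_eq_of_ringEquiv (MvPolynomial.algebraTensorAlgEquiv R K (σ := Fin s)).toRingEquiv,
    MvPolynomial.ringKrullDim_of_isNoetherianRing, ringKrullDim_eq_zero_of_field, zero_add, Nat.card_fin]

set_option maxHeartbeats 800000 in
attribute [local instance] Algebra.TensorProduct.rightAlgebra in
/-- The dimension of the fibres of a finite type algebra is bounded. -/
theorem exists_supportDim_lt {R B : Type u} [CommRing R] [CommRing B] [Algebra R B] [Algebra.FiniteType R B]
    (M : Type u) [AddCommGroup M] [Module B M] :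
    ∃ n : ℕ, ∀ (p : Ideal R) [p.IsPrime],
      Module.supportDim (p.Fiber B) (FlatCA.fiberMod p B M) < (n : WithBot ℕ∞) := by
  obtain ⟨s, φ, hφ⟩ := Algebra.FiniteType.iff_quotient_mvPolynomial''.1 ‹Algebra.FiniteType R B›
  exact ⟨s + 1, fun p _ => lt_of_le_of_lt ((Module.supportDim_le_ringKrullDim _ _).trans
    (ringKrullDim_tensor_le p.ResidueField φ hφ))
    (by exact_mod_cast Nat.lt_succ_self s : ((s : ℕ) : WithBot ℕ∞) < ((s + 1 : ℕ) : WithBot ℕ∞))⟩

end Groth.Agent.FlatMorFlatten
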