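import Groth.Agent.FlatMorFlatten.Good
import Groth.Agent.SchMor12.FlatDiagonal
import Groth.Agent.FlatMorDevissage.SupportDim
import Mathlib.RingTheory.Etale.Weakly

/-! Goodness along towers and etale algebras of the base; dimensions of fibre supports. -/

set_option autoImplicit false
set_option backward.isDefEq.respectTransparency false
set_option linter.style.haveILetI false

universe u

open TensorProduct Function

namespace Groth.Agent.FlatMorFlatten

open Groth.Agent

/-- Goodness does not change along finitely presented finite algebras acting. -/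
theorem good_tower_iff {R B A N : Type u} [CommRing R] [CommRing B] [CommRing A] [Algebra R B] [Algebra R A]
    [Algebra B A] [IsScalarTower R B A] [Module.FinitePresentation B A] [AddCommGroup N] [Module A N] [Module B N]
    [Module R N] [IsScalarTower B A N] [IsScalarTower R A N] [IsScalarTower R B N] [Module.Finite A N] (z : R) :
    Good R B N z ↔ Good R A N z := by
  have h : (Submonoid.powers (algebraMap R B z)).map (algebraMap B A) = Submonoid.powers (algebraMap R A z) := by
    rw [IsScalarTower.algebraMap_apply R B A]
    exact Submonoid.map_powers (algebraMap B A : B →* A) _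
  unfold Good
  rw [← h]
  exact and_congr (FlatMorDevissage.fp_localized_tower_iff _) (FlatMorDevissage.flat_localized_algebraMap_iff _)

/-- Goodness passes to an etale algebra of the base through which the action factors. -/
theorem Good.of_etale {R R' B N : Type u} [CommRing R] [CommRing R'] [CommRing B] [Algebra R R'] [Algebra.Etale R R']
    [Algebra R' B] [Algebra R B] [IsScalarTower R R' B] [AddCommGroup N] [Module B N] [Module R N] [Module R' N]
    [IsScalarTower R B N] [IsScalarTower R' B N] [IsScalarTower R R' N] {z : R} (h : Good R B N z) :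
    Good R' B N (algebraMap R R' z) := by
  have hz : algebraMap R' B (algebraMap R R' z) = algebraMap R B z := (IsScalarTower.algebraMap_apply R R' B z).symm
  have : Algebra.WeaklyEtale R R' := inferInstance
  unfold Good
  rw [hz]
  refine ⟨h.1, ?_⟩
  have := h.2
  exact SchMor12.flat_of_flat_lmul' (Algebra.WeaklyEtale.flat_lmul' R R') _

attribute [local instance] Algebra.TensorProduct.rightAlgebra in
/-- Points of the support bound transcendence degrees by the dimension of the support. -/
theorem trd_le_of_supportDim {R S : Type u} [CommRing R] [CommRing S] [Algebra R S] [Algebra.FiniteType R S]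
    (N : Type u) [AddCommGroup N] [Module S N] [Module R N] [IsScalarTower R S N] [Module.Finite S N]
    (p : Ideal R) [p.IsPrime] {n : ℕ}
    (hn : Module.supportDim (p.Fiber S) (FlatCA.fiberMod p S N) ≤ (n : WithBot ℕ∞)) (w : PrimeSpectrum S)
    (hwp : w.asIdeal.comap (algebraMap R S) = p) (hwN : Module.annihilator S N ≤ w.asIdeal) :
    EGA43.FibDepth.trd R w ≤ n := by
  let D := p.Fiber S
  have : Algebra.FiniteType p.ResidueField D := EGA43.FibDepth.finiteType_fibre (A := R) (R := S) p D
  obtain ⟨Q, hQ⟩ := EGA43.FibDepth.exists_prime_over (A := R) (p := p) D w hwp.symm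
  have hs : ∀ v : PrimeSpectrum D, v ∈ PrimeSpectrum.zeroLocus (Q.asIdeal : Set D) →
      v ∈ Module.support (p.Fiber S) (FlatCA.fiberMod p S N) := by
    intro v hv
    refine (FlatMorDevissage.mem_support_fiberMod_iff N p v).2 (hwN.trans ?_)
    rw [← hQ]
    exact Ideal.comap_mono hv
  have h : ringKrullDim (D ⧸ Q.asIdeal) ≤ Module.supportDim (p.Fiber S) (FlatCA.fiberMod p S N) := by
    rw [ringKrullDim_quotient]
    exact Order.krullDim_le_of_strictMono (fun v => ⟨v.1, hs v.1 v.2⟩) fun v v' h => h
  have h' := h.trans hn
  rw [EGA43.FibDepth.ringKrullDim_quotient_eq_trd (R := S) p Q, hQ] at h'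
  exact_mod_cast h'

attribute [local instance] Algebra.TensorProduct.rightAlgebra in
/-- A module with empty fibres vanishes. -/
theorem subsingleton_of_supportDim {R S : Type u} [CommRing R] [CommRing S] [Algebra R S]
    (N : Type u) [AddCommGroup N] [Module S N] [Module R N] [IsScalarTower R S N] [Module.Finite S N]
    (h : ∀ (p : Ideal R) [p.IsPrime],
      Module.supportDim (p.Fiber S) (FlatCA.fiberMod p S N) < ((0 : ℕ) : WithBot ℕ∞)) :
    Subsingleton N := by
  refine (Module.support_eq_empty_iff (R := S)).1 (Set.eq_empty_iff_forall_notMem.2 fun q hq => ?_)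
  let p := q.asIdeal.comap (algebraMap R S)
  obtain ⟨Q, hQ⟩ := EGA43.FibDepth.exists_prime_over (A := R) (p := p) (p.Fiber S) q rfl
  have hQs : Q ∈ Module.support (p.Fiber S) (FlatCA.fiberMod p S N) := by
    refine (FlatMorDevissage.mem_support_fiberMod_iff N p Q).2 ?_
    rw [hQ]
    exact Module.mem_support_iff_of_finite.1 hq
  have : Nonempty (Module.support (p.Fiber S) (FlatCA.fiberMod p S N)) := ⟨⟨Q, hQs⟩⟩
  exact (h p).not_ge Order.krullDim_nonneg

end Groth.Agent.FlatMorFlatten
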