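import Groth.Agent.FlatMorFlatten.Step
import Groth.Agent.FlatMorFlatten.Transfer
import Groth.Agent.FlatMorDevissage.Elem
import Groth.Agent.FlatMorDevissage.FibresDomain
import Mathlib.RingTheory.Spectrum.Prime.Chevalley

/-! Every module good where the blown up functions do not vanish can be flattened. -/

set_option autoImplicit false
set_option backward.isDefEq.respectTransparency false
set_option linter.style.haveILetI false

universe u

open TensorProduct Function

namespace Groth.Agent.FlatMorFlatten

open Groth.Agent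

/-- An etale piece over `q` on which the module can be flattened. -/
structure EtPiece (R B : Type u) [CommRing R] [CommRing B] [Algebra R B] (N : Type u) [AddCommGroup N]
    [Module B N] [Module R N] [IsScalarTower R B N] (Z : Ideal R) (q : Ideal B) : Type (u + 1) where
  R' : Type u
  B' : Type u
  N' : Type u
  [cR' : CommRing R']
  [cB' : CommRing B']
  [aRR' : Algebra R R']
  [etR : Algebra.Etale R R']
  [aBB' : Algebra B B']
  [etB : Algebra.Etale B B']
  [aR'B' : Algebra R' B']
  [aRB' : Algebra R B']
  [tRBB' : IsScalarTower R B B']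
  [tRR'B' : IsScalarTower R R' B']
  [gN' : AddCommGroup N']
  [mR'N' : Module R' N']
  [mRN' : Module R N']
  [tRR'N' : IsScalarTower R R' N']
  eN : Nonempty (N' ≃ₗ[R] B' ⊗[B] N)
  pt : ∃ Q : Ideal B', Q.IsPrime ∧ Q.comap (algebraMap B B') = q
  flattenable : Flattenable (Z.map (algebraMap R R')) N'

attribute [instance] EtPiece.cR' EtPiece.cB' EtPiece.aRR' EtPiece.etR EtPiece.aBB' EtPiece.etB EtPiece.aR'B'
  EtPiece.aRB' EtPiece.tRBB' EtPiece.tRR'B' EtPiece.gN' EtPiece.mR'N' EtPiece.mRN' EtPiece.tRR'N'

/-- Pieces at all primes give flattenability. -/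
theorem flattenable_of_pieces {R B : Type u} [CommRing R] [CommRing B] [Algebra R B] {N : Type u} [AddCommGroup N]
    [Module B N] [Module R N] [IsScalarTower R B N] (Z : Ideal R) (hZ : Z.FG)
    (h : ∀ q : PrimeSpectrum B, Nonempty (EtPiece R B N Z q.asIdeal)) : Flattenable Z N := by
  classical
  let E := fun q => (h q).some
  have hopen : ∀ q, IsOpen (Set.range (PrimeSpectrum.comap (algebraMap B (E q).B'))) := fun q =>
    (PrimeSpectrum.isOpenMap_comap_of_hasGoingDown_of_finitePresentation (R := B) (S := (E q).B')).isOpen_range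
  obtain ⟨t, ht⟩ := isCompact_univ.elim_finite_subcover (fun q => Set.range (PrimeSpectrum.comap (algebraMap B (E q).B')))
    hopen fun q _ => Set.mem_iUnion.2 ⟨q, by
      obtain ⟨Q, hQ, hQq⟩ := (E q).pt
      exact ⟨⟨Q, hQ⟩, PrimeSpectrum.ext hQq⟩⟩
  let e := (Fintype.equivFin t).symm
  refine flattenable_of_etale_cover Z hZ (fun i => (E (e i).1).R') (fun i => (E (e i).1).B') (fun q hq => ?_)
    (fun i => (E (e i).1).N') (fun i => (E (e i).1).eN.some) fun i => (E (e i).1).flattenable
  obtain ⟨q₀, hq₀, Q, hQ⟩ := Set.mem_iUnion₂.1 (ht (Set.mem_univ (⟨q, hq⟩ : PrimeSpectrum B)))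
  refine ⟨e.symm ⟨q₀, hq₀⟩, ?_⟩
  rw [Equiv.apply_symm_apply]
  exact ⟨Q.asIdeal, Q.2, congrArg PrimeSpectrum.asIdeal hQ⟩

theorem le_of_lt_succ {m : ℕ} {x : WithBot ℕ∞} (h : x < ((m + 1 : ℕ) : WithBot ℕ∞)) : x ≤ (m : WithBot ℕ∞) := by
  induction x using WithBot.recBotCoe with
  | bot => exact bot_le
  | coe a =>
    have h' : a < (((m + 1 : ℕ) : ℕ∞)) := WithBot.coe_lt_coe.1 h
    refine WithBot.coe_le_coe.2 ?_
    push_cast at h'
    exact ENat.lt_add_one_iff (ENat.coe_ne_top m) |>.1 h'

theorem flattenable_of_subsingleton {R : Type u} [CommRing R] (Z : Ideal R) (hZ : Z.FG) (N : Type u) [AddCommGroup N]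
    [Module R N] [Subsingleton N] : Flattenable Z N := by
  refine ⟨Z, hZ, Ideal.le_radical, Ideal.le_radical, fun L _ _ a _ _ => ?_⟩
  have : Subsingleton (L ⊗[R] N) := inferInstance
  infer_instance

theorem fp_smooth {R D : Type u} [CommRing R] [CommRing D] [Algebra R D] {n : ℕ}
    (hD : FlatCA.SmoothRelDim n R D) : Algebra.FinitePresentation R D ∧ Module.Flat R D := by
  have := FlatMorDevissage.smooth_of_smoothRelDim hD
  exact ⟨inferInstance, inferInstance⟩

attribute [local instance] Algebra.TensorProduct.rightAlgebra in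
set_option maxHeartbeats 1000000 in
/-- The piece at a point of the support. -/
theorem nonempty_etPiece_of_mem {R B : Type u} [CommRing R] [CommRing B] [Algebra R B]
    [Algebra.FinitePresentation R B] {m : ℕ} (hA : FlattenBelow.{u} m) (N : Type u) [AddCommGroup N] [Module B N]
    [Module R N] [IsScalarTower R B N] [Module.Finite B N] (zs : Finset R) (hgood : ∀ z ∈ zs, Good R B N z)
    (hdim : ∀ (p : Ideal R) [p.IsPrime], Module.supportDim (p.Fiber B) (FlatCA.fiberMod p B N) ≤ (m : WithBot ℕ∞))
    (q : Ideal B) [q.IsPrime] (hq : Module.annihilator B N ≤ q) :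
    Nonempty (EtPiece R B N (Ideal.span (zs : Set R)) q) := by
  classical
  let p := q.comap (algebraMap R B)
  have : q.LiesOver p := ⟨rfl⟩
  obtain ⟨E⟩ := FlatMorDevissage.exists_elemDevissage N p q m
    (fun w _ hwp hwN => trd_le_of_supportDim N p (hdim p) w hwp hwN) hq
  have : Algebra.Etale R E.R' := E.etaleR.1
  have : Algebra.Etale B E.S' := E.etaleS.1
  have : Module.Finite E.D E.C := E.finiteDC
  have : Module.Finite E.C E.G := E.finiteG
  have : Algebra.FinitePresentation E.S' E.C := E.fpC
  have : Algebra.FinitePresentation R E.S' := Algebra.FinitePresentation.trans R B E.S'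
  have : Algebra.FinitePresentation E.R' E.S' :=
    Algebra.FinitePresentation.of_restrict_scalars_finitePresentation R E.R' E.S'
  have : Algebra.FinitePresentation E.R' E.C := Algebra.FinitePresentation.trans E.R' E.S' E.C
  obtain ⟨hDfp, hDflat⟩ := fp_smooth E.smooth
  have : Algebra.FiniteType E.R' E.D := inferInstance
  have : Algebra.FinitePresentation E.D E.C :=
    Algebra.FinitePresentation.of_restrict_scalars_finitePresentation E.R' E.D E.C
  have : Module.FinitePresentation E.D E.C := Module.FinitePresentation.of_finite_of_finitePresentation E.D E.C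
  have : Module.Finite E.S' E.C := Module.Finite.of_surjective (Algebra.linearMap E.S' E.C) E.surjC
  have : Module.FinitePresentation E.S' E.C := Module.FinitePresentation.of_finite_of_finitePresentation E.S' E.C
  have : Module.Finite E.D E.G := Module.Finite.trans E.C E.G
  have : Module.Finite E.S' E.G := Module.Finite.trans E.C E.G
  let e : E.S' ⊗[B] N ≃ₗ[E.S'] E.G := E.isBaseChange.equiv ≪≫ₗ E.iso
  let _ : Module R E.G := Module.compHom E.G (algebraMap R E.R')
  have : IsScalarTower R E.R' E.G := IsScalarTower.of_algebraMap_smul fun _ _ => rfl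
  have : IsScalarTower E.R' E.S' E.G := IsScalarTower.of_algebraMap_smul fun r g => by
    rw [← algebraMap_smul E.C (algebraMap E.R' E.S' r) g, ← IsScalarTower.algebraMap_apply, algebraMap_smul]
  have : IsScalarTower R E.S' E.G := IsScalarTower.of_algebraMap_smul fun r g => by
    rw [IsScalarTower.algebraMap_apply R E.R' E.S', algebraMap_smul]
    rfl
  have hG : ∀ z ∈ zs.image (algebraMap R E.R'), Good E.R' E.D E.G z := fun z' hz' => by
    obtain ⟨z, hz, rfl⟩ := Finset.mem_image.1 hz'
    have h1 : Good R E.S' E.G z := (good_congr e).1 ((hgood z hz).flatAlgebra E.S')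
    have h2 : Good E.R' E.S' E.G (algebraMap R E.R' z) := h1.of_etale
    exact (good_tower_iff (B := E.D) (A := E.C) _).2 ((good_tower_iff (B := E.S') (A := E.C) _).1 h2)
  have hflat := flattenable_of_fibresDomain hA (FlatMorDevissage.fibresDomain_of_geomIntegral E.geomInt) E.smooth
    E.G (zs.image (algebraMap R E.R')) hG
  rw [Finset.coe_image, ← Ideal.map_span] at hflat
  exact ⟨{ R' := E.R'
           B' := E.S'
           N' := E.G
           eN := ⟨(e.restrictScalars R).symm⟩
           pt := ⟨E.q', inferInstance, E.etaleS.2.1.over.symm⟩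
           flattenable := hflat }⟩

/-- **Flattening by induction on the dimension of the fibres.** -/
theorem flattenBelow (n : ℕ) : FlattenBelow.{u} n := by
  induction n with
  | zero =>
    intro R _ B _ _ _ N _ _ _ _ _ zs _ hdim
    have := subsingleton_of_supportDim (S := B) N fun p _ => hdim p
    exact flattenable_of_subsingleton _ ⟨zs, rfl⟩ N
  | succ m ih =>
    intro R _ B _ _ _ N _ _ _ _ _ zs hgood hdim
    refine flattenable_of_pieces (B := B) _ ⟨zs, rfl⟩ fun q => ?_
    by_cases hq : Module.annihilator B N ≤ q.asIdeal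
    · exact nonempty_etPiece_of_mem ih N zs hgood (fun p _ => FlatMorFlatten.le_of_lt_succ (hdim p)) q.asIdeal hq
    · obtain ⟨g, hg, hgq⟩ := Set.not_subset.1 hq
      have hdis : Disjoint (Submonoid.powers g : Set B) (q.asIdeal : Set B) := by
        rw [Set.disjoint_left]
        rintro _ ⟨e, rfl⟩ he
        exact hgq (q.2.mem_of_pow_mem e he)
      have : Subsingleton (Localization.Away g ⊗[B] N) := subsingleton_of_forall_eq 0 fun x => by
        refine ((IsLocalization.Away.algebraMap_isUnit (S := Localization.Away g) g).smul_eq_zero).1 ?_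
        rw [algebraMap_smul]
        induction x using TensorProduct.induction_on with
        | zero => rw [smul_zero]
        | tmul c x => rw [← tmul_smul, Module.mem_annihilator.1 hg, tmul_zero]
        | add u v hu hv => rw [smul_add, hu, hv, add_zero]
      exact ⟨{ R' := R
               B' := Localization.Away g
               N' := PUnit.{u + 1}
               eN := ⟨LinearEquiv.ofSubsingleton _ _⟩
               pt := ⟨_, IsLocalization.isPrime_of_isPrime_disjoint (Submonoid.powers g) _ _ q.2 hdis,
                 FlatMorDevissage.comap_map_eq (Submonoid.powers g) (Localization.Away g) q.2 hdis⟩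
               flattenable := flattenable_of_subsingleton _ (Ideal.FG.map ⟨zs, rfl⟩ _) _ }⟩

end Groth.Agent.FlatMorFlatten
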