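import Groth.Agent.FlatMorFlatten.GenericBasis

/-! Flattening on a chart of the blow-up of the contents of the Fitting ideals. -/

set_option autoImplicit false
set_option backward.isDefEq.respectTransparency false
set_option linter.style.haveILetI false

universe u

open TensorProduct Function

namespace Groth.Agent.FlatMorFlatten

open Groth.Agent

/-- The first nonzero content of a Fitting ideal, made invertible. -/
theorem exists_first_content {W : Type u} [CommRing W] [Nontrivial W] (N : ℕ) (K : ℕ → Ideal W) (hN : K N = ⊤)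
    (ξ : W) (hK : ∀ k ≤ N, K k = ⊥ ∨ ∃ c ∈ nonZeroDivisors W, c ∣ ξ ∧ K k = Ideal.span {c}) :
    ∃ r, (∀ j, j < r → K j = ⊥) ∧ ∃ c ∈ nonZeroDivisors W, c ∣ ξ ∧ K r = Ideal.span {c} := by
  classical
  have hex : ∃ k, K k ≠ ⊥ := ⟨N, by rw [hN]; exact top_ne_bot⟩
  have hle : Nat.find hex ≤ N := Nat.find_min' hex (by rw [hN]; exact top_ne_bot)
  exact ⟨Nat.find hex, fun j hj => not_not.1 (Nat.find_min hex hj),
    (hK _ hle).resolve_left (Nat.find_spec hex)⟩

attribute [local instance] Algebra.TensorProduct.rightAlgebra in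
set_option maxHeartbeats 1000000 in
/-- Near a prime of a chart the module can be flattened by a centre defined on the base. -/
theorem exists_piece {R D : Type u} [CommRing R] [CommRing D] [Algebra R D] [Algebra.FinitePresentation R D]
    [Module.Flat R D] {n : ℕ} (hA : FlattenBelow.{u} n) (hdom : FlatMorDevissage.FibresDomain R D)
    (hD : FlatCA.SmoothRelDim n R D) (G₀ : Type u) [AddCommGroup G₀] [Module D G₀] [Module R G₀]
    [IsScalarTower R D G₀] [Module.FinitePresentation D G₀] (zs : Finset R) (hgood : ∀ z ∈ zs, Good R D G₀ z)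
    (N : ℕ) (hN : Fitt.ideal D G₀ N = ⊤) (T : ℕ → Ideal R) (hTfg : ∀ k, (T k).FG)
    (hT : ∀ k, ∀ t ∈ T k, ∀ c ∈ FlatMorBlowFree.cont R (Fitt.ideal D G₀ k), t * c = 0) (J0 : Ideal R)
    (hJ0 : ∀ k ≤ N, ∃ J' : Ideal R, (FlatMorBlowFree.cont R (Fitt.ideal D G₀ k) ⊔ T k) * J' = J0)
    (hZJ0 : Ideal.span (zs : Set R) ≤ J0.radical) {x : R} (hx : x ∈ J0)
    (P : Ideal (BlowUp.affineAlgebra R J0 x)) [hP : P.IsPrime] :
    ∃ (h₂ : BlowUp.affineAlgebra R J0 x) (J' : Ideal R), h₂ ∉ P ∧ J'.FG ∧ Ideal.span (zs : Set R) ≤ J'.radical ∧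
      ∀ (L : Type u) [CommRing L] [Algebra R L] [Algebra (BlowUp.affineAlgebra R J0 x) L]
        [IsScalarTower R (BlowUp.affineAlgebra R J0 x) L] (a : L),
        IsUnit (algebraMap (BlowUp.affineAlgebra R J0 x) L h₂) → a ∈ nonZeroDivisors L → algebraMap R L x ∣ a →
        (∃ K : Ideal L, J'.map (algebraMap R L) * K = Ideal.span {a}) →
        Module.Flat L (TQ L a (L ⊗[R] G₀)) := by
  classical
  have := FlatMorDevissage.projective_of_fibresDomain hdom
  let R1 := BlowUp.affineAlgebra R J0 x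
  let ξ : R1 := algebraMap R R1 x
  let K := fun k => FlatMorBlowFree.cont R (Fitt.ideal D G₀ k)
  have hξ : ξ ∈ nonZeroDivisors R1 := FittLib.self_mem_nonZeroDivisors_blowup AlgEquiv.refl
  have hJ0R : J0.map (algebraMap R R1) = Ideal.span {ξ} :=
    le_antisymm (FittLib.map_le_span_blowup AlgEquiv.refl)
      ((Ideal.span_singleton_le_iff_mem _).2 (Ideal.mem_map_of_mem _ hx))
  have hchart : ∀ k : Fin (N + 1), ∃ hk : R1, hk ∉ P ∧ ∃ c : R, (c ∈ K k ∨ c ∈ T k) ∧
      ((K k ⊔ T k).map (algebraMap R R1)).map (algebraMap R1 (Localization.Away hk)) =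
        Ideal.span {algebraMap R (Localization.Away hk) c} := fun k => by
    obtain ⟨sK, hsK⟩ := FlatMorBlowFree.cont_fg (R := R) (FittLib.ideal_fg (R := D) (M := G₀) k)
    obtain ⟨sT, hsT⟩ := hTfg k
    obtain ⟨J', hJ'⟩ := hJ0 k (Nat.le_of_lt_succ k.2)
    let s := (sK ∪ sT).image (algebraMap R R1)
    have hs : Ideal.span (s : Set R1) = (K k ⊔ T k).map (algebraMap R R1) := by
      rw [Finset.coe_image, ← Ideal.map_span, Finset.coe_union, Ideal.span_union]
      exact congrArg (Ideal.map _) (congrArg₂ (· ⊔ ·) hsK hsT)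
    obtain ⟨y, hy, hk, hkP, -, hyk⟩ := exists_chart s (J'.map (algebraMap R R1)) hξ
      (by rw [hs, ← Ideal.map_mul, hJ', hJ0R]) P hP
    obtain ⟨c, hc, rfl⟩ := Finset.mem_image.1 hy
    refine ⟨hk, hkP, c, ?_, ?_⟩
    · rcases Finset.mem_union.1 hc with h | h
      · exact Or.inl (hsK.le (Ideal.subset_span h))
      · exact Or.inr (hsT.le (Ideal.subset_span h))
    · rw [hs] at hyk
      rw [hyk, ← IsScalarTower.algebraMap_apply]
  choose hk hkP c hc hkc using hchart
  let h : R1 := ∏ k, hk k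
  have hhP : h ∉ P := fun hmem => by
    obtain ⟨k, -, hkm⟩ := (Ideal.IsPrime.prod_mem_iff).1 hmem
    exact hkP k hkm
  let W := Localization.Away h
  have hdisj : Disjoint (Submonoid.powers h : Set R1) (P : Set R1) := by
    rw [Set.disjoint_left]
    rintro _ ⟨e, rfl⟩ he
    exact hhP (hP.mem_of_pow_mem e he)
  let p' : Ideal W := P.map (algebraMap R1 W)
  have : p'.IsPrime := IsLocalization.isPrime_of_isPrime_disjoint (Submonoid.powers h) W P hP hdisj
  have : Nontrivial W := nontrivial_of_ne 0 1 fun h01 =>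
    Ideal.IsPrime.ne_top ‹p'.IsPrime› ((Ideal.eq_top_iff_one _).2 (h01 ▸ zero_mem _))
  let ξW : W := algebraMap R W x
  have hξW : ξW ∈ nonZeroDivisors W := by
    show algebraMap R W x ∈ nonZeroDivisors W
    rw [IsScalarTower.algebraMap_apply R R1 W]
    exact IsLocalization.map_nonZeroDivisors_le (Submonoid.powers h) W (Submonoid.mem_map_of_mem _ hξ)
  have hdich : ∀ k ≤ N, (K k).map (algebraMap R W) = ⊥ ∨ ∃ c ∈ nonZeroDivisors W, c ∣ ξW ∧
      (K k).map (algebraMap R W) = Ideal.span {c} := fun k hkN => by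
    let i : Fin (N + 1) := ⟨k, Nat.lt_succ_of_le hkN⟩
    have hu : IsUnit (algebraMap R1 W (hk i)) := isUnit_of_dvd_unit
      (map_dvd _ (Finset.dvd_prod_of_mem hk (Finset.mem_univ i))) (IsLocalization.Away.algebraMap_isUnit h)
    let φ : Localization.Away (hk i) →+* W := IsLocalization.Away.lift (hk i) hu
    have hφ : φ.comp (algebraMap R1 _) = algebraMap R1 W := IsLocalization.Away.lift_comp (hk i) hu
    have h1 := congrArg (Ideal.map φ) (hkc i)
    rw [Ideal.map_map, Ideal.map_map, hφ, ← IsScalarTower.algebraMap_eq, Ideal.map_span, Set.image_singleton,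
      IsScalarTower.algebraMap_apply R R1 (Localization.Away (hk i)), ← RingHom.comp_apply, hφ,
      ← IsScalarTower.algebraMap_apply, Ideal.map_sup] at h1
    change (K k).map (algebraMap R W) ⊔ (T k).map (algebraMap R W) = Ideal.span {algebraMap R W (c i)} at h1
    obtain ⟨J', hJ'⟩ := hJ0 k hkN
    have hdvd : algebraMap R W (c i) ∣ ξW := by
      have h2 : ξW ∈ ((K k ⊔ T k) * J').map (algebraMap R W) := Ideal.mem_map_of_mem _ (hJ'.symm ▸ hx)
      rw [Ideal.map_mul, Ideal.map_sup, h1] at h2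
      exact Ideal.mem_span_singleton.1 ((Ideal.mul_le_left (J := J'.map (algebraMap R W))) h2)
    have hcn : algebraMap R W (c i) ∈ nonZeroDivisors W := by
      obtain ⟨d, hd⟩ := hdvd
      exact (mul_mem_nonZeroDivisors.1 (hd ▸ hξW)).1
    rcases hc i with hcK | hcT
    · refine Or.inr ⟨_, hcn, hdvd, le_antisymm (le_sup_left.trans h1.le)
        ((Ideal.span_singleton_le_iff_mem _).2 (Ideal.mem_map_of_mem _ hcK))⟩
    · refine Or.inl (le_bot_iff.1 (Ideal.map_le_iff_le_comap.2 fun y hy => ?_))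
      have h0 : c i * y = 0 := hT k _ hcT y hy
      refine (mul_right_mem_nonZeroDivisors_eq_zero_iff hcn).1 ?_
      rw [← map_mul, mul_comm, h0, map_zero]
  have hKN : (K N).map (algebraMap R W) = ⊤ := by
    show (FlatMorBlowFree.cont R (Fitt.ideal D G₀ N)).map _ = ⊤
    rw [hN, FlatMorBlowFree.cont_top hdom, Ideal.map_top]
  obtain ⟨r, hlo, cr, hcr, hcrξ, hr⟩ := exists_first_content N (fun k => (K k).map (algebraMap R W)) hKN ξW hdich
  let DW := W ⊗[R] D
  let M := DW ⊗[D] G₀
  have hcont : ∀ k, FlatMorBlowFree.cont W (Fitt.ideal DW M k) = (K k).map (algebraMap R W) := fun k => by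
    rw [FittLib.ideal_baseChange]
    exact FlatMorBlowFree.cont_map _
  let zsW := zs.image (algebraMap R W)
  have hgoodW : ∀ z ∈ zsW, Good W DW M z := fun z' hz' => by
    obtain ⟨z, hzz, rfl⟩ := Finset.mem_image.1 hz'
    exact (hgood z hzz).baseChange W
  have hzW : ∀ z ∈ zsW, z ∈ (Ideal.span {ξW}).radical := fun z' hz' => by
    obtain ⟨z, hzz, rfl⟩ := Finset.mem_image.1 hz'
    obtain ⟨e, he⟩ := hZJ0 (Ideal.subset_span hzz)
    refine ⟨e, ?_⟩
    have h2 := Ideal.mem_map_of_mem (algebraMap R1 W) (hJ0R ▸ Ideal.mem_map_of_mem (algebraMap R R1) he)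
    rwa [Ideal.map_span, Set.image_singleton, ← IsScalarTower.algebraMap_apply, ← IsScalarTower.algebraMap_apply,
      map_pow] at h2
  obtain ⟨h', J2, hh', hJ2, hZJ2, hflat⟩ := exists_flattens_away hA (hdom.baseChange W)
    (FlatMorDevissage.smoothRelDim_baseChange hD W) M zsW hgoodW hcr hξW hcrξ hzW
    (fun j hj => (hcont j).trans (hlo j hj)) ((hcont r).trans hr) p'
  have hZW : ((Ideal.span (zs : Set R)).map (algebraMap R R1)).map (algebraMap R1 W) = Ideal.span (zsW : Set W) := by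
    rw [Ideal.map_map, ← IsScalarTower.algebraMap_eq, Ideal.map_span, Finset.coe_image]
  obtain ⟨J1, hJ1, hZJ1, hJ1W⟩ := exists_lift_away h ((Ideal.span (zs : Set R)).map (algebraMap R R1))
    (Ideal.FG.map ⟨zs, rfl⟩ _) J2 hJ2 (hZW.le.trans hZJ2)
  obtain ⟨J', k, hJ', hZJ', hJ'R⟩ := exists_chart_descend (Z := Ideal.span (zs : Set R)) ⟨zs, rfl⟩ hx hZJ0 J1 hJ1
    hZJ1
  obtain ⟨⟨n1, d⟩, hnd⟩ := IsLocalization.surj (Submonoid.powers h) h'
  refine ⟨h * n1, J', ?_, hJ', hZJ', fun L _ _ _ _ a hu ha hxa hK => ?_⟩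
  · refine fun hmem => (hP.mem_or_mem hmem).elim hhP fun hn1 => hh' ?_
    have h2 : h' * algebraMap R1 W d ∈ p' := hnd.symm ▸ Ideal.mem_map_of_mem _ hn1
    exact ((Ideal.IsPrime.mem_or_mem ‹_› h2).resolve_right fun hd =>
      Ideal.IsPrime.ne_top ‹p'.IsPrime› (Ideal.eq_top_of_isUnit_mem _ hd (IsLocalization.map_units W d)))
  rw [map_mul, IsUnit.mul_iff] at hu
  let _ : Algebra W L := (IsLocalization.Away.lift h hu.1).toAlgebra
  have : IsScalarTower R1 W L := .of_algebraMap_eq fun w => (IsLocalization.Away.lift_eq h hu.1 w).symm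
  have : IsScalarTower R W L := .of_algebraMap_eq fun w => by
    rw [IsScalarTower.algebraMap_apply R R1 W, ← IsScalarTower.algebraMap_apply R1 W L,
      ← IsScalarTower.algebraMap_apply R R1 L]
  have hu' : IsUnit (algebraMap W L h') := by
    have h2 := congrArg (algebraMap W L) hnd
    rw [map_mul, ← IsScalarTower.algebraMap_apply, ← IsScalarTower.algebraMap_apply] at h2
    exact isUnit_of_mul_isUnit_left (h2 ▸ hu.2)
  obtain ⟨K', hK'⟩ := hK
  have hfl : Module.Flat L (TQ L a (L ⊗[W] M)) := hflat L a hu' ha (by rwa [← IsScalarTower.algebraMap_apply])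
    ⟨Ideal.span {algebraMap R L x ^ k} * K', by
      rw [← mul_assoc, ← hK']
      refine congrArg (· * K') ?_
      rw [mul_comm, IsScalarTower.algebraMap_eq R R1 L, ← Ideal.map_map, hJ'R, Ideal.map_mul, Ideal.map_span,
        Set.image_singleton, map_pow, RingHom.comp_apply, ← hJ1W, Ideal.map_map, ← IsScalarTower.algebraMap_eq]⟩
  exact flat_tq_congr ((AlgebraTensorModule.cancelBaseChange R W L L G₀).symm ≪≫ₗ
    (Algebra.IsPushout.cancelBaseChange R W D DW G₀).symm.baseChange W L) hfl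

end Groth.Agent.FlatMorFlatten
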