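import Groth.Agent.FlatMorFlatten.Chart
import Groth.Agent.EGA43.FPKernel
import Groth.Agent.FlatMorBlowFree.Final
import Groth.Agent.FlatMorFlatten.Centre

/-! Flattening by admissible blow-ups for modules on schemes locally of finite presentation. -/

set_option autoImplicit false
set_option backward.isDefEq.respectTransparency false
set_option linter.style.haveILetI false

universe u

open CategoryTheory CategoryTheory.Limits AlgebraicGeometry TopologicalSpace Opposite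
open Groth.Agent.Coherent

namespace Groth.Agent.FlatMorFlatten

open Groth.Agent
open Groth.Agent.Misc15.DivDescent (stk stk_span)

variable {X S : Scheme.{u}}

theorem hom_eq_zero_of_stalk {A C : X.Modules} (φ : A ⟶ C)
    (h : ∀ x v, ((DerSch.stalkFunctor X x).map φ).hom v = 0) : φ = 0 := by
  refine Scheme.Modules.hom_ext _ _ fun U => ?_
  ext s
  refine TopCat.Presheaf.section_ext ⟨C.presheaf, C.isSheaf⟩ U _ _ fun x hx => ?_
  have h1 := h x (A.presheaf.germ U x hx s)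
  rw [stalk_germ] at h1
  exact h1.trans (map_zero (C.presheaf.germ U x hx).hom).symm

/-- Strict transforms along a locally principal exceptional ideal are unique. -/
theorem nonempty_iso_strictTransform {X' : Scheme.{u}} {b : X' ⟶ X} {𝓘 : X.IdealSheafData} {F : X.Modules}
    {G G₀ : X'.Modules} {π : (Scheme.Modules.pullback b).obj F ⟶ G} {π₀ : (Scheme.Modules.pullback b).obj F ⟶ G₀}
    (hG : BlowUp.IsStrictTransform b 𝓘 F G π) (hG₀ : BlowUp.IsStrictTransform b 𝓘 F G₀ π₀)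
    (hloc : ∀ y : X', ∃ W : X'.affineOpens, y ∈ W.1 ∧ ∃ a₀, (𝓘.comap b).ideal W = Ideal.span {a₀}) :
    Nonempty (G₀ ≅ G) := by
  have := hG.1
  have := hG₀.1
  have key : ∀ {A B : X'.Modules} {α : (Scheme.Modules.pullback b).obj F ⟶ A} {β : (Scheme.Modules.pullback b).obj F ⟶ B},
      BlowUp.IsStrictTransform b 𝓘 F A α → BlowUp.IsStrictTransform b 𝓘 F B β → kernel.ι α ≫ β = 0 := by
    intro A B α β hα hβ
    refine hom_eq_zero_of_stalk _ fun x v => ?_
    obtain ⟨W, hxW, a₀, hW⟩ := hloc x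
    have h1 := isTorQuot_of_isStrictTransform hα x ⟨W, hxW, a₀, hW⟩ (stk_span _ W hW hxW)
    have h2 := isTorQuot_of_isStrictTransform hβ x ⟨W, hxW, a₀, hW⟩ (stk_span _ W hW hxW)
    rw [Functor.map_comp, ModuleCat.hom_comp, LinearMap.comp_apply]
    refine (h2.2 _).2 ((h1.2 _).1 ?_)
    rw [← LinearMap.comp_apply, ← ModuleCat.hom_comp, ← Functor.map_comp, kernel.condition,
      Functor.map_zero]
    rfl
  refine ⟨⟨Abelian.epiDesc π₀ π (key hG₀ hG), Abelian.epiDesc π π₀ (key hG hG₀), ?_, ?_⟩⟩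
  · rw [← cancel_epi π₀, ← Category.assoc, Abelian.comp_epiDesc, Abelian.comp_epiDesc, Category.comp_id]
  · rw [← cancel_epi π, ← Category.assoc, Abelian.comp_epiDesc, Abelian.comp_epiDesc, Category.comp_id]

attribute [local instance] Algebra.TensorProduct.rightAlgebra in
set_option maxHeartbeats 2000000 in
/-- **Flattening by an admissible blow-up.** -/
theorem exists_flattening [CompactSpace S] [QuasiSeparatedSpace S] [CompactSpace X] (f : X ⟶ S)
    [LocallyOfFinitePresentation f] (U : S.Opens) (hU : IsCompact (U : Set S)) (F : X.Modules) [Coh.IsQCoh F]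
    (hft : CohB1.IsFT F) (hfpU : CohB1.IsFP ((Scheme.Modules.pullback (f ⁻¹ᵁ U).ι).obj F))
    (hflU : ∀ x : X, f.base x ∈ U → FlatMod.IsFlatOverAt f F x) :
    ∃ (𝓘 : S.IdealSheafData) (S' : Scheme.{u}) (b : S' ⟶ S), BlowUp.IsBlowUp b 𝓘 ∧ BlowUp.IsAdmissibleFor U 𝓘 ∧
      (𝓘.support : Set S) = (U : Set S)ᶜ ∧
      ∀ (X' : Scheme.{u}) (p₁ : X' ⟶ X) (p₂ : X' ⟶ S'), IsPullback p₁ p₂ f b →
      ∀ (G : X'.Modules) (π : (Scheme.Modules.pullback p₁).obj F ⟶ G),
        BlowUp.IsStrictTransform p₁ (𝓘.comap f) F G π → CohB1.IsFP G ∧ FlatMod.IsFlatOver p₂ G := by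
  classical
  obtain ⟨Z, hZ, hZs⟩ := BlowUpLib.exists_finiteType_support_eq ((U : Set S)ᶜ) U.2.isClosed_compl
    (by rwa [compl_compl])
  have hloc : ∀ x : X, ∃ (W : S.affineOpens) (P : X.affineOpens) (e : P.1 ≤ f ⁻¹ᵁ W.1) (zs : Finset Γ(S, W.1))
      (K : S.IdealSheafData), x ∈ P.1 ∧ Ideal.span (zs : Set Γ(S, W.1)) = Z.ideal W ∧
      BlowUp.IsAdmissibleFor U K ∧
      (letI := (f.appLE W.1 P.1 e).hom.toAlgebra
       letI := EGA43.QcohFlat.overModule f F W.1 P.1 e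
       haveI : IsScalarTower Γ(S, W.1) Γ(X, P.1) Γ(F, P.1) := IsScalarTower.of_algebraMap_smul fun _ _ => rfl
       ∀ z ∈ zs, Good Γ(S, W.1) Γ(X, P.1) Γ(F, P.1) z) ∧
      (letI := EGA43.QcohFlat.overModule f F W.1 P.1 e
       Flattens (K.ideal W) Γ(F, P.1)) := by
    intro x
    obtain ⟨W, hW, -⟩ := BlowUpLib.exists_affine_mem_le (show f.base x ∈ (⊤ : S.Opens) from trivial)
    obtain ⟨P, hxP, e⟩ := BlowUpLib.exists_affine_mem_le (show x ∈ f ⁻¹ᵁ W.1 from hW)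
    obtain ⟨zs, hzs⟩ := hZ W
    let _ := (f.appLE W.1 P.1 e).hom.toAlgebra
    let _ := EGA43.QcohFlat.overModule f F W.1 P.1 e
    have : IsScalarTower Γ(S, W.1) Γ(X, P.1) Γ(F, P.1) := IsScalarTower.of_algebraMap_smul fun _ _ => rfl
    have : Algebra.FinitePresentation Γ(S, W.1) Γ(X, P.1) :=
      HasRingHomProperty.appLE @LocallyOfFinitePresentation f inferInstance W P e
    have : Module.Finite Γ(X, P.1) Γ(F, P.1) := FlatMor12.FittSheaf.finite_affine F hft P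
    have hgood : ∀ z ∈ zs, Good Γ(S, W.1) Γ(X, P.1) Γ(F, P.1) z := fun z hz =>
      good_sections f F U hfpU hflU W P e z
        (basicOpen_le_of_mem_ideal Z U hZs W (hzs.le (Submodule.subset_span hz)))
    obtain ⟨n, hn⟩ := exists_supportDim_lt (R := Γ(S, W.1)) (B := Γ(X, P.1)) Γ(F, P.1)
    obtain ⟨J, hJ, -, hZJ, hflat⟩ := flattenBelow n Γ(S, W.1) Γ(X, P.1) Γ(F, P.1) zs hgood fun p _ => hn p
    obtain ⟨K, hK, hKW⟩ := exists_extend_affine U hU W J hJ Z hZs (hzs.ge.trans hZJ)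
    exact ⟨W, P, e, zs, K, hxP, hzs, hK, hgood, by rw [hKW]; exact hflat⟩
  choose W P e zs K hxP hzs hK hgood hflat using hloc
  obtain ⟨t, ht⟩ := isCompact_univ.elim_finite_subcover (fun x => ((P x).1 : Set X)) (fun x => (P x).1.isOpen)
    fun x _ => Set.mem_iUnion.2 ⟨x, hxP x⟩
  obtain ⟨Pr, hPr, hPrs, hPrle, hPrc⟩ := FlatMorBlowFree.exists_prod' t K fun x _ => (hK x).1
  have hs : ((Z * Pr).support : Set S) = (U : Set S)ᶜ := by
    rw [Scheme.IdealSheafData.support_mul]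
    refine Set.Subset.antisymm ?_ fun x hx => Or.inl (hZs.ge hx)
    rintro x (hx | hx)
    · exact hZs.le hx
    · obtain ⟨i, -, hi⟩ := hPrs x hx
      exact fun h => Set.disjoint_left.1 (hK i).2 hi h
  have hft' : BlowUp.IsFiniteTypeIdeal (Z * Pr) := fun A => by
    rw [Scheme.IdealSheafData.ideal_mul, Pi.mul_apply]
    exact (hZ A).mul (hPr A)
  obtain ⟨S', b, hb⟩ := BlowUpLib.exists_isBlowUp (I := Z * Pr)
  refine ⟨Z * Pr, S', b, hb, ⟨hft', by rw [hs]; exact disjoint_compl_left⟩, hs, fun X' p₁ p₂ H G π hG => ?_⟩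
  have hexc : ((Z * Pr).comap f).comap p₁ = ((Z * Pr).comap b).comap p₂ := by
    rw [← Scheme.IdealSheafData.comap_comp, H.w, Scheme.IdealSheafData.comap_comp]
  -- `G` is quasi-coherent
  have hGq : Coh.IsQCoh G := by
    obtain ⟨G₀, π₀, hG₀, hq⟩ := exists_isStrictTransform p₁ ((Z * Pr).comap f) F
      (FlatMorAdm.isFiniteType_comap p₁ _ (FlatMorAdm.isFiniteType_comap f _ hft'))
    obtain ⟨i⟩ := nonempty_iso_strictTransform hG hG₀ fun y => by
      rw [hexc]; exact exists_comap_principal _ hb.1 p₂ y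
    exact isQCoh_of_iso i
  have hmain : ∀ y : X', ∃ V : X'.Opens, IsAffineOpen V ∧ y ∈ V ∧ Module.FinitePresentation Γ(X', V) Γ(G, V) ∧
      FlatMod.IsFlatOverAt p₂ G y := by
    intro y
    obtain ⟨x, hxt, hyx⟩ := Set.mem_iUnion₂.1 (ht (Set.mem_univ (p₁.base y)))
    obtain ⟨A₁, hA₁, a₁, ha₁, hA₁a⟩ := hb.1 (p₂.base y)
    have hKc : BlowUp.IsEffCartierIdeal ((K x).comap b) :=
      hPrc S' b (by
        have := hb.1
        rw [ModPairLib.comap_mul] at this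
        exact SDiv28.isEffCartier_right_of_mul this) x hxt
    obtain ⟨A₂, hA₂, c₂, -, hA₂c⟩ := hKc (p₂.base y)
    have hbW : p₂.base y ∈ b ⁻¹ᵁ (W x).1 := by
      show b.base (p₂.base y) ∈ (W x).1
      rw [← Scheme.Hom.comp_apply, ← H.w, Scheme.Hom.comp_apply]
      exact e x hyx
    obtain ⟨W', hyW', hle⟩ := BlowUpLib.exists_affine_mem_le
      (show p₂.base y ∈ (A₁.1 ⊓ A₂.1) ⊓ b ⁻¹ᵁ (W x).1 from ⟨⟨hA₁, hA₂⟩, hbW⟩)
    have e₁ : W'.1 ≤ A₁.1 := hle.trans (inf_le_left.trans inf_le_left)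
    have e₂ : W'.1 ≤ A₂.1 := hle.trans (inf_le_left.trans inf_le_right)
    have eb : W'.1 ≤ b ⁻¹ᵁ (W x).1 := hle.trans inf_le_right
    let a := ModPairLib.res e₁ a₁
    have ha : a ∈ nonZeroDivisors Γ(S', W'.1) := ModPairLib.res_mem_nonZeroDivisors (V := W') e₁ ha₁
    have haI : ((Z * Pr).comap b).ideal W' = Ideal.span {a} := by
      rw [← ((Z * Pr).comap b).map_ideal (U := W') (V := A₁) e₁, hA₁a, Ideal.map_span, Set.image_singleton]
      rfl
    let τ := (b.appLE (W x).1 W'.1 eb).hom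
    have hIτ : ((Z * Pr).ideal (W x)).map τ = Ideal.span {a} :=
      (ProjLib.comap_ideal_eq (Z * Pr) b (W x) W' eb).symm.trans haI
    have hKK : ∃ K' : Ideal Γ(S', W'.1), ((K x).ideal (W x)).map τ * K' = Ideal.span {a} := by
      have hKτ : ((K x).ideal (W x)).map τ = Ideal.span {ModPairLib.res e₂ c₂} := by
        rw [← ProjLib.comap_ideal_eq (K x) b (W x) W' eb, ← ((K x).comap b).map_ideal (U := W') (V := A₂) e₂, hA₂c,
          Ideal.map_span, Set.image_singleton]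
        rfl
      have hle' : (Z * Pr).ideal (W x) ≤ (K x).ideal (W x) := by
        rw [Scheme.IdealSheafData.ideal_mul, Pi.mul_apply]
        exact Ideal.mul_le_right.trans (hPrle x hxt (W x))
      have h1 : a ∈ Ideal.span {ModPairLib.res e₂ c₂} :=
        hKτ ▸ Ideal.map_mono hle' (hIτ.ge (Ideal.mem_span_singleton_self a))
      obtain ⟨d, hd⟩ := Ideal.mem_span_singleton'.1 h1
      exact ⟨Ideal.span {d}, by rw [hKτ, Ideal.span_singleton_mul_span_singleton, mul_comm, hd]⟩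
    have hza : ∀ z ∈ zs x, τ z ∈ (Ideal.span {a}).radical := fun z hz => by
      rw [← hIτ]
      exact Ideal.map_radical_le _ (Ideal.mem_map_of_mem τ
        (le_radical_ideal (Z * Pr) Z (W x) (hs.le.trans hZs.ge) ((hzs x).le (Ideal.subset_span hz))))
    have haz : a ∈ ((Ideal.span (zs x : Set Γ(S, (W x).1))).map τ).radical := by
      refine Ideal.le_radical ?_
      rw [hzs x]
      refine Ideal.map_mono ?_ (hIτ.ge (Ideal.mem_span_singleton_self a))
      rw [Scheme.IdealSheafData.ideal_mul, Pi.mul_apply]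
      exact Ideal.mul_le_left
    obtain ⟨hfp, hfl⟩ := flat_fp_chart f F hft (W x) (P x) (e x) (zs x) (hgood x) _ (hflat x) (Z * Pr) b W' eb ha
      haI hza haz hKK p₁ p₂ H G π hG
    have hV := EGA43.InjFibre.isAffineOpen_inf_preimage H (W x).2 (P x).2 W'.2 (e x) eb
    have hyV : y ∈ p₁ ⁻¹ᵁ (P x).1 ⊓ p₂ ⁻¹ᵁ W'.1 := ⟨hyx, hyW'⟩
    refine ⟨_, hV, hyV, hfp, (EGA43.QcohFlat.isFlatOverAt_iff p₂ G W'.2 hV inf_le_right hyV).2 ?_⟩
    let _ := (p₂.appLE W'.1 (p₁ ⁻¹ᵁ (P x).1 ⊓ p₂ ⁻¹ᵁ W'.1) inf_le_right).hom.toAlgebra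
    let _ := EGA43.QcohFlat.overModule p₂ G W'.1 (p₁ ⁻¹ᵁ (P x).1 ⊓ p₂ ⁻¹ᵁ W'.1) inf_le_right
    have : IsScalarTower Γ(S', W'.1) Γ(X', p₁ ⁻¹ᵁ (P x).1 ⊓ p₂ ⁻¹ᵁ W'.1) Γ(G, p₁ ⁻¹ᵁ (P x).1 ⊓ p₂ ⁻¹ᵁ W'.1) :=
      IsScalarTower.of_algebraMap_smul fun _ _ => rfl
    have := hfl
    exact FlatMorDevissage.flatAt_of_flat _ _
  exact ⟨EGA43.FPKernel.isFP_of_forall_exists_affine G fun y => by
    obtain ⟨V, h1, h2, h3, -⟩ := hmain y
    exact ⟨V, h1, h2, h3⟩, fun y => by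
    obtain ⟨_, -, -, -, h⟩ := hmain y
    exact h⟩

end Groth.Agent.FlatMorFlatten
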