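import Groth.Prelude.Def_BlowUp2
import Groth.Prelude.Def_DerSch
import Groth.Agent.ModStalk.Pullback
import Groth.Agent.Misc15.DivDescentSheaf
import Groth.Agent.QCohLoc.Basic
import Groth.Agent.BlowUpLib.Disjoint
import Groth.Agent.CAlgH3.StrictFlat
import Groth.Agent.EGA43.InjFibre.Scheme
import Mathlib.RingTheory.Flat.TorsionFree
import Mathlib.LinearAlgebra.TensorProduct.RightExactness

/-! Strict transforms of modules, seen on stalks. -/

set_option autoImplicit false
set_option backward.isDefEq.respectTransparency.types false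
set_option linter.style.haveILetI false

universe u

open CategoryTheory CategoryTheory.Limits AlgebraicGeometry TopologicalSpace Opposite
open scoped TensorProduct

namespace Groth.Agent.FlatMorFlatten

open Groth.Agent.Misc15.DivDescent (stk stk_eq stk_span germ_res_apply')

/-- The map `f` is the quotient by the torsion of `a`. -/
def IsTorQuot {R : Type u} [CommRing R] (a : R) {M P : Type u} [AddCommGroup M] [Module R M] [AddCommGroup P]
    [Module R P] (f : M →ₗ[R] P) : Prop :=
  Function.Surjective f ∧ ∀ m, f m = 0 ↔ ∃ n : ℕ, a ^ n • m = 0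

section Algebra

variable {R : Type u} [CommRing R] {M P Q : Type u} [AddCommGroup M] [Module R M] [AddCommGroup P] [Module R P]
  [AddCommGroup Q] [Module R Q]

theorem IsTorQuot.regular {a : R} {f : M →ₗ[R] P} (h : IsTorQuot a f) : IsSMulRegular P a := by
  refine isSMulRegular_iff_right_eq_zero_of_smul.2 fun p hp => ?_
  obtain ⟨m, rfl⟩ := h.1 p
  rw [← map_smul, h.2] at hp
  obtain ⟨n, hn⟩ := hp
  exact (h.2 m).2 ⟨n + 1, by rw [pow_succ, mul_smul, hn]⟩

/-- A surjection with torsion kernel onto a module without torsion is the quotient by the torsion. -/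
theorem isTorQuot_of_regular {a : R} {f : M →ₗ[R] P} (hs : Function.Surjective f)
    (hk : ∀ m, f m = 0 → ∃ n : ℕ, a ^ n • m = 0) (hr : IsSMulRegular P a) : IsTorQuot a f :=
  ⟨hs, fun m => ⟨hk m, fun ⟨n, hn⟩ => (hr.pow n).right_eq_zero_of_smul (by rw [← map_smul, hn, map_zero])⟩⟩

theorem killed_of_mem_radical {a c : R} {m : M} (hac : a ∈ (Ideal.span {c}).radical)
    (hm : ∃ n : ℕ, c ^ n • m = 0) : ∃ n : ℕ, a ^ n • m = 0 := by
  obtain ⟨N, hN⟩ := hac
  obtain ⟨d, hd⟩ := Ideal.mem_span_singleton'.1 hN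
  obtain ⟨n, hn⟩ := hm
  exact ⟨N * n, by rw [pow_mul, ← hd, mul_pow, mul_smul, hn, smul_zero]⟩

/-- Two quotients by the torsion of the same element are isomorphic. -/
theorem IsTorQuot.exists_equiv {a : R} {f : M →ₗ[R] P} {g : M →ₗ[R] Q} (hf : IsTorQuot a f) (hg : IsTorQuot a g) :
    Nonempty (P ≃ₗ[R] Q) := by
  have hk : LinearMap.ker f = LinearMap.ker g := by
    ext m
    rw [LinearMap.mem_ker, LinearMap.mem_ker, hf.2, hg.2]
  exact ⟨(f.quotKerEquivOfSurjective hf.1).symm ≪≫ₗ Submodule.quotEquivOfEq _ _ hk ≪≫ₗ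
    g.quotKerEquivOfSurjective hg.1⟩

theorem exists_killed_baseChange {R' : Type u} [CommRing R'] [Algebra R R'] (f : M →ₗ[R] P)
    (hs : Function.Surjective f) (c : R) (hk : ∀ m, f m = 0 → ∃ n : ℕ, c ^ n • m = 0) :
    Function.Surjective (f.baseChange R') ∧
      ∀ z, f.baseChange R' z = 0 → ∃ n : ℕ, (algebraMap R R' c) ^ n • z = 0 := by
  refine ⟨LinearMap.lTensor_surjective R' hs, fun z hz => ?_⟩
  have hex : Function.Exact (LinearMap.ker f).subtype f := LinearMap.exact_subtype_ker_map f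
  obtain ⟨w, rfl⟩ := ((lTensor_exact R' hex hs) z).1 hz
  clear hz
  induction w using TensorProduct.induction_on with
  | zero => exact ⟨0, by rw [map_zero, smul_zero]⟩
  | tmul r m =>
    obtain ⟨n, hn⟩ := hk m.1 (LinearMap.mem_ker.1 m.2)
    refine ⟨n, ?_⟩
    show (algebraMap R R' c) ^ n • (r ⊗ₜ[R] m.1) = 0
    rw [TensorProduct.smul_tmul', smul_eq_mul, ← map_pow, ← Algebra.smul_def, TensorProduct.smul_tmul, hn,
      TensorProduct.tmul_zero]
  | add x y hx hy =>
    obtain ⟨n, hn⟩ := hx
    obtain ⟨k, hk'⟩ := hy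
    refine ⟨n + k, ?_⟩
    rw [map_add, smul_add]
    conv_lhs => arg 1; rw [add_comm n k, pow_add, mul_smul, hn, smul_zero]
    conv_lhs => arg 2; rw [pow_add, mul_smul, hk', smul_zero]
    exact add_zero 0

theorem regular_baseChange {R' : Type u} [CommRing R'] [Algebra R R'] [Module.Flat R R'] {a : R}
    (h : IsSMulRegular P a) : IsSMulRegular (R' ⊗[R] P) (algebraMap R R' a) := by
  have hinj := Module.Flat.lTensor_preserves_injective_linearMap (M := R') (LinearMap.lsmul R P a) h
  intro z w hzw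
  refine hinj ?_
  have e : ∀ t : R' ⊗[R] P, (LinearMap.lsmul R P a).lTensor R' t = algebraMap R R' a • t := fun t => by
    induction t using TensorProduct.induction_on with
    | zero => rw [map_zero, smul_zero]
    | tmul r m =>
      rw [LinearMap.lTensor_tmul, LinearMap.lsmul_apply, TensorProduct.smul_tmul', smul_eq_mul,
        ← Algebra.smul_def, TensorProduct.smul_tmul]
    | add x y hx hy => rw [map_add, hx, hy, smul_add]
  rw [e, e]
  exact hzw

end Algebra

section Stalks

variable {X Y S : Scheme.{u}}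

theorem surjective_stalk {N G : X.Modules} (π : N ⟶ G) [Epi π] (y : X) :
    Function.Surjective ((DerSch.stalkFunctor X y).map π).hom :=
  (ModuleCat.epi_iff_surjective _).1 inferInstance

theorem stalk_germ {N G : X.Modules} (π : N ⟶ G) (y : X) (U : X.Opens) (hy : y ∈ U) (m : Γ(N, U)) :
    ((DerSch.stalkFunctor X y).map π).hom (N.presheaf.germ U y hy m) = G.presheaf.germ U y hy (π.app U m) :=
  TopCat.Presheaf.stalkFunctor_map_germ_apply U y hy π.mapPresheaf m

/-- A map killing exactly the sections killed by powers of a locally principal ideal is, on stalks,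
the quotient by the torsion of a generator. -/
theorem isTorQuot_stalk {N G : X.Modules} (π : N ⟶ G) [Epi π] (E : X.IdealSheafData)
    (hker : ∀ (V : X.affineOpens) (m : Γ(N, V.1)), π.app V.1 m = 0 ↔ BlowUp.KilledByPowerNear E N V m)
    (W : X.affineOpens) (a₀ : Γ(X, W.1)) (hW : E.ideal W = Ideal.span {a₀}) (y : X) (hy : y ∈ W.1) :
    IsTorQuot (X.presheaf.germ W.1 y hy a₀) ((DerSch.stalkFunctor X y).map π).hom := by
  refine ⟨surjective_stalk π y, fun z => ⟨fun hz => ?_, fun hz => ?_⟩⟩
  · obtain ⟨U, hyU, m, rfl⟩ := N.presheaf.exists_germ_eq z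
    rw [stalk_germ] at hz
    obtain ⟨O, hO, i, i', hOeq⟩ := G.presheaf.germ_eq y hyU hyU (π.app U m) 0 (by rw [map_zero]; exact hz)
    rw [map_zero] at hOeq
    obtain ⟨_, ⟨V, hV, rfl⟩, hyV, hVle⟩ :=
      X.isBasis_affineOpens.exists_subset_of_mem_open (show y ∈ O ⊓ W.1 from ⟨hO, hy⟩) (O ⊓ W.1).isOpen
    have eVO : V ≤ O := fun t ht => (hVle ht).1
    have eVW : V ≤ W.1 := fun t ht => (hVle ht).2
    have eVU : V ≤ U := eVO.trans i.le
    have h0 : π.app V (N.presheaf.map (homOfLE eVU).op m) = 0 := by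
      have hnat := ConcreteCategory.congr_hom (π.mapPresheaf.naturality (homOfLE eVU).op) m
      refine hnat.trans ?_
      have : G.presheaf.map (homOfLE eVO).op (G.presheaf.map i.op (π.app U m)) = 0 := by rw [hOeq, map_zero]
      rw [← ConcreteCategory.comp_apply, ← Functor.map_comp] at this
      exact this
    obtain ⟨n, hn⟩ := (hker ⟨V, hV⟩ _).1 h0
    refine ⟨n, ?_⟩
    have hmem : (X.presheaf.map (homOfLE eVW).op a₀) ^ n ∈ (E ^ n).ideal ⟨V, hV⟩ := by
      rw [Scheme.IdealSheafData.ideal_pow]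
      refine Ideal.pow_mem_pow ((E.map_ideal (U := ⟨V, hV⟩) (V := W) eVW).le ?_) n
      exact Ideal.mem_map_of_mem _ (hW ▸ Ideal.mem_span_singleton_self a₀)
    have := congrArg (N.presheaf.germ V y hyV) (hn _ hmem)
    rw [map_zero, QCohLoc.germ_smul' (M := N) hyV, map_pow, germ_res_apply' eVW,
      TopCat.Presheaf.germ_res_apply] at this
    exact this
  · obtain ⟨n, hn⟩ := hz
    obtain ⟨U, hyU, m, rfl⟩ := N.presheaf.exists_germ_eq z
    let O₁ : X.Opens := U ⊓ W.1
    let m₁ : Γ(N, O₁) := X.presheaf.map (homOfLE (inf_le_right : O₁ ≤ W.1)).op (a₀ ^ n) •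
      N.presheaf.map (homOfLE (inf_le_left : O₁ ≤ U)).op m
    obtain ⟨O, hO, i, i', hOeq⟩ := N.presheaf.germ_eq y (show y ∈ O₁ from ⟨hyU, hy⟩) (show y ∈ O₁ from ⟨hyU, hy⟩) m₁ 0 (by
      rw [map_zero, QCohLoc.germ_smul' (M := N) (V := O₁) ⟨hyU, hy⟩, germ_res_apply', map_pow,
        TopCat.Presheaf.germ_res_apply]
      exact hn)
    rw [map_zero] at hOeq
    obtain ⟨_, ⟨V, hV, rfl⟩, hyV, hVle⟩ :=
      X.isBasis_affineOpens.exists_subset_of_mem_open hO O.isOpen
    have eVO : V ≤ O := hVle
    have eV₁ : V ≤ O₁ := eVO.trans i.le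
    have eVW : V ≤ W.1 := eV₁.trans inf_le_right
    have eVU : V ≤ U := eV₁.trans inf_le_left
    have h0 : X.presheaf.map (homOfLE eVW).op (a₀ ^ n) • N.presheaf.map (homOfLE eVU).op m = 0 := by
      have := congrArg (N.presheaf.map (homOfLE eVO).op) hOeq
      rw [map_zero, ← ConcreteCategory.comp_apply, ← Functor.map_comp] at this
      refine Eq.trans ?_ this
      show _ = N.presheaf.map (homOfLE eV₁).op m₁
      rw [Scheme.Modules.map_smul]
      simp only [← ConcreteCategory.comp_apply, ← Functor.map_comp]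
      rfl
    have hk : BlowUp.KilledByPowerNear E N ⟨V, hV⟩ (N.presheaf.map (homOfLE eVU).op m) := by
      refine ⟨n, fun c hc => ?_⟩
      rw [← (E ^ n).map_ideal (U := ⟨V, hV⟩) (V := W) eVW, Scheme.IdealSheafData.ideal_pow] at hc
      simp only [Pi.pow_apply, hW, Ideal.span_singleton_pow, Ideal.map_span, Set.image_singleton] at hc
      obtain ⟨d, hd⟩ := Ideal.mem_span_singleton'.1 hc
      rw [← hd, mul_smul]
      exact (congrArg (d • ·) h0).trans (smul_zero d)
    have h1 := congrArg (G.presheaf.germ V y hyV) ((hker ⟨V, hV⟩ _).2 hk)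
    rw [map_zero, ← stalk_germ, TopCat.Presheaf.germ_res_apply] at h1
    exact h1

/-- A generator of the stalk of an ideal sheaf does as well as another. -/
theorem IsTorQuot.congr {R : Type u} [CommRing R] {a a' : R} {M P : Type u} [AddCommGroup M] [Module R M]
    [AddCommGroup P] [Module R P] {f : M →ₗ[R] P} (h : IsTorQuot a f) (e : Ideal.span {a} = Ideal.span {a'}) :
    IsTorQuot a' f :=
  ⟨h.1, fun m => (h.2 m).trans
    ⟨killed_of_mem_radical (e ▸ Ideal.le_radical (Ideal.mem_span_singleton_self a')),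
      killed_of_mem_radical (e.symm ▸ Ideal.le_radical (Ideal.mem_span_singleton_self a))⟩⟩

/-- Strict transforms on stalks, in terms of any generator of the stalk of the exceptional ideal. -/
theorem isTorQuot_of_isStrictTransform {X' : Scheme.{u}} {b : X' ⟶ X} {𝓘 : X.IdealSheafData} {F : X.Modules}
    {G : X'.Modules} {π : (Scheme.Modules.pullback b).obj F ⟶ G} (hG : BlowUp.IsStrictTransform b 𝓘 F G π)
    (y : X') (hloc : ∃ W : X'.affineOpens, y ∈ W.1 ∧ ∃ a₀, (𝓘.comap b).ideal W = Ideal.span {a₀})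
    {a : X'.presheaf.stalk y} (ha : stk (𝓘.comap b) y = Ideal.span {a}) :
    IsTorQuot a ((DerSch.stalkFunctor X' y).map π).hom := by
  obtain ⟨W, hy, a₀, hW⟩ := hloc
  haveI := hG.1
  exact (isTorQuot_stalk π (𝓘.comap b) hG.2 W a₀ hW y hy).congr ((stk_span _ W hW hy).symm.trans ha)

/-- Pulled back along `h`, a surjection with torsion kernel is one. -/
theorem killed_pullback (h : Y ⟶ X) (y : Y) {N G : X.Modules} (π : N ⟶ G) (c : X.presheaf.stalk (h.base y))
    (hs : Function.Surjective ((DerSch.stalkFunctor X (h.base y)).map π).hom)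
    (hk : ∀ m, ((DerSch.stalkFunctor X (h.base y)).map π).hom m = 0 → ∃ n : ℕ, c ^ n • m = 0) :
    Function.Surjective ((DerSch.stalkFunctor Y y).map ((Scheme.Modules.pullback h).map π)).hom ∧
      ∀ m, ((DerSch.stalkFunctor Y y).map ((Scheme.Modules.pullback h).map π)).hom m = 0 →
        ∃ n : ℕ, (h.stalkMap y).hom c ^ n • m = 0 := by
  let _ := (h.stalkMap y).hom.toAlgebra
  let eN := ((ModStalk.pullbackStalkIso h y).app N).toLinearEquiv
  let eG := ((ModStalk.pullbackStalkIso h y).app G).toLinearEquiv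
  have hnat : ∀ m, eG (((DerSch.stalkFunctor Y y).map ((Scheme.Modules.pullback h).map π)).hom m) =
      ((DerSch.stalkFunctor X (h.base y)).map π).hom.baseChange (Y.presheaf.stalk y) (eN m) := fun m =>
    ConcreteCategory.congr_hom ((ModStalk.pullbackStalkIso h y).hom.naturality π) m
  obtain ⟨hs', hk'⟩ := exists_killed_baseChange (R' := Y.presheaf.stalk y) _ hs c hk
  refine ⟨fun g => ?_, fun m hm => ?_⟩
  · obtain ⟨w, hw⟩ := hs' (eG g)
    refine ⟨eN.symm w, eG.injective ?_⟩
    rw [hnat]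
    exact (congrArg _ (eN.apply_symm_apply w)).trans hw
  · obtain ⟨n, hn⟩ := hk' (eN m) ((hnat m).symm.trans ((congrArg eG hm).trans (map_zero eG)))
    refine ⟨n, eN.injective ?_⟩
    rw [map_smul, map_zero]
    exact hn

/-- Regularity on stalks goes up along flat morphisms. -/
theorem regular_pullback (h : Y ⟶ X) [Flat h] (y : Y) {G : X.Modules} {a : X.presheaf.stalk (h.base y)}
    (ha : IsSMulRegular (G.presheaf.stalk (h.base y)) a) :
    IsSMulRegular (((Scheme.Modules.pullback h).obj G).presheaf.stalk y) ((h.stalkMap y).hom a) := by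
  let _ := (h.stalkMap y).hom.toAlgebra
  have : Module.Flat (X.presheaf.stalk (h.base y)) (Y.presheaf.stalk y) := Flat.stalkMap h y
  let eG := ((ModStalk.pullbackStalkIso h y).app G).toLinearEquiv
  intro z w hzw
  refine eG.injective (regular_baseChange (R' := Y.presheaf.stalk y) ha ?_)
  exact ((eG.map_smul _ z).symm.trans (congrArg eG hzw)).trans (eG.map_smul _ w)

/-- The element `a` lies in the radical of the stalk of `I` if it generates an ideal whose zero set
contains that of `I`. -/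
theorem mem_radical_stk (I J : X.IdealSheafData) (W : X.affineOpens) (a₀ : Γ(X, W.1))
    (hW : J.ideal W = Ideal.span {a₀}) (hIJ : ∀ x ∈ W.1, x ∈ (I.support : Set X) → x ∈ (J.support : Set X))
    (y : X) (hy : y ∈ W.1) : X.presheaf.germ W.1 y hy a₀ ∈ (stk I y).radical := by
  have h : a₀ ∈ (I.ideal W).radical := by
    rw [Ideal.radical_eq_sInf, Submodule.mem_sInf]
    rintro P ⟨hIP, hP⟩
    have hxW : W.2.fromSpec ⟨P, hP⟩ ∈ W.1 := W.2.range_fromSpec.le ⟨_, rfl⟩
    have hprime : W.2.primeIdealOf ⟨_, hxW⟩ = ⟨P, hP⟩ :=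
      W.2.fromSpec.isOpenEmbedding.injective (W.2.fromSpec_primeIdealOf _)
    have hI : W.2.fromSpec ⟨P, hP⟩ ∈ (I.support : Set X) := by
      rw [BlowUpLib.mem_support_iff_le_prm I W hxW]
      intro s hs
      rw [BlowUpLib.mem_prm hxW, EGA43.InjFibre.mem_basicOpen_iff_notMem W.2 hxW, hprime, not_not]
      exact hIP hs
    have hJ := hIJ _ hxW hI
    rw [BlowUpLib.mem_support_iff_le_prm J W hxW] at hJ
    have := (BlowUpLib.mem_prm hxW).1 (hJ (hW ▸ Ideal.mem_span_singleton_self a₀))
    rw [EGA43.InjFibre.mem_basicOpen_iff_notMem W.2 hxW, not_not] at this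
    rwa [hprime] at this
  rw [stk_eq I W hy]
  exact Ideal.map_radical_le _ (Ideal.mem_map_of_mem _ h)

end Stalks

end Groth.Agent.FlatMorFlatten
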