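import Groth.Agent.FlatMorFlatten.Piece

/-! Flattening over smooth algebras with integral fibres. -/

set_option autoImplicit false
set_option backward.isDefEq.respectTransparency false
set_option linter.style.haveILetI false

universe u

open TensorProduct Function

namespace Groth.Agent.FlatMorFlatten

open Groth.Agent

theorem mem_radical_prod {R : Type u} [CommRing R] {ι : Type*} (s : Finset ι) {I : ι → Ideal R} {z : R}
    (h : ∀ i ∈ s, z ∈ (I i).radical) : z ∈ (∏ i ∈ s, I i).radical := by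
  classical
  induction s using Finset.induction with
  | empty => simp [Ideal.one_eq_top, Ideal.radical_top]
  | @insert a s ha ih =>
    rw [Finset.prod_insert ha, Ideal.radical_mul]
    exact ⟨h a (Finset.mem_insert_self a s), ih fun i hi => h i (Finset.mem_insert_of_mem hi)⟩

theorem exists_factor_of_mul {L : Type u} [CommRing L] {a : L} {I J K : Ideal L} (h : I * J * K = Ideal.span {a}) :
    ∃ K' : Ideal L, I * K' = Ideal.span {a} := ⟨J * K, by rw [← mul_assoc, h]⟩

/-- `J'` flattens `G₀` over the algebras of a chart on which `h` is invertible. -/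
def ChartFlattens (R : Type u) [CommRing R] (R1 : Type u) [CommRing R1] [Algebra R R1] (x : R) (h : R1)
    (J' : Ideal R) (G₀ : Type u) [AddCommGroup G₀] [Module R G₀] : Prop :=
  ∀ (L : Type u) [CommRing L] [Algebra R L] [Algebra R1 L] [IsScalarTower R R1 L] (a : L),
    IsUnit (algebraMap R1 L h) → a ∈ nonZeroDivisors L → algebraMap R L x ∣ a →
    (∃ K : Ideal L, J'.map (algebraMap R L) * K = Ideal.span {a}) → Module.Flat L (TQ L a (L ⊗[R] G₀))

/-- Finitely many pieces cover a chart. -/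
theorem exists_chart_centre {R : Type u} [CommRing R] (R1 : Type u) [CommRing R1] [Algebra R R1] (x : R)
    (Z : Ideal R) (G₀ : Type u) [AddCommGroup G₀] [Module R G₀]
    (hp : ∀ P : PrimeSpectrum R1, ∃ (h : R1) (J' : Ideal R), h ∉ P.asIdeal ∧ J'.FG ∧ Z ≤ J'.radical ∧
      ChartFlattens R R1 x h J' G₀) :
    ∃ J : Ideal R, J.FG ∧ Z ≤ J.radical ∧ ChartFlattens R R1 x 1 J G₀ := by
  classical
  choose h J' hh hJ' hZJ' hflat using hp
  obtain ⟨t, ht⟩ := isCompact_univ.elim_finite_subcover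
    (fun q => (PrimeSpectrum.basicOpen (h q) : Set (PrimeSpectrum R1)))
    (fun q => (PrimeSpectrum.basicOpen (h q)).isOpen) fun q _ => Set.mem_iUnion.2 ⟨q, hh q⟩
  refine ⟨∏ q ∈ t, J' q, fg_prod t hJ', fun z hz => mem_radical_prod _ fun q _ => hZJ' q hz, ?_⟩
  intro L _ _ _ _ a _ ha hxa ⟨K, hK⟩
  refine flat_tq_of_local fun Q hQ => ?_
  obtain ⟨q, hq, hqQ⟩ := Set.mem_iUnion₂.1
    (ht (Set.mem_univ (⟨Q.comap (algebraMap R1 L), inferInstance⟩ : PrimeSpectrum R1)))
  refine ⟨algebraMap R1 L (h q), hqQ, ?_⟩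
  let L₂ := Localization.Away (algebraMap R1 L (h q))
  refine flat_tq_congr (AlgebraTensorModule.cancelBaseChange R L L₂ L₂ G₀) ?_
  refine hflat q L₂ _ (by rw [IsScalarTower.algebraMap_apply R1 L L₂]; exact IsLocalization.Away.algebraMap_isUnit _)
    (IsLocalization.map_nonZeroDivisors_le (Submonoid.powers (algebraMap R1 L (h q))) L₂ (Submonoid.mem_map_of_mem _ ha))
    (by rw [IsScalarTower.algebraMap_apply R L L₂]; exact map_dvd _ hxa)
    ⟨(∏ p ∈ t.erase q, J' p).map (algebraMap R L₂) * K.map (algebraMap L L₂), ?_⟩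
  rw [← mul_assoc, ← Ideal.map_mul, Finset.mul_prod_erase t J' hq, IsScalarTower.algebraMap_eq R L L₂,
    ← Ideal.map_map, ← Ideal.map_mul, hK, Ideal.map_span, Set.image_singleton]

set_option maxHeartbeats 800000 in
/-- **Flattening over a smooth algebra with integral fibres.** -/
theorem flattenable_of_fibresDomain {R D : Type u} [CommRing R] [CommRing D] [Algebra R D]
    [Algebra.FinitePresentation R D] [Module.Flat R D] {n : ℕ} (hA : FlattenBelow.{u} n)
    (hdom : FlatMorDevissage.FibresDomain R D) (hD : FlatCA.SmoothRelDim n R D) (G : Type u) [AddCommGroup G]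
    [Module D G] [Module R G] [IsScalarTower R D G] [Module.Finite D G] (zs : Finset R)
    (hgood : ∀ z ∈ zs, Good R D G z) : Flattenable (Ideal.span (zs : Set R)) G := by
  classical
  have := FlatMorDevissage.projective_of_fibresDomain hdom
  obtain ⟨G₀, _, _, _, _, π, hfp, hπ, hker⟩ := exists_fp_model G zs hgood
  have hgood₀ : ∀ z ∈ zs, Good R D G₀ z := fun z hz => (good_iff_of_killed π hπ (hker z hz)).2 (hgood z hz)
  obtain ⟨N, gens, hgens⟩ := FittLib.exists_generators D G₀
  choose T hTfg hT hTz using exists_compl (R := R) (D := D) hdom G₀ zs hgood₀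
  let K := fun k => FlatMorBlowFree.cont R (Fitt.ideal D G₀ k)
  let Z : Ideal R := Ideal.span (zs : Set R)
  have hZ : Z.FG := ⟨zs, rfl⟩
  let s := Finset.range (N + 1)
  let J0 : Ideal R := Z * ∏ k ∈ s, (K k ⊔ T k)
  have hJ0fg : J0.FG := Submodule.FG.mul hZ
    (fg_prod s fun k => Submodule.FG.sup (FlatMorBlowFree.cont_fg (FittLib.ideal_fg k)) (hTfg k))
  have hJ0k : ∀ k ≤ N, ∃ J' : Ideal R, (K k ⊔ T k) * J' = J0 := fun k hk =>
    ⟨Z * ∏ j ∈ s.erase k, (K j ⊔ T j), by
      rw [mul_left_comm, Finset.mul_prod_erase s (fun j => K j ⊔ T j) (Finset.mem_range.2 (Nat.lt_succ_of_le hk))]⟩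
  have hZJ0 : Z ≤ J0.radical := Ideal.span_le.2 fun z hz => by
    rw [SetLike.mem_coe, Ideal.radical_mul]
    exact ⟨Ideal.le_radical (Ideal.subset_span hz), mem_radical_prod _ fun k _ => hTz k z hz⟩
  obtain ⟨s0, hs0⟩ := hJ0fg
  have hchart : ∀ x : s0, ∃ J : Ideal R, J.FG ∧ Z ≤ J.radical ∧
      ChartFlattens R (BlowUp.affineAlgebra R J0 x.1) x.1 1 J G₀ := fun x =>
    exists_chart_centre _ x.1 Z G₀ fun P =>
      exists_piece hA hdom hD G₀ zs hgood₀ N (FittLib.ideal_eq_top_of_span gens hgens le_rfl) T hTfg hT J0 hJ0k hZJ0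
        (x := x.1) (hs0.le (Ideal.subset_span x.2)) P.asIdeal
  choose J' hJ' hZJ' hflat using hchart
  let Jp := ∏ p, J' p
  refine ⟨Z * (J0 * Jp), Submodule.FG.mul hZ (Submodule.FG.mul ⟨s0, hs0⟩ (fg_prod _ hJ')),
    Ideal.mul_le_left.trans Ideal.le_radical, ?_, ?_⟩
  · intro z hz
    rw [Ideal.radical_mul, Ideal.radical_mul]
    exact ⟨Ideal.le_radical hz, hZJ0 hz, mem_radical_prod _ fun p _ => hZJ' p hz⟩
  intro L _ _ a ha ⟨K', hK'⟩
  rw [Ideal.map_mul, Ideal.map_mul] at hK'
  have haZ : a ∈ Ideal.span ((zs.image (algebraMap R L) : Finset L) : Set L) := by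
    rw [Finset.coe_image, ← Ideal.map_span]
    exact Ideal.mul_le_left (hK'.ge.trans (by rw [mul_assoc]) (Ideal.mem_span_singleton_self a))
  -- replace `G` by its model
  refine (IsTorQuot.comp_of_killed (g := π.restrictScalars R |>.baseChange L) ?_ ?_
    (isTorQuot_mkQ (a := a) (M := L ⊗[R] G))).flat_iff.2 ?_
  · exact LinearMap.lTensor_surjective L (show Surjective (π.restrictScalars R) from hπ)
  · intro m hm
    refine exists_pow_smul_of_mem_radical (Ideal.le_radical haZ) fun z' hz' => ?_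
    obtain ⟨z, hz, rfl⟩ := Finset.mem_image.1 hz'
    exact (exists_killed_baseChange (π.restrictScalars R) hπ z fun w hw => hker z hz w hw).2 m hm
  -- localise on the chart
  refine flat_tq_of_local fun Q hQ => ?_
  obtain ⟨y, hy, h₀, hh₀, hynz, hyspan⟩ := exists_chart (s0.image (algebraMap R L))
    (Z.map (algebraMap R L) * (Jp.map (algebraMap R L) * K')) ha (by
      rw [Finset.coe_image, ← Ideal.map_span, show Ideal.span (s0 : Set R) = J0 from hs0, ← hK']
      ring) Q hQ
  obtain ⟨x, hx, rfl⟩ := Finset.mem_image.1 hy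
  refine ⟨h₀, hh₀, ?_⟩
  let L₁ := Localization.Away h₀
  have hJ0L : J0.map (algebraMap R L₁) = Ideal.span {algebraMap R L₁ x} := by
    rw [show J0 = Ideal.span (s0 : Set R) from hs0.symm, IsScalarTower.algebraMap_eq R L L₁, ← Ideal.map_map,
      Ideal.map_span (algebraMap R L), ← Finset.coe_image, RingHom.comp_apply]
    exact hyspan
  obtain ⟨ψ⟩ := exists_chart_hom (I := J0) (x := x) (L := L₁)
    (by rw [IsScalarTower.algebraMap_apply R L L₁]; exact hynz) hJ0L.le
  let _ := ψ.toRingHom.toAlgebra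
  have : IsScalarTower R (BlowUp.affineAlgebra R J0 x) L₁ := .of_algebraMap_eq fun r => (ψ.commutes r).symm
  let a₁ := algebraMap L L₁ a
  have ha₁ : a₁ ∈ nonZeroDivisors L₁ :=
    IsLocalization.map_nonZeroDivisors_le (Submonoid.powers h₀) L₁ (Submonoid.mem_map_of_mem _ ha)
  refine flat_tq_congr (AlgebraTensorModule.cancelBaseChange R L L₁ L₁ G₀) ?_
  have hK₁ : Z.map (algebraMap R L₁) * (J0.map (algebraMap R L₁) * Jp.map (algebraMap R L₁)) *
      K'.map (algebraMap L L₁) = Ideal.span {a₁} := by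
    have h := congrArg (Ideal.map (algebraMap L L₁)) hK'
    rw [Ideal.map_mul, Ideal.map_mul, Ideal.map_mul, Ideal.map_map, Ideal.map_map, Ideal.map_map,
      ← IsScalarTower.algebraMap_eq, Ideal.map_span (algebraMap L L₁) {a}, Set.image_singleton] at h
    exact h
  refine hflat ⟨x, hx⟩ L₁ a₁ (by rw [map_one]; exact isUnit_one) ha₁ ?_ ?_
  · obtain ⟨K₂, hK₂⟩ := exists_factor_of_mul (I := J0.map (algebraMap R L₁)) (J := Z.map (algebraMap R L₁) *
      Jp.map (algebraMap R L₁)) (K := K'.map (algebraMap L L₁)) (a := a₁) (by rw [← hK₁]; ring)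
    rw [hJ0L] at hK₂
    exact Ideal.mem_span_singleton.1 ((Ideal.mul_le_left (J := K₂)) (hK₂.ge (Ideal.mem_span_singleton_self _)))
  · refine exists_factor_of_mul (J := Z.map (algebraMap R L₁) * (J0.map (algebraMap R L₁) *
      (∏ p ∈ Finset.univ.erase ⟨x, hx⟩, J' p).map (algebraMap R L₁))) (K := K'.map (algebraMap L L₁)) ?_
    rw [← hK₁, show Jp = J' ⟨x, hx⟩ * ∏ p ∈ Finset.univ.erase ⟨x, hx⟩, J' p from
      (Finset.mul_prod_erase Finset.univ J' (Finset.mem_univ _)).symm, Ideal.map_mul (algebraMap R L₁) (J' ⟨x, hx⟩)]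
    ring

end Groth.Agent.FlatMorFlatten
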