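import Groth.Agent.FlatMorFlatten.Good
import Groth.Agent.FlatMorBlowFree.Dichotomy
import Groth.Agent.CAlgH3.FittStrictFree
import Groth.Agent.FlatMorDevissage.FibreSupport
import Groth.Agent.FlatMorDevissage.FPFlat
import Groth.Agent.FlatMorDevissage.IntegralProjective

/-! One dévissage step of flattening: generic bases and dichotomy of Fitting contents. -/

set_option autoImplicit false
set_option backward.isDefEq.respectTransparency false
set_option linter.style.haveILetI false

universe u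

open TensorProduct Function

namespace Groth.Agent.FlatMorFlatten

open Groth.Agent

/-- A finitely presented module agreeing with a good one where the `z`'s are invertible. -/
theorem exists_fp_model {R D : Type u} [CommRing R] [CommRing D] [Algebra R D] (G : Type u) [AddCommGroup G]
    [Module D G] [Module R G] [IsScalarTower R D G] [Module.Finite D G] (zs : Finset R)
    (hgood : ∀ z ∈ zs, Good R D G z) :
    ∃ (G₀ : Type u) (_ : AddCommGroup G₀) (_ : Module D G₀) (_ : Module R G₀) (_ : IsScalarTower R D G₀)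
      (π : G₀ →ₗ[D] G), Module.FinitePresentation D G₀ ∧ Surjective π ∧
        ∀ z ∈ zs, ∀ w, π w = 0 → ∃ e : ℕ, z ^ e • w = 0 := by
  classical
  obtain ⟨m, π, hπ⟩ := Module.Finite.exists_fin' D G
  have hz : ∀ z : zs, ∃ K₀ : Submodule D (Fin m → D), K₀.FG ∧ K₀ ≤ LinearMap.ker π ∧
      ∀ x ∈ LinearMap.ker π, ∃ e : ℕ, algebraMap R D z.1 ^ e • x ∈ K₀ := fun z => by
    obtain ⟨K₀, hfg, hle, hK⟩ := (FlatMorDevissage.fp_localized_iff π hπ _).1 (hgood z.1 z.2).1
    exact ⟨K₀, hfg, hle, fun x hx => by obtain ⟨_, ⟨e, rfl⟩, he⟩ := hK x hx; exact ⟨e, he⟩⟩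
  choose K hK hKle hKz using hz
  let K₀ := Finset.univ.sup K
  have hKfg : K₀.FG := Submodule.fg_finset_sup _ _ fun i _ => hK i
  refine ⟨(Fin m → D) ⧸ K₀, inferInstance, inferInstance, inferInstance, inferInstance,
    K₀.liftQ π (Finset.sup_le fun i _ => hKle i), ?_, fun g => ?_, fun z hz w hw => ?_⟩
  · exact Module.finitePresentation_of_surjective K₀.mkQ K₀.mkQ_surjective (by rwa [Submodule.ker_mkQ])
  · obtain ⟨x, rfl⟩ := hπ g
    exact ⟨K₀.mkQ x, rfl⟩
  · obtain ⟨x, rfl⟩ := K₀.mkQ_surjective w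
    obtain ⟨e, he⟩ := hKz ⟨z, hz⟩ x hw
    refine ⟨e, ?_⟩
    rw [← algebraMap_smul D (z ^ e), map_pow, ← map_smul, Submodule.mkQ_apply, Submodule.Quotient.mk_eq_zero]
    exact Finset.le_sup (f := K) (Finset.mem_univ _) he

/-- The complement of a content of a Fitting ideal where the module is good. -/
theorem exists_compl {R D : Type u} [CommRing R] [CommRing D] [Algebra R D] [Module.Flat R D]
    [Module.Projective R D] (hdom : FlatMorDevissage.FibresDomain R D) (G₀ : Type u) [AddCommGroup G₀]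
    [Module D G₀] [Module R G₀] [IsScalarTower R D G₀] [Module.FinitePresentation D G₀] (zs : Finset R)
    (hgood : ∀ z ∈ zs, Good R D G₀ z) (k : ℕ) :
    ∃ T : Ideal R, T.FG ∧ (∀ t ∈ T, ∀ c ∈ FlatMorBlowFree.cont R (Fitt.ideal D G₀ k), t * c = 0) ∧
      ∀ z ∈ zs, z ∈ (FlatMorBlowFree.cont R (Fitt.ideal D G₀ k) ⊔ T).radical := by
  classical
  set K := FlatMorBlowFree.cont R (Fitt.ideal D G₀ k) with hKdef
  let A : Ideal R :=
    { carrier := {t | ∀ c ∈ K, t * c = 0}
      add_mem' := fun ha hb c hc => by rw [add_mul, ha c hc, hb c hc, add_zero]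
      zero_mem' := fun c _ => zero_mul c
      smul_mem' := fun r t ht c hc => by rw [smul_eq_mul, mul_assoc, ht c hc, mul_zero] }
  have hrad : ∀ z ∈ zs, z ∈ (K ⊔ A).radical := by
    intro z hz
    rw [Ideal.radical_eq_sInf, Submodule.mem_sInf]
    rintro (p : Ideal R) ⟨hle, hp⟩
    by_contra hzp
    have := FlatMorDevissage.isPrime_map_of_fibresDomain hdom p
    have hq : algebraMap R D z ∉ p.map (algebraMap R D) := fun h => by
      have h1 : (1 : p.ResidueField) ⊗ₜ[R] (algebraMap R D z) = 0 := by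
        have hle : p.map (algebraMap R D) ≤ RingHom.ker
            (Algebra.TensorProduct.includeRight : D →ₐ[R] p.ResidueField ⊗[R] D).toRingHom :=
          Ideal.map_le_iff_le_comap.2 fun c hc => by
            show (Algebra.TensorProduct.includeRight : D →ₐ[R] p.ResidueField ⊗[R] D) (algebraMap R D c) = 0
            rw [AlgHom.commutes, IsScalarTower.algebraMap_apply R p.ResidueField,
              Ideal.algebraMap_residueField_eq_zero.2 hc, map_zero]
        exact hle h
      have h2 : (Algebra.TensorProduct.includeRight : D →ₐ[R] p.ResidueField ⊗[R] D) (algebraMap R D z) = 0 := h1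
      rw [AlgHom.commutes, IsScalarTower.algebraMap_apply R p.ResidueField] at h2
      have := hdom p.ResidueField
      exact hzp (Ideal.algebraMap_residueField_eq_zero.1 ((map_eq_zero _).1 h2))
    have : Module.Flat R (LocalizedModule (p.map (algebraMap R D)).primeCompl G₀) := (hgood z hz).flatAt _ hq
    rcases FlatMorBlowFree.cont_dichotomy (M := G₀) hdom p k with h | ⟨s, hs, hsK⟩
    · exact h ((le_sup_left : K ≤ K ⊔ A).trans hle)
    · exact hs (hle (Ideal.mem_sup_right (show s ∈ A from hsK)))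
  have hfin : ∀ z : zs, ∃ t ∈ A, z.1 ∈ (K ⊔ Ideal.span {t}).radical := fun z => by
    obtain ⟨m, hm⟩ := hrad z.1 z.2
    obtain ⟨c, hc, t, ht, hct⟩ := Submodule.mem_sup.1 hm
    exact ⟨t, ht, m, Submodule.mem_sup.2 ⟨c, hc, t, Ideal.mem_span_singleton_self t, hct⟩⟩
  choose t htA htz using hfin
  refine ⟨Ideal.span (Finset.univ.image t : Finset R), ⟨_, rfl⟩, fun s hs c hc => ?_, fun z hz => ?_⟩
  · have hle : Ideal.span ((Finset.univ.image t : Finset R) : Set R) ≤ A := Ideal.span_le.2 fun w hw => by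
      obtain ⟨i, -, rfl⟩ := Finset.mem_image.1 hw
      exact htA i
    exact hle hs c hc
  · refine Ideal.radical_mono (sup_le_sup le_rfl (Ideal.span_mono ?_)) (htz ⟨z, hz⟩)
    intro w hw
    rw [Set.mem_singleton_iff] at hw
    rw [hw]
    exact Finset.mem_image_of_mem t (Finset.mem_univ _)

/-- A finitely generated ideal of a localisation comes from the ring. -/
theorem exists_lift_away {R : Type u} [CommRing R] (h : R) (Z : Ideal R) (hZ : Z.FG)
    (J : Ideal (Localization.Away h)) (hJ : J.FG) (hZJ : Z.map (algebraMap R _) ≤ J.radical) :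
    ∃ J₁ : Ideal R, J₁.FG ∧ Z ≤ J₁.radical ∧ J₁.map (algebraMap R (Localization.Away h)) = J := by
  classical
  obtain ⟨s, hs⟩ := hJ
  have hrep : ∀ j : s, ∃ n : R, ∃ u : Localization.Away h, IsUnit u ∧ algebraMap R _ n = u * j.1 := fun j => by
    obtain ⟨⟨n, d⟩, hnd⟩ := IsLocalization.surj (Submonoid.powers h) j.1
    exact ⟨n, _, IsLocalization.map_units _ d, by rw [mul_comm]; exact hnd.symm⟩
  choose n v hv hn using hrep
  obtain ⟨M, hM⟩ := Ideal.exists_pow_le_of_le_radical_of_fg hZJ (hZ.map _)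
  refine ⟨Ideal.span (Finset.univ.image n : Finset R) ⊔ Z ^ M,
    Submodule.FG.sup ⟨_, rfl⟩ (Submodule.FG.pow hZ M), fun z hz => ⟨M, Ideal.mem_sup_right (Ideal.pow_mem_pow hz M)⟩, ?_⟩
  rw [Ideal.map_sup, Ideal.map_pow, Ideal.map_span, Finset.coe_image, ← Set.image_comp]
  refine le_antisymm (sup_le (Ideal.span_le.2 ?_) hM) (hs.ge.trans ((Ideal.span_le.2 ?_).trans le_sup_left))
  · rintro _ ⟨j, -, rfl⟩
    show algebraMap R _ (n j) ∈ J
    rw [hn j]
    exact Ideal.mul_mem_left _ _ (hs ▸ Ideal.subset_span j.2)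
  · intro w hw
    obtain ⟨u', hu'⟩ := (hv ⟨w, hw⟩).exists_left_inv
    rw [show w = u' * algebraMap R _ (n ⟨w, hw⟩) by rw [hn, ← mul_assoc, hu', one_mul]]
    exact Ideal.mul_mem_left _ _ (Ideal.subset_span ⟨⟨w, hw⟩, Finset.mem_coe.2 (Finset.mem_univ _), rfl⟩)

/-- A finite product of copies of a universally injective endomorphism. -/
theorem univInj_pi {W D : Type u} [CommRing W] [AddCommGroup D] [Module W D] {l : D →ₗ[W] D} (r : ℕ)
    (hl : FlatCA.UnivInj W l) (G : (Fin r → D) →ₗ[W] (Fin r → D)) (hG : ∀ x i, G x i = l (x i)) :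
    FlatCA.UnivInj W G := by
  intro Q _ _
  refine (injective_iff_map_eq_zero _).2 fun z hz => ?_
  let pr : Fin r → (Fin r → D) →ₗ[W] D := fun i => LinearMap.proj i
  let sg : Fin r → D →ₗ[W] (Fin r → D) := fun i => LinearMap.single W (fun _ => D) i
  have hcomp : ∀ i, pr i ∘ₗ G = l ∘ₗ pr i := fun i => LinearMap.ext fun x => hG x i
  have hsum : ∑ i, sg i ∘ₗ pr i = LinearMap.id := LinearMap.ext fun x => by
    simp [pr, sg, Finset.univ_sum_single]
  have h0 : ∀ i, (pr i).lTensor Q z = 0 := fun i => hl Q (by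
    rw [map_zero, ← LinearMap.comp_apply, ← LinearMap.lTensor_comp, ← hcomp, LinearMap.lTensor_comp,
      LinearMap.comp_apply, hz, map_zero])
  have hsum' : ∑ i, (sg i ∘ₗ pr i).lTensor Q = LinearMap.id := by
    rw [← LinearMap.coe_lTensorHom, ← map_sum, hsum]
    exact LinearMap.lTensor_id Q (Fin r → D)
  calc z = (∑ i, (sg i ∘ₗ pr i).lTensor Q) z := by rw [hsum', LinearMap.id_apply]
    _ = 0 := by
      rw [LinearMap.sum_apply]
      exact Finset.sum_eq_zero fun i _ => by rw [LinearMap.lTensor_comp, LinearMap.comp_apply, h0 i, map_zero]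

end Groth.Agent.FlatMorFlatten
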