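import Groth.Agent.FlatMorFlatten.StalkStrict
import Groth.Agent.FittLib.StrictTransform
import Groth.Agent.FlatCxLib.Algebra
import Groth.Agent.FlatMorDevissage.FibreInjective
import Groth.Agent.FlatMorDevissage.Fibres
import Mathlib.RingTheory.Flat.Localization
import Mathlib.RingTheory.IsTensorProduct

/-! Quotients by power torsion, flattening ideals and extensions with nilpotent cokernel. -/

set_option autoImplicit false
set_option backward.isDefEq.respectTransparency false
set_option linter.style.haveILetI false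

universe u

open TensorProduct Function

namespace Groth.Agent.FlatMorFlatten

open Groth.Agent

/-- The quotient by the power torsion of `a`. -/
abbrev TQ (L : Type u) [CommRing L] (a : L) (M : Type u) [AddCommGroup M] [Module L M] :=
  M ⧸ FlatCA.powTorsion L a M

section

variable {L : Type u} [CommRing L] {a : L} {M M' Q : Type u} [AddCommGroup M] [Module L M] [AddCommGroup M']
  [Module L M'] [AddCommGroup Q] [Module L Q]

theorem mem_powTorsion_iff {m : M} : m ∈ FlatCA.powTorsion L a M ↔ ∃ n : ℕ, a ^ n • m = 0 :=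
  ⟨FittLib.exists_pow_smul_of_mem_powTorsion, fun ⟨n, hn⟩ =>
    Submodule.mem_iSup_of_mem n ((Submodule.mem_torsionBy_iff _ _).2 hn)⟩

theorem isTorQuot_mkQ : IsTorQuot a (FlatCA.powTorsion L a M).mkQ :=
  ⟨Submodule.mkQ_surjective _, fun m => by
    rw [Submodule.mkQ_apply, Submodule.Quotient.mk_eq_zero, mem_powTorsion_iff]⟩

theorem IsTorQuot.exists_equiv_tq {f : M →ₗ[L] Q} (h : IsTorQuot a f) : Nonempty (Q ≃ₗ[L] TQ L a M) :=
  h.exists_equiv isTorQuot_mkQ

theorem IsTorQuot.flat_iff {f : M →ₗ[L] Q} (h : IsTorQuot a f) :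
    Module.Flat L Q ↔ Module.Flat L (TQ L a M) := by
  obtain ⟨e⟩ := h.exists_equiv_tq
  exact Module.Flat.equiv_iff e

/-- Torsion quotients see only the module up to torsion. -/
theorem IsTorQuot.comp_of_killed {g : M →ₗ[L] M'} (hs : Surjective g)
    (hk : ∀ m, g m = 0 → ∃ n : ℕ, a ^ n • m = 0) {f : M' →ₗ[L] Q} (h : IsTorQuot a f) :
    IsTorQuot a (f ∘ₗ g) := by
  refine isTorQuot_of_regular (h.1.comp hs) (fun m hm => ?_) h.regular
  obtain ⟨n, hn⟩ := (h.2 (g m)).1 hm
  rw [← map_smul] at hn
  obtain ⟨k, hk'⟩ := hk _ hn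
  exact ⟨k + n, by rw [pow_add, mul_smul, hk']⟩

theorem flat_tq_of_surjective (g : M →ₗ[L] M') (hs : Surjective g)
    (hk : ∀ m, g m = 0 → ∃ n : ℕ, a ^ n • m = 0) (h : Module.Flat L (TQ L a M')) :
    Module.Flat L (TQ L a M) :=
  (IsTorQuot.comp_of_killed hs hk isTorQuot_mkQ).flat_iff.1 h

theorem flat_tq_congr (e : M ≃ₗ[L] M') (h : Module.Flat L (TQ L a M')) : Module.Flat L (TQ L a M) :=
  flat_tq_of_surjective e.toLinearMap e.surjective (fun m hm => ⟨0, by
    rw [e.map_eq_zero_iff.1 hm, smul_zero]⟩) h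

theorem isSMulRegular_tq : IsSMulRegular (TQ L a M) a := isTorQuot_mkQ.regular

/-- The quotient by the torsion commutes with flat base change. -/
theorem isTorQuot_baseChange {L' : Type u} [CommRing L'] [Algebra L L'] [Module.Flat L L'] {f : M →ₗ[L] Q}
    (h : IsTorQuot a f) : IsTorQuot (algebraMap L L' a) (f.baseChange L') := by
  obtain ⟨hs, hk⟩ := exists_killed_baseChange (R' := L') f h.1 a fun m hm => (h.2 m).1 hm
  exact isTorQuot_of_regular hs hk (regular_baseChange h.regular)

/-- Flatness of the quotient by the torsion is local. -/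
theorem flat_tq_of_local (h : ∀ P : Ideal L, P.IsPrime → ∃ h₀ ∉ P,
      Module.Flat (Localization.Away h₀) (TQ (Localization.Away h₀) (algebraMap L (Localization.Away h₀) a)
        (Localization.Away h₀ ⊗[L] M))) :
    Module.Flat L (TQ L a M) := by
  let s : Set L := {h₀ | Module.Flat (Localization.Away h₀) (TQ (Localization.Away h₀)
    (algebraMap L (Localization.Away h₀) a) (Localization.Away h₀ ⊗[L] M))}
  have hspan : Ideal.span s = ⊤ := by
    by_contra hne
    obtain ⟨P, hP, hle⟩ := Ideal.exists_le_maximal _ hne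
    obtain ⟨h₀, hh, hfl⟩ := h P hP.isPrime
    exact hh (hle (Ideal.subset_span hfl))
  refine Module.flat_of_isLocalized_span (R := L) L (M := TQ L a M) s hspan
    (fun r => Localization.Away r.1 ⊗[L] TQ L a M) (fun r => TensorProduct.mk L _ _ 1) fun r => ?_
  have h1 : Module.Flat (Localization.Away r.1) (Localization.Away r.1 ⊗[L] TQ L a M) :=
    (isTorQuot_baseChange (L' := Localization.Away r.1) (isTorQuot_mkQ (a := a) (M := M))).flat_iff.2 r.2
  exact Module.Flat.trans L (Localization.Away r.1) _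

/-- An element of a finitely generated ideal kills what all generators kill. -/
theorem exists_pow_smul_of_mem_radical {s : Finset L} (ha : a ∈ (Ideal.span (s : Set L)).radical) {m : M}
    (h : ∀ z ∈ s, ∃ n : ℕ, z ^ n • m = 0) : ∃ n : ℕ, a ^ n • m = 0 := by
  have hle : Ideal.span (s : Set L) ≤ (Ideal.torsionOf L M m).radical := Ideal.span_le.2 fun z hz => by
    obtain ⟨n, hn⟩ := h z hz
    exact ⟨n, hn⟩
  obtain ⟨n, hn⟩ := (Ideal.radical_le_radical_iff.2 hle) ha
  exact ⟨n, hn⟩

end

/-- `J` flattens `N`: wherever `J` becomes a factor of an invertible ideal `(a)`, the quotient of the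
base change of `N` by its `a`-torsion is flat. -/
def Flattens {R : Type u} [CommRing R] (J : Ideal R) (N : Type u) [AddCommGroup N] [Module R N] : Prop :=
  ∀ (L : Type u) [CommRing L] [Algebra R L] (a : L), a ∈ nonZeroDivisors L →
    (∃ K : Ideal L, J.map (algebraMap R L) * K = Ideal.span {a}) → Module.Flat L (TQ L a (L ⊗[R] N))

/-- `N` can be flattened by a centre supported on the zero set of `Z`. -/
def Flattenable {R : Type u} [CommRing R] (Z : Ideal R) (N : Type u) [AddCommGroup N] [Module R N] : Prop :=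
  ∃ J : Ideal R, J.FG ∧ J ≤ Z.radical ∧ Z ≤ J.radical ∧ Flattens J N

theorem Flattens.congr {R : Type u} [CommRing R] {J : Ideal R} {N N' : Type u} [AddCommGroup N] [Module R N]
    [AddCommGroup N'] [Module R N'] (h : Flattens J N) (e : N' ≃ₗ[R] N) : Flattens J N' :=
  fun L _ _ a ha hK => flat_tq_congr (e.baseChange R L) (h L a ha hK)

theorem Flattens.mul {R : Type u} [CommRing R] {J J' : Ideal R} {N : Type u} [AddCommGroup N] [Module R N]
    (h : Flattens J N) : Flattens (J * J') N := by
  intro L _ _ a ha ⟨K, hK⟩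
  exact h L a ha ⟨J'.map (algebraMap R L) * K, by rw [← mul_assoc, ← Ideal.map_mul, hK]⟩

/-- A flattening centre also applies after pulling back to any algebra. -/
theorem Flattens.of_tower {R W L : Type u} [CommRing R] [CommRing W] [CommRing L] [Algebra R W] [Algebra W L]
    [Algebra R L] [IsScalarTower R W L] {N : Type u} [AddCommGroup N] [Module R N] {J : Ideal W}
    (h : Flattens J (W ⊗[R] N)) {a : L} (ha : a ∈ nonZeroDivisors L)
    (hK : ∃ K : Ideal L, J.map (algebraMap W L) * K = Ideal.span {a}) :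
    Module.Flat L (TQ L a (L ⊗[R] N)) :=
  flat_tq_congr (AlgebraTensorModule.cancelBaseChange R W L L N).symm (h L a ha hK)

/-- An extension with torsion-killed sequence: if `α` has the left inverse up to an endomorphism `G`
which is injective modulo every ideal of `L`, flatness of the cokernel gives flatness. -/
theorem flat_tq_of_extension {L : Type u} [CommRing L] {a : L} (ha : a ∈ nonZeroDivisors L)
    {P M : Type u} [AddCommGroup P] [Module L P] [AddCommGroup M] [Module L M] [Module.Flat L P]
    (α : P →ₗ[L] M) (β : M →ₗ[L] P) (G : P →ₗ[L] P) (hβα : β ∘ₗ α = G) (hG : Injective G)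
    (hGa : ∀ x y : P, G x = a • y → ∃ z, x = a • z)
    (hC : Module.Flat L (TQ L a (M ⧸ LinearMap.range α))) :
    Module.Flat L (TQ L a M) := by
  let π := (FlatCA.powTorsion L a M).mkQ
  let α' : P →ₗ[L] TQ L a M := π ∘ₗ α
  have hregP : IsSMulRegular P a := fun x y h => Module.Flat.isSMulRegular_of_nonZeroDivisors ha h
  have hG' : ∀ x, G x = β (α x) := fun x => by rw [← hβα]; rfl
  have hinj : Injective α' := (injective_iff_map_eq_zero _).2 fun x hx => by
    obtain ⟨n, hn⟩ := (isTorQuot_mkQ.2 (α x)).1 hx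
    refine hG ?_
    rw [map_zero]
    refine (hregP.pow n).right_eq_zero_of_smul ?_
    rw [hG', ← map_smul, hn, map_zero]
  let ψ : (M ⧸ LinearMap.range α) →ₗ[L] TQ L a M ⧸ LinearMap.range α' :=
    Submodule.mapQ _ _ π (by rintro _ ⟨x, rfl⟩; exact ⟨x, rfl⟩)
  have hψ : IsTorQuot a ψ := by
    refine isTorQuot_of_regular ?_ (fun w hw => ?_) (isSMulRegular_iff_right_eq_zero_of_smul.2 fun c hc => ?_)
    · intro c
      obtain ⟨q, rfl⟩ := Submodule.mkQ_surjective _ c
      obtain ⟨m, rfl⟩ := Submodule.mkQ_surjective _ q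
      exact ⟨Submodule.Quotient.mk m, rfl⟩
    · obtain ⟨m, rfl⟩ := Submodule.mkQ_surjective _ w
      change Submodule.Quotient.mk (π m) = 0 at hw
      obtain ⟨x, hx⟩ := (Submodule.Quotient.mk_eq_zero _).1 hw
      have h0 : π (α x - m) = 0 := by rw [map_sub, sub_eq_zero]; exact hx
      obtain ⟨n, hn⟩ := (isTorQuot_mkQ.2 _).1 h0
      refine ⟨n, ?_⟩
      rw [Submodule.mkQ_apply, ← Submodule.Quotient.mk_smul, Submodule.Quotient.mk_eq_zero]
      exact ⟨a ^ n • x, by rw [map_smul]; exact sub_eq_zero.1 (by rw [← smul_sub]; exact hn)⟩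
    · obtain ⟨q, rfl⟩ := Submodule.mkQ_surjective _ c
      obtain ⟨m, rfl⟩ := Submodule.mkQ_surjective _ q
      rw [Submodule.mkQ_apply, ← Submodule.Quotient.mk_smul, Submodule.Quotient.mk_eq_zero] at hc
      obtain ⟨x, hx⟩ := hc
      have h0 : π (α x - a • m) = 0 := by
        rw [map_sub, map_smul, sub_eq_zero]
        exact hx
      obtain ⟨n, hn⟩ := (isTorQuot_mkQ.2 _).1 h0
      have h1 : G x = a • β m := by
        refine sub_eq_zero.1 ((hregP.pow n).right_eq_zero_of_smul ?_)
        rw [hG', ← map_smul, ← map_sub, ← map_smul, hn, map_zero]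
      obtain ⟨z, rfl⟩ := hGa _ _ h1
      rw [Submodule.mkQ_apply, Submodule.Quotient.mk_eq_zero]
      refine ⟨z, sub_eq_zero.1 ?_⟩
      show π (α z) - π m = 0
      rw [← map_sub]
      refine (isTorQuot_mkQ.2 _).2 ⟨n + 1, ?_⟩
      rw [map_smul] at hn
      rw [pow_succ, mul_smul, smul_sub, hn]
  have := hψ.flat_iff.2 hC
  exact FlatCxLib.flat_of_exact_mid α' (LinearMap.range α').mkQ (LinearMap.exact_map_mkQ_range α')
    (Submodule.mkQ_surjective _) hinj

/-- An element not vanishing in any fibre is universally injective. -/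
theorem univInj_smul {W D : Type u} [CommRing W] [CommRing D] [Algebra W D] [Algebra.FinitePresentation W D]
    [Module.Flat W D] (hdom : FlatMorDevissage.FibresDomain W D) (g : D)
    (hg : ∀ (p : Ideal W) [p.IsPrime], (1 : p.ResidueField) ⊗ₜ[W] g ≠ 0) :
    FlatCA.UnivInj W ((LinearMap.mulLeft W g)) := by
  have : IsLocalization (⊥ : Submonoid D) D := IsLocalization.self bot_le
  have : IsLocalizedModule (⊥ : Submonoid D) (LinearMap.id : D →ₗ[D] D) := isLocalizedModule_id (⊥ : Submonoid D) D D
  refine FlatMorDevissage.univInj_of_fibres (S := D) D (⊥ : Submonoid D) (LinearMap.id : D →ₗ[D] D) _ fun p _ => ?_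
  have : IsDomain (p.ResidueField ⊗[W] D) := hdom p.ResidueField
  have hm : ∀ z, (LinearMap.mulLeft W g).lTensor p.ResidueField z = ((1 : p.ResidueField) ⊗ₜ[W] g) * z := fun z => by
    induction z using TensorProduct.induction_on with
    | zero => rw [map_zero, mul_zero]
    | tmul k x => rw [LinearMap.lTensor_tmul, LinearMap.mulLeft_apply, Algebra.TensorProduct.tmul_mul_tmul, one_mul]
    | add x y hx hy => rw [map_add, hx, hy, mul_add]
  refine (injective_iff_map_eq_zero _).2 fun z hz => ?_
  rw [hm] at hz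
  exact (mul_eq_zero.1 hz).resolve_left (hg p)

/-- Base change of an extension with a universally injective defect. -/
theorem flat_tq_of_extension_baseChange {W L : Type u} [CommRing W] [CommRing L] [Algebra W L] {a : L}
    (ha : a ∈ nonZeroDivisors L) {P M : Type u} [AddCommGroup P] [Module W P] [AddCommGroup M] [Module W M]
    [Module.Flat W P] (α : P →ₗ[W] M) (β : M →ₗ[W] P) (G : P →ₗ[W] P) (hβα : β ∘ₗ α = G)
    (hG : FlatCA.UnivInj W G) (hC : Module.Flat L (TQ L a (L ⊗[W] (M ⧸ LinearMap.range α)))) :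
    Module.Flat L (TQ L a (L ⊗[W] M)) := by
  have he : Exact (α.baseChange L) ((LinearMap.range α).mkQ.baseChange L) :=
    lTensor_exact L (LinearMap.exact_map_mkQ_range α) (Submodule.mkQ_surjective _)
  refine flat_tq_of_extension ha (α.baseChange L) (β.baseChange L) (G.baseChange L)
    (by rw [← LinearMap.baseChange_comp, hβα]) (hG L) (fun x y hxy => ?_) ?_
  · let L' := L ⧸ Ideal.span {a}
    let q : L →ₗ[W] L' := (Ideal.Quotient.mkₐ W (Ideal.span {a})).toLinearMap
    let l : L →ₗ[W] L := (LinearMap.lsmul L L a).restrictScalars W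
    have hex : Exact l q := fun c => by
      refine ⟨fun hc => ?_, ?_⟩
      · obtain ⟨d, hd⟩ := Ideal.mem_span_singleton'.1 (Ideal.Quotient.eq_zero_iff_mem.1 hc)
        exact ⟨d, show a * d = c by rw [mul_comm, hd]⟩
      · rintro ⟨d, rfl⟩
        exact Ideal.Quotient.eq_zero_iff_mem.2 (Ideal.mem_span_singleton'.2 ⟨d, mul_comm d a⟩)
    have hexP := rTensor_exact P hex Ideal.Quotient.mk_surjective
    have hl : ∀ z : L ⊗[W] P, l.rTensor P z = a • z := fun z => by
      induction z using TensorProduct.induction_on with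
      | zero => rw [map_zero, smul_zero]
      | tmul c p => rw [LinearMap.rTensor_tmul, smul_tmul']; rfl
      | add u v hu hv => rw [map_add, hu, hv, smul_add]
    have hcomm : ∀ z : L ⊗[W] P, G.lTensor L' (q.rTensor P z) = q.rTensor P (G.baseChange L z) := fun z => by
      induction z using TensorProduct.induction_on with
      | zero => simp only [map_zero]
      | tmul c p => simp
      | add u v hu hv => simp only [map_add, hu, hv]
    have h0 : q.rTensor P x = 0 := hG L' (by
      rw [map_zero, hcomm, hxy]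
      exact (hexP _).2 ⟨y, hl y⟩)
    obtain ⟨z, hz⟩ := (hexP x).1 h0
    exact ⟨z, by rw [← hl, hz]⟩
  · refine flat_tq_congr ?_ hC
    exact (Submodule.quotEquivOfEq _ _ (LinearMap.exact_iff.1 he).symm) ≪≫ₗ
      LinearMap.quotKerEquivOfSurjective _ (LinearMap.lTensor_surjective L (Submodule.mkQ_surjective _))

end Groth.Agent.FlatMorFlatten
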